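import Cfsg.Agent.LyMc.TCC
import Cfsg.Agent.LES.SatModel
import Cfsg.Agent.Spor.ModelMcL
import Cfsg.Agent.Spor.Co0Simple

set_option autoImplicit false
set_option Elab.async false
set_option maxRecDepth 100000

namespace Cfsg.Agent.LyMc

open Cfsg.Agent.Comp.BN

namespace T2
noncomputable def net0 : Net := .nil

theorem ok0 : Net.ok 2 net0 = true :=
  by decide +kernel

noncomputable def net1 : Net := .nil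

theorem ok1 : Net.ok 2 net1 = true :=
  by decide +kernel

noncomputable def net2 : Net := .nil

theorem ok2 : Net.ok 2 net2 = true :=
  by decide +kernel

noncomputable def net3 : Net := .nil

theorem ok3 : Net.ok 2 net3 = true :=
  by decide +kernel

noncomputable def net4 : Net := .nil

theorem ok4 : Net.ok 2 net4 = true :=
  by decide +kernel

noncomputable def net5 : Net := .nil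

theorem ok5 : Net.ok 2 net5 = true :=
  by decide +kernel

noncomputable def net6 : Net := .nil

theorem ok6 : Net.ok 2 net6 = true :=
  by decide +kernel

noncomputable def net7 : Net := .nil

theorem ok7 : Net.ok 2 net7 = true :=
  by decide +kernel

noncomputable def net8 : Net := .nil

theorem ok8 : Net.ok 2 net8 = true :=
  by decide +kernel

noncomputable def m9_0 : ℕ := nat_lit 0x1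

noncomputable def net9 : Net := (.cons 1 m9_0 .nil)

theorem ok9 : Net.ok 2 net9 = true :=
  by decide +kernel

noncomputable def net10 : Net := (.cons 1 m9_0 .nil)

theorem ok10 : Net.ok 2 net10 = true :=
  by decide +kernel

noncomputable def nets : List Net := [net0, net1, net2, net3, net4, net5, net6, net7, net8, net9, net10]

noncomputable def act : Act := netAct' nets
noncomputable def π : ℕ → Equiv.Perm ℕ := netPerm nets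

theorem spec : act.Spec 2 π :=
  spec_fast (netAct_spec (AllP.forall (p := fun t => Net.ok 2 t = true) ⟨ok0, ok1, ok2, ok3, ok4, ok5, ok6, ok7, ok8, ok9, ok10, trivial⟩))

theorem out : ∀ k, 11 ≤ k → π k = 1 :=
  netPerm_out nets

theorem sat_inv_0 : invC Cfsg.Agent.LyMc.T2.act Cfsg.Agent.LyMc.PT.I 2 1 Cfsg.Agent.LyMc.PT.inv.length [0] = true :=
  by decide +kernel

theorem sat_inv : ∀ k, Cfsg.Agent.LyMc.T2.π (Cfsg.Agent.LyMc.PT.I k) * Cfsg.Agent.LyMc.T2.π k = 1 :=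
  inv_of_checks Cfsg.Agent.LyMc.T2.spec (K := 1) (by decide) Cfsg.Agent.LyMc.T2.out [[0]] (by decide) ⟨sat_inv_0, trivial⟩

theorem sat_rel_0_0 : relsC Cfsg.Agent.LyMc.T2.act Cfsg.Agent.LyMc.PT.I 2 1 [[2, 2, 2], [2, 4, 2, 4], [0, 3, 4, 0, 3, 4], [0, 2, 0, 2, 0, 2], [1, 3, 4, 1, 3, 4], [1, 2, 1, 2, 1, 2], [5, 6, 5, 6, 5, 6, 5, 6], [4, 6, 4, 6, 4, 6, 4, 6], [4, 5, 4, 5, 4, 5, 4, 5], [0, 2, 4, 3, 0, 2, 4, 3], [0, 2, 0, 3, 0, 2, 0, 3], [0, 6, 4, 6, 0, 6, 4, 6], [0, 5, 0, 5, 0, 5, 0, 5], [0, 4, 0, 4, 0, 4, 0, 4], [0, 4, 0, 6, 0, 4, 0, 6], [0, 1, 0, 1, 0, 1, 0, 1], [1, 2, 4, 3, 1, 2, 4, 3], [1, 2, 1, 3, 1, 2, 1, 3], [1, 6, 1, 6, 1, 6, 1, 6], [1, 5, 4, 5, 1, 5, 4, 5], [1, 4, 1, 4, 1, 4, 1, 4], [1, 4, 1, 5, 1, 4, 1, 5], [2, 4, 5, 2, 4, 5, 2, 4, 5], [1, 4,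 5, 1, 4, 5, 1, 4, 5], [2, 4, 2, 6, 4, 2, 4, 2, 6, 4], [2, 4, 2, 5, 4, 2, 4, 2, 5, 4], [2, 4, 2, 4, 6, 2, 4, 2, 4, 6], [2, 4, 2, 4, 5, 2, 4, 2, 4, 5], [4, 5, 6, 5, 6, 4, 5, 6, 5, 6], [0, 3, 4, 3, 4, 0, 3, 4, 3, 4], [0, 2, 6, 2, 4, 0, 2, 6, 2, 4], [0, 2, 4, 2, 4, 0, 2, 4, 2, 4], [0, 2, 4, 6, 3, 0, 2, 4, 6, 3], [0, 2, 0, 3, 4, 0, 2, 0, 3, 4], [0, 2, 0, 4, 2, 0, 2, 0, 4, 2], [0, 5, 3, 4, 5, 0, 5, 3, 4, 5], [0, 5, 6, 5, 6, 0, 5, 6, 5, 6], [0, 5, 0, 5, 6, 0, 5, 0, 5, 6], [0, 4, 5, 0, 5, 0, 4, 5, 0, 5], [0, 1, 3, 4, 1, 0, 1, 3, 4, 1], [0, 1, 6, 1, 6, 0, 1, 6, 1, 6], [0, 1, 5, 0, 5, 0, 1, 5, 0, 5], [0, 1, 0, 3, 4, 0, 1, 0, 3, 4], [0, 1, 0, 1, 6, 0, 1, 0, 1, 6], [0, 1, 0, 1, 5, 0, 1, 0, 1, 5], [0, 1, 0, 1, 4, 0, 1, 0, 1, 4], [1, 3, 4, 3, 4, 1, 3, 4, 3, 4],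 [1, 2, 5, 2, 4, 1, 2, 5, 2, 4], [1, 2, 4, 2, 4, 1, 2, 4, 2, 4], [1, 2, 4, 5, 3, 1, 2, 4, 5, 3], [1, 2, 1, 3, 4, 1, 2, 1, 3, 4], [1, 2, 1, 4, 2, 1, 2, 1, 4, 2], [1, 6, 3, 4, 6, 1, 6, 3, 4, 6], [1, 5, 6, 5, 6, 1, 5, 6, 5, 6], [1, 5, 6, 1, 6, 1, 5, 6, 1, 6], [1, 4, 6, 1, 6, 1, 4, 6, 1, 6], [2, 6, 4, 2, 6, 4, 2, 6, 4, 2, 6, 4], [2, 6, 4, 6, 2, 6, 4, 6, 2, 6, 4, 6], [2, 5, 3, 4, 2, 5, 3, 4, 2, 5, 3, 4], [2, 5, 4, 2, 5, 4, 2, 5, 4, 2, 5, 4], [2, 4, 3, 4, 2, 4, 3, 4, 2, 4, 3, 4], [0, 2, 6, 0, 2, 6, 0, 2, 6, 0, 2, 6], [0, 2, 4, 0, 2, 4, 0, 2, 4, 0, 2, 4], [0, 6, 0, 6, 0, 6, 0, 6, 0, 6, 0, 6], [0, 6, 2, 6, 0, 6, 2, 6, 0, 6, 2, 6], [0, 5, 6, 5, 0, 5, 6, 5, 0, 5, 6, 5], [0, 1, 0, 5, 0, 1, 0, 5, 0, 1, 0, 5], [0, 1, 6, 1, 0, 1, 6, 1, 0, 1, 6, 1], [7, 7, 7], [3,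 8, 2, 7], [7, 4, 7, 4], [8, 1, 7, 1], [8, 3, 0, 2, 7, 0], [1, 5, 1, 7, 1, 5, 1, 7, 1, 5, 1, 7, 1, 5, 1, 7, 1, 5, 1, 7], [2, 5, 3, 4, 7, 2, 5, 3, 4, 7, 2, 5, 3, 4, 7, 2, 5, 3, 4, 7, 2, 5, 3, 4, 7], [5, 1, 5, 7, 5, 1, 5, 7, 5, 1, 5, 7, 5, 1, 5, 7, 5, 1, 5, 7], [2, 4, 5, 2, 7, 2, 4, 5, 2, 7, 2, 4, 5, 2, 7, 2, 4, 5, 2, 7, 2, 4, 5, 2, 7], [5, 4, 7, 5, 4, 7, 5, 4, 7, 5, 4, 7, 5, 4, 7, 5, 4, 7], [4, 5, 7, 4, 5, 7, 4, 5, 7, 4, 5, 7, 4, 5, 7, 4, 5, 7], [2, 6, 0, 6, 2, 7, 2, 6, 0, 6, 2, 7, 2, 6, 0, 6, 2, 7, 2, 6, 0, 6, 2, 7, 2, 6, 0, 6, 2, 7], [4, 6, 3, 4, 6, 7, 4, 6, 3, 4, 6, 7, 4, 6, 3, 4, 6, 7, 4, 6, 3, 4, 6, 7, 4, 6, 3, 4, 6, 7], [2, 4, 6, 2, 7, 2, 4, 6, 2, 7, 2, 4, 6, 2, 7, 2, 4, 6, 2, 7, 2, 4, 6, 2, 7], [0, 2, 6, 2, 7, 0, 2, 6, 2, 7, 0, 2, 6, 2, 7, 0,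 2, 6, 2, 7, 0, 2, 6, 2, 7], [0, 2, 6, 2, 6, 7, 0, 2, 6, 2, 6, 7, 0, 2, 6, 2, 6, 7, 0, 2, 6, 2, 6, 7, 0, 2, 6, 2, 6, 7], [6, 3, 4, 6, 4, 7, 6, 3, 4, 6, 4, 7, 6, 3, 4, 6, 4, 7, 6, 3, 4, 6, 4, 7, 6, 3, 4, 6, 4, 7], [9, 0, 10, 1], [9, 1, 10, 0], [9, 2, 10, 3], [9, 4, 10, 4, 0, 1, 0, 1], [9, 5, 10, 6], [9, 6, 10, 5], [9, 7, 10, 0, 1, 0, 1, 2, 7], [9, 9, 0, 1, 0, 1]] [0] = true :=
  by decide +kernel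

theorem sat_rel_0 : ∀ r ∈ ([[2, 2, 2], [2, 4, 2, 4], [0, 3, 4, 0, 3, 4], [0, 2, 0, 2, 0, 2], [1, 3, 4, 1, 3, 4], [1, 2, 1, 2, 1, 2], [5, 6, 5, 6, 5, 6, 5, 6], [4, 6, 4, 6, 4, 6, 4, 6], [4, 5, 4, 5, 4, 5, 4, 5], [0, 2, 4, 3, 0, 2, 4, 3], [0, 2, 0, 3, 0, 2, 0, 3], [0, 6, 4, 6, 0, 6, 4, 6], [0, 5, 0, 5, 0, 5, 0, 5], [0, 4, 0, 4, 0, 4, 0, 4], [0, 4, 0, 6, 0, 4, 0, 6], [0, 1, 0, 1, 0, 1, 0, 1], [1, 2, 4, 3, 1, 2, 4, 3], [1, 2, 1, 3, 1, 2, 1, 3], [1, 6, 1, 6, 1, 6, 1, 6], [1, 5, 4, 5, 1, 5, 4, 5], [1, 4, 1, 4, 1, 4, 1, 4], [1, 4, 1, 5, 1, 4, 1, 5], [2, 4, 5, 2, 4, 5, 2, 4, 5], [1, 4, 5, 1, 4, 5, 1, 4, 5], [2, 4, 2, 6, 4, 2, 4, 2, 6, 4], [2, 4, 2, 5, 4, 2, 4, 2, 5, 4], [2, 4, 2, 4, 6, 2, 4, 2, 4, 6], [2, 4, 2, 4, 5, 2, 4, 2, 4, 5], [4, 5, 6, 5, 6, 4, 5,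 6, 5, 6], [0, 3, 4, 3, 4, 0, 3, 4, 3, 4], [0, 2, 6, 2, 4, 0, 2, 6, 2, 4], [0, 2, 4, 2, 4, 0, 2, 4, 2, 4], [0, 2, 4, 6, 3, 0, 2, 4, 6, 3], [0, 2, 0, 3, 4, 0, 2, 0, 3, 4], [0, 2, 0, 4, 2, 0, 2, 0, 4, 2], [0, 5, 3, 4, 5, 0, 5, 3, 4, 5], [0, 5, 6, 5, 6, 0, 5, 6, 5, 6], [0, 5, 0, 5, 6, 0, 5, 0, 5, 6], [0, 4, 5, 0, 5, 0, 4, 5, 0, 5], [0, 1, 3, 4, 1, 0, 1, 3, 4, 1], [0, 1, 6, 1, 6, 0, 1, 6, 1, 6], [0, 1, 5, 0, 5, 0, 1, 5, 0, 5], [0, 1, 0, 3, 4, 0, 1, 0, 3, 4], [0, 1, 0, 1, 6, 0, 1, 0, 1, 6], [0, 1, 0, 1, 5, 0, 1, 0, 1, 5], [0, 1, 0, 1, 4, 0, 1, 0, 1, 4], [1, 3, 4, 3, 4, 1, 3, 4, 3, 4], [1, 2, 5, 2, 4, 1, 2, 5, 2, 4], [1, 2, 4, 2, 4, 1, 2, 4, 2, 4], [1, 2, 4, 5, 3, 1, 2, 4, 5, 3], [1, 2, 1, 3, 4, 1, 2, 1, 3, 4], [1, 2, 1, 4, 2, 1, 2, 1, 4, 2], [1, 6, 3, 4,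 6, 1, 6, 3, 4, 6], [1, 5, 6, 5, 6, 1, 5, 6, 5, 6], [1, 5, 6, 1, 6, 1, 5, 6, 1, 6], [1, 4, 6, 1, 6, 1, 4, 6, 1, 6], [2, 6, 4, 2, 6, 4, 2, 6, 4, 2, 6, 4], [2, 6, 4, 6, 2, 6, 4, 6, 2, 6, 4, 6], [2, 5, 3, 4, 2, 5, 3, 4, 2, 5, 3, 4], [2, 5, 4, 2, 5, 4, 2, 5, 4, 2, 5, 4], [2, 4, 3, 4, 2, 4, 3, 4, 2, 4, 3, 4], [0, 2, 6, 0, 2, 6, 0, 2, 6, 0, 2, 6], [0, 2, 4, 0, 2, 4, 0, 2, 4, 0, 2, 4], [0, 6, 0, 6, 0, 6, 0, 6, 0, 6, 0, 6], [0, 6, 2, 6, 0, 6, 2, 6, 0, 6, 2, 6], [0, 5, 6, 5, 0, 5, 6, 5, 0, 5, 6, 5], [0, 1, 0, 5, 0, 1, 0, 5, 0, 1, 0, 5], [0, 1, 6, 1, 0, 1, 6, 1, 0, 1, 6, 1], [7, 7, 7], [3, 8, 2, 7], [7, 4, 7, 4], [8, 1, 7, 1], [8, 3, 0, 2, 7, 0], [1, 5, 1, 7, 1, 5, 1, 7, 1, 5, 1, 7, 1, 5, 1, 7, 1, 5, 1, 7], [2, 5, 3, 4, 7, 2, 5, 3, 4, 7, 2, 5, 3, 4, 7, 2, 5,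 3, 4, 7, 2, 5, 3, 4, 7], [5, 1, 5, 7, 5, 1, 5, 7, 5, 1, 5, 7, 5, 1, 5, 7, 5, 1, 5, 7], [2, 4, 5, 2, 7, 2, 4, 5, 2, 7, 2, 4, 5, 2, 7, 2, 4, 5, 2, 7, 2, 4, 5, 2, 7], [5, 4, 7, 5, 4, 7, 5, 4, 7, 5, 4, 7, 5, 4, 7, 5, 4, 7], [4, 5, 7, 4, 5, 7, 4, 5, 7, 4, 5, 7, 4, 5, 7, 4, 5, 7], [2, 6, 0, 6, 2, 7, 2, 6, 0, 6, 2, 7, 2, 6, 0, 6, 2, 7, 2, 6, 0, 6, 2, 7, 2, 6, 0, 6, 2, 7], [4, 6, 3, 4, 6, 7, 4, 6, 3, 4, 6, 7, 4, 6, 3, 4, 6, 7, 4, 6, 3, 4, 6, 7, 4, 6, 3, 4, 6, 7], [2, 4, 6, 2, 7, 2, 4, 6, 2, 7, 2, 4, 6, 2, 7, 2, 4, 6, 2, 7, 2, 4, 6, 2, 7], [0, 2, 6, 2, 7, 0, 2, 6, 2, 7, 0, 2, 6, 2, 7, 0, 2, 6, 2, 7, 0, 2, 6, 2, 7], [0, 2, 6, 2, 6, 7, 0, 2, 6, 2, 6, 7, 0, 2, 6, 2, 6, 7, 0, 2, 6, 2, 6, 7, 0, 2, 6, 2, 6, 7], [6, 3, 4, 6, 4, 7, 6, 3, 4, 6, 4, 7, 6, 3, 4, 6, 4,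 7, 6, 3, 4, 6, 4, 7, 6, 3, 4, 6, 4, 7], [9, 0, 10, 1], [9, 1, 10, 0], [9, 2, 10, 3], [9, 4, 10, 4, 0, 1, 0, 1], [9, 5, 10, 6], [9, 6, 10, 5], [9, 7, 10, 0, 1, 0, 1, 2, 7], [9, 9, 0, 1, 0, 1]] : List (List ℕ)), ev Cfsg.Agent.LyMc.T2.π r = 1 :=
  rels_of_checks Cfsg.Agent.LyMc.T2.spec (K := 1) (by decide) sat_inv _ [[0]] (by decide) ⟨sat_rel_0_0, trivial⟩

theorem sat_rel : ∀ r ∈ ([[2, 2, 2], [2, 4, 2, 4], [0, 3, 4, 0, 3, 4], [0, 2, 0, 2, 0, 2], [1, 3, 4, 1, 3, 4], [1, 2, 1, 2, 1, 2], [5, 6, 5, 6, 5, 6, 5, 6], [4, 6, 4, 6, 4, 6, 4, 6], [4, 5, 4, 5, 4, 5, 4, 5], [0, 2, 4, 3, 0, 2, 4, 3], [0, 2, 0, 3, 0, 2, 0, 3], [0, 6, 4, 6, 0, 6, 4, 6], [0, 5, 0, 5, 0, 5, 0, 5], [0, 4, 0, 4, 0, 4, 0, 4], [0, 4, 0, 6, 0, 4, 0, 6], [0, 1, 0, 1, 0, 1, 0, 1], [1, 2, 4,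 3, 1, 2, 4, 3], [1, 2, 1, 3, 1, 2, 1, 3], [1, 6, 1, 6, 1, 6, 1, 6], [1, 5, 4, 5, 1, 5, 4, 5], [1, 4, 1, 4, 1, 4, 1, 4], [1, 4, 1, 5, 1, 4, 1, 5], [2, 4, 5, 2, 4, 5, 2, 4, 5], [1, 4, 5, 1, 4, 5, 1, 4, 5], [2, 4, 2, 6, 4, 2, 4, 2, 6, 4], [2, 4, 2, 5, 4, 2, 4, 2, 5, 4], [2, 4, 2, 4, 6, 2, 4, 2, 4, 6], [2, 4, 2, 4, 5, 2, 4, 2, 4, 5], [4, 5, 6, 5, 6, 4, 5, 6, 5, 6], [0, 3, 4, 3, 4, 0, 3, 4, 3, 4], [0, 2, 6, 2, 4, 0, 2, 6, 2, 4], [0, 2, 4, 2, 4, 0, 2, 4, 2, 4], [0, 2, 4, 6, 3, 0, 2, 4, 6, 3], [0, 2, 0, 3, 4, 0, 2, 0, 3, 4], [0, 2, 0, 4, 2, 0, 2, 0, 4, 2], [0, 5, 3, 4, 5, 0, 5, 3, 4, 5], [0, 5, 6, 5, 6, 0, 5, 6, 5, 6], [0, 5, 0, 5, 6, 0, 5, 0, 5, 6], [0, 4, 5, 0, 5, 0, 4, 5, 0, 5], [0, 1, 3, 4, 1, 0, 1, 3, 4, 1], [0, 1, 6, 1, 6, 0, 1, 6, 1, 6], [0, 1, 5,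 0, 5, 0, 1, 5, 0, 5], [0, 1, 0, 3, 4, 0, 1, 0, 3, 4], [0, 1, 0, 1, 6, 0, 1, 0, 1, 6], [0, 1, 0, 1, 5, 0, 1, 0, 1, 5], [0, 1, 0, 1, 4, 0, 1, 0, 1, 4], [1, 3, 4, 3, 4, 1, 3, 4, 3, 4], [1, 2, 5, 2, 4, 1, 2, 5, 2, 4], [1, 2, 4, 2, 4, 1, 2, 4, 2, 4], [1, 2, 4, 5, 3, 1, 2, 4, 5, 3], [1, 2, 1, 3, 4, 1, 2, 1, 3, 4], [1, 2, 1, 4, 2, 1, 2, 1, 4, 2], [1, 6, 3, 4, 6, 1, 6, 3, 4, 6], [1, 5, 6, 5, 6, 1, 5, 6, 5, 6], [1, 5, 6, 1, 6, 1, 5, 6, 1, 6], [1, 4, 6, 1, 6, 1, 4, 6, 1, 6], [2, 6, 4, 2, 6, 4, 2, 6, 4, 2, 6, 4], [2, 6, 4, 6, 2, 6, 4, 6, 2, 6, 4, 6], [2, 5, 3, 4, 2, 5, 3, 4, 2, 5, 3, 4], [2, 5, 4, 2, 5, 4, 2, 5, 4, 2, 5, 4], [2, 4, 3, 4, 2, 4, 3, 4, 2, 4, 3, 4], [0, 2, 6, 0, 2, 6, 0, 2, 6, 0, 2, 6], [0, 2, 4, 0, 2, 4, 0, 2, 4, 0, 2, 4], [0, 6, 0, 6, 0, 6, 0,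 6, 0, 6, 0, 6], [0, 6, 2, 6, 0, 6, 2, 6, 0, 6, 2, 6], [0, 5, 6, 5, 0, 5, 6, 5, 0, 5, 6, 5], [0, 1, 0, 5, 0, 1, 0, 5, 0, 1, 0, 5], [0, 1, 6, 1, 0, 1, 6, 1, 0, 1, 6, 1], [7, 7, 7], [3, 8, 2, 7], [7, 4, 7, 4], [8, 1, 7, 1], [8, 3, 0, 2, 7, 0], [1, 5, 1, 7, 1, 5, 1, 7, 1, 5, 1, 7, 1, 5, 1, 7, 1, 5, 1, 7], [2, 5, 3, 4, 7, 2, 5, 3, 4, 7, 2, 5, 3, 4, 7, 2, 5, 3, 4, 7, 2, 5, 3, 4, 7], [5, 1, 5, 7, 5, 1, 5, 7, 5, 1, 5, 7, 5, 1, 5, 7, 5, 1, 5, 7], [2, 4, 5, 2, 7, 2, 4, 5, 2, 7, 2, 4, 5, 2, 7, 2, 4, 5, 2, 7, 2, 4, 5, 2, 7], [5, 4, 7, 5, 4, 7, 5, 4, 7, 5, 4, 7, 5, 4, 7, 5, 4, 7], [4, 5, 7, 4, 5, 7, 4, 5, 7, 4, 5, 7, 4, 5, 7, 4, 5, 7], [2, 6, 0, 6, 2, 7, 2, 6, 0, 6, 2, 7, 2, 6, 0, 6, 2, 7, 2, 6, 0, 6, 2, 7, 2, 6, 0, 6, 2, 7], [4, 6, 3, 4, 6, 7, 4, 6, 3, 4, 6, 7,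 4, 6, 3, 4, 6, 7, 4, 6, 3, 4, 6, 7, 4, 6, 3, 4, 6, 7], [2, 4, 6, 2, 7, 2, 4, 6, 2, 7, 2, 4, 6, 2, 7, 2, 4, 6, 2, 7, 2, 4, 6, 2, 7], [0, 2, 6, 2, 7, 0, 2, 6, 2, 7, 0, 2, 6, 2, 7, 0, 2, 6, 2, 7, 0, 2, 6, 2, 7], [0, 2, 6, 2, 6, 7, 0, 2, 6, 2, 6, 7, 0, 2, 6, 2, 6, 7, 0, 2, 6, 2, 6, 7, 0, 2, 6, 2, 6, 7], [6, 3, 4, 6, 4, 7, 6, 3, 4, 6, 4, 7, 6, 3, 4, 6, 4, 7, 6, 3, 4, 6, 4, 7, 6, 3, 4, 6, 4, 7], [9, 0, 10, 1], [9, 1, 10, 0], [9, 2, 10, 3], [9, 4, 10, 4, 0, 1, 0, 1], [9, 5, 10, 6], [9, 6, 10, 5], [9, 7, 10, 0, 1, 0, 1, 2, 7], [9, 9, 0, 1, 0, 1]] : List (List ℕ)), ev Cfsg.Agent.LyMc.T2.π r = 1 :=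
  rels_join [[[2, 2, 2], [2, 4, 2, 4], [0, 3, 4, 0, 3, 4], [0, 2, 0, 2, 0, 2], [1, 3, 4, 1, 3, 4], [1, 2, 1, 2, 1, 2], [5, 6, 5, 6, 5, 6, 5, 6], [4, 6, 4, 6, 4, 6, 4, 6], [4, 5, 4, 5, 4, 5, 4, 5], [0, 2, 4, 3, 0, 2, 4, 3], [0, 2, 0, 3, 0, 2, 0, 3], [0, 6, 4, 6, 0, 6, 4, 6], [0, 5, 0, 5, 0, 5, 0, 5], [0, 4, 0, 4, 0, 4, 0, 4], [0, 4, 0, 6, 0, 4, 0, 6], [0, 1, 0, 1, 0, 1, 0, 1], [1, 2, 4, 3, 1, 2, 4, 3], [1, 2, 1, 3, 1, 2, 1, 3], [1, 6, 1, 6, 1, 6, 1, 6], [1, 5, 4, 5, 1, 5, 4, 5], [1, 4, 1, 4, 1, 4, 1, 4], [1, 4, 1, 5, 1, 4, 1, 5], [2, 4, 5, 2, 4, 5, 2, 4, 5], [1, 4, 5, 1, 4, 5, 1, 4, 5], [2, 4, 2, 6, 4, 2, 4, 2, 6, 4], [2, 4, 2, 5, 4, 2, 4, 2, 5, 4], [2, 4, 2, 4, 6, 2, 4, 2, 4, 6], [2, 4, 2, 4, 5, 2, 4, 2, 4, 5], [4, 5, 6, 5, 6, 4, 5, 6, 5, 6], [0, 3,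 4, 3, 4, 0, 3, 4, 3, 4], [0, 2, 6, 2, 4, 0, 2, 6, 2, 4], [0, 2, 4, 2, 4, 0, 2, 4, 2, 4], [0, 2, 4, 6, 3, 0, 2, 4, 6, 3], [0, 2, 0, 3, 4, 0, 2, 0, 3, 4], [0, 2, 0, 4, 2, 0, 2, 0, 4, 2], [0, 5, 3, 4, 5, 0, 5, 3, 4, 5], [0, 5, 6, 5, 6, 0, 5, 6, 5, 6], [0, 5, 0, 5, 6, 0, 5, 0, 5, 6], [0, 4, 5, 0, 5, 0, 4, 5, 0, 5], [0, 1, 3, 4, 1, 0, 1, 3, 4, 1], [0, 1, 6, 1, 6, 0, 1, 6, 1, 6], [0, 1, 5, 0, 5, 0, 1, 5, 0, 5], [0, 1, 0, 3, 4, 0, 1, 0, 3, 4], [0, 1, 0, 1, 6, 0, 1, 0, 1, 6], [0, 1, 0, 1, 5, 0, 1, 0, 1, 5], [0, 1, 0, 1, 4, 0, 1, 0, 1, 4], [1, 3, 4, 3, 4, 1, 3, 4, 3, 4], [1, 2, 5, 2, 4, 1, 2, 5, 2, 4], [1, 2, 4, 2, 4, 1, 2, 4, 2, 4], [1, 2, 4, 5, 3, 1, 2, 4, 5, 3], [1, 2, 1, 3, 4, 1, 2, 1, 3, 4], [1, 2, 1, 4, 2, 1, 2, 1, 4, 2], [1, 6, 3, 4, 6, 1, 6, 3, 4, 6],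 [1, 5, 6, 5, 6, 1, 5, 6, 5, 6], [1, 5, 6, 1, 6, 1, 5, 6, 1, 6], [1, 4, 6, 1, 6, 1, 4, 6, 1, 6], [2, 6, 4, 2, 6, 4, 2, 6, 4, 2, 6, 4], [2, 6, 4, 6, 2, 6, 4, 6, 2, 6, 4, 6], [2, 5, 3, 4, 2, 5, 3, 4, 2, 5, 3, 4], [2, 5, 4, 2, 5, 4, 2, 5, 4, 2, 5, 4], [2, 4, 3, 4, 2, 4, 3, 4, 2, 4, 3, 4], [0, 2, 6, 0, 2, 6, 0, 2, 6, 0, 2, 6], [0, 2, 4, 0, 2, 4, 0, 2, 4, 0, 2, 4], [0, 6, 0, 6, 0, 6, 0, 6, 0, 6, 0, 6], [0, 6, 2, 6, 0, 6, 2, 6, 0, 6, 2, 6], [0, 5, 6, 5, 0, 5, 6, 5, 0, 5, 6, 5], [0, 1, 0, 5, 0, 1, 0, 5, 0, 1, 0, 5], [0, 1, 6, 1, 0, 1, 6, 1, 0, 1, 6, 1], [7, 7, 7], [3, 8, 2, 7], [7, 4, 7, 4], [8, 1, 7, 1], [8, 3, 0, 2, 7, 0], [1, 5, 1, 7, 1, 5, 1, 7, 1, 5, 1, 7, 1, 5, 1, 7, 1, 5, 1, 7], [2, 5, 3, 4, 7, 2, 5, 3, 4, 7, 2, 5, 3, 4, 7, 2, 5, 3, 4, 7, 2, 5, 3, 4,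 7], [5, 1, 5, 7, 5, 1, 5, 7, 5, 1, 5, 7, 5, 1, 5, 7, 5, 1, 5, 7], [2, 4, 5, 2, 7, 2, 4, 5, 2, 7, 2, 4, 5, 2, 7, 2, 4, 5, 2, 7, 2, 4, 5, 2, 7], [5, 4, 7, 5, 4, 7, 5, 4, 7, 5, 4, 7, 5, 4, 7, 5, 4, 7], [4, 5, 7, 4, 5, 7, 4, 5, 7, 4, 5, 7, 4, 5, 7, 4, 5, 7], [2, 6, 0, 6, 2, 7, 2, 6, 0, 6, 2, 7, 2, 6, 0, 6, 2, 7, 2, 6, 0, 6, 2, 7, 2, 6, 0, 6, 2, 7], [4, 6, 3, 4, 6, 7, 4, 6, 3, 4, 6, 7, 4, 6, 3, 4, 6, 7, 4, 6, 3, 4, 6, 7, 4, 6, 3, 4, 6, 7], [2, 4, 6, 2, 7, 2, 4, 6, 2, 7, 2, 4, 6, 2, 7, 2, 4, 6, 2, 7, 2, 4, 6, 2, 7], [0, 2, 6, 2, 7, 0, 2, 6, 2, 7, 0, 2, 6, 2, 7, 0, 2, 6, 2, 7, 0, 2, 6, 2, 7], [0, 2, 6, 2, 6, 7, 0, 2, 6, 2, 6, 7, 0, 2, 6, 2, 6, 7, 0, 2, 6, 2, 6, 7, 0, 2, 6, 2, 6, 7], [6, 3, 4, 6, 4, 7, 6, 3, 4, 6, 4, 7, 6, 3, 4, 6, 4, 7, 6, 3, 4, 6, 4, 7,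 6, 3, 4, 6, 4, 7], [9, 0, 10, 1], [9, 1, 10, 0], [9, 2, 10, 3], [9, 4, 10, 4, 0, 1, 0, 1], [9, 5, 10, 6], [9, 6, 10, 5], [9, 7, 10, 0, 1, 0, 1, 2, 7], [9, 9, 0, 1, 0, 1]]] ⟨sat_rel_0, trivial⟩

theorem sat : Sat Cfsg.Agent.LyMc.PT Cfsg.Agent.LyMc.T2.π :=
  ⟨Cfsg.Agent.LyMc.T2.out, sat_inv, sat_rel⟩

noncomputable def done_tr0 : ℕ := nat_lit 0

noncomputable def done_tr1 : ℕ := nat_lit 0x2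

noncomputable def done_tr2 : ℕ := nat_lit 0

noncomputable def done_tr3 : ℕ := nat_lit 0x2

noncomputable def done_t0_0 : ℕ := nat_lit 0x1

noncomputable def done_t0_1 : ℕ := nat_lit 0x2

noncomputable def done_t1_0 : ℕ := nat_lit 0x1

noncomputable def done_t1_1 : ℕ := nat_lit 0x2

noncomputable def done_t2_0 : ℕ := nat_lit 0x1

noncomputable def done_t2_1 : ℕ := nat_lit 0x2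

noncomputable def done_t3_0 : ℕ := nat_lit 0x1

noncomputable def done_t3_1 : ℕ := nat_lit 0x2

noncomputable def done_t4_0 : ℕ := nat_lit 0x1

noncomputable def done_t4_1 : ℕ := nat_lit 0x2

noncomputable def done_t5_0 : ℕ := nat_lit 0x1

noncomputable def done_t5_1 : ℕ := nat_lit 0x2

noncomputable def done_t6_0 : ℕ := nat_lit 0x1

noncomputable def done_t6_1 : ℕ := nat_lit 0x2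

noncomputable def done_t7_0 : ℕ := nat_lit 0x1

noncomputable def done_t7_1 : ℕ := nat_lit 0x2

noncomputable def done_t8_0 : ℕ := nat_lit 0x3

noncomputable def done_t8_1 : ℕ := nat_lit 0x2

noncomputable def done_t9_0 : ℕ := nat_lit 0

noncomputable def done_t9_1 : ℕ := nat_lit 0x1

noncomputable def done_t10_0 : ℕ := nat_lit 0x1

noncomputable def done_t10_1 : ℕ := nat_lit 0x2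

noncomputable def doneC : TC := ⟨Cfsg.Agent.LyMc.PT, [[0], [1], [2], [3], [4], [5], [6], [7], [8]], 2, 2, 1, 2, [done_tr0, done_tr1, done_tr2, done_tr3],
  [[done_t0_0, done_t0_1],
   [done_t1_0, done_t1_1],
   [done_t2_0, done_t2_1],
   [done_t3_0, done_t3_1],
   [done_t4_0, done_t4_1],
   [done_t5_0, done_t5_1],
   [done_t6_0, done_t6_1],
   [done_t7_0, done_t7_1],
   [done_t8_0, done_t8_1],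
   [done_t9_0, done_t9_1],
   [done_t10_0, done_t10_1]]⟩

theorem done_s : doneC.structC Cfsg.Agent.LyMc.T2.act = true :=
  by decide +kernel

theorem done_c0_0 : doneC.coverC Cfsg.Agent.LyMc.T2.act 0 true [] [(true, 0, 0, 0), (false, 255, 1, 0)] 0 (ones 2) = true :=
  by decide +kernel

theorem done_j0 : doneC.JustS Cfsg.Agent.LyMc.T2.π 0 (ones 2) :=
  TC.cover_step Cfsg.Agent.LyMc.T2.spec done_s (TC.justS_zero 0) done_c0_0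

theorem done_c1_0 : doneC.coverC Cfsg.Agent.LyMc.T2.act 1 true [] [(true, 1, 0, 0), (false, 258, 1, 0)] 0 (ones 2) = true :=
  by decide +kernel

theorem done_j1 : doneC.JustS Cfsg.Agent.LyMc.T2.π 1 (ones 2) :=
  TC.cover_step Cfsg.Agent.LyMc.T2.spec done_s (TC.justS_zero 1) done_c1_0

theorem done_c2_0 : doneC.coverC Cfsg.Agent.LyMc.T2.act 2 true [] [(true, 2, 0, 0), (false, 261, 1, 0)] 0 (ones 2) = true :=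
  by decide +kernel

theorem done_j2 : doneC.JustS Cfsg.Agent.LyMc.T2.π 2 (ones 2) :=
  TC.cover_step Cfsg.Agent.LyMc.T2.spec done_s (TC.justS_zero 2) done_c2_0

theorem done_c3_0 : doneC.coverC Cfsg.Agent.LyMc.T2.act 3 true [] [(true, 3, 0, 0), (false, 262, 2, 0)] 0 (ones 2) = true :=
  by decide +kernel

theorem done_j3 : doneC.JustS Cfsg.Agent.LyMc.T2.π 3 (ones 2) :=
  TC.cover_step Cfsg.Agent.LyMc.T2.spec done_s (TC.justS_zero 3) done_c3_0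

theorem done_c4_0 : doneC.coverC Cfsg.Agent.LyMc.T2.act 4 true [] [(true, 4, 0, 0), (false, 264, 1, 0)] 0 (ones 2) = true :=
  by decide +kernel

theorem done_j4 : doneC.JustS Cfsg.Agent.LyMc.T2.π 4 (ones 2) :=
  TC.cover_step Cfsg.Agent.LyMc.T2.spec done_s (TC.justS_zero 4) done_c4_0

theorem done_c5_0 : doneC.coverC Cfsg.Agent.LyMc.T2.act 5 true [] [(true, 5, 0, 0), (false, 267, 1, 0)] 0 (ones 2) = true :=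
  by decide +kernel

theorem done_j5 : doneC.JustS Cfsg.Agent.LyMc.T2.π 5 (ones 2) :=
  TC.cover_step Cfsg.Agent.LyMc.T2.spec done_s (TC.justS_zero 5) done_c5_0

theorem done_c6_0 : doneC.coverC Cfsg.Agent.LyMc.T2.act 6 true [] [(true, 6, 0, 0), (false, 270, 1, 0)] 0 (ones 2) = true :=
  by decide +kernel

theorem done_j6 : doneC.JustS Cfsg.Agent.LyMc.T2.π 6 (ones 2) :=
  TC.cover_step Cfsg.Agent.LyMc.T2.spec done_s (TC.justS_zero 6) done_c6_0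

theorem done_c7_0 : doneC.coverC Cfsg.Agent.LyMc.T2.act 7 true [] [(true, 7, 0, 0), (false, 273, 1, 0)] 0 (ones 2) = true :=
  by decide +kernel

theorem done_j7 : doneC.JustS Cfsg.Agent.LyMc.T2.π 7 (ones 2) :=
  TC.cover_step Cfsg.Agent.LyMc.T2.spec done_s (TC.justS_zero 7) done_c7_0

theorem done_c8_0 : doneC.coverC Cfsg.Agent.LyMc.T2.act 8 true [] [(true, 8, 0, 0), (false, 23, 0, 1)] 0 (ones 2) = true :=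
  by decide +kernel

theorem done_j8 : doneC.JustS Cfsg.Agent.LyMc.T2.π 8 (ones 2) :=
  TC.cover_step Cfsg.Agent.LyMc.T2.spec done_s (TC.justS_zero 8) done_c8_0

theorem done_c9_0 : doneC.coverC Cfsg.Agent.LyMc.T2.act 9 true [] [(false, 276, 1, 0)] 0 (ones 2) = true :=
  by decide +kernel

theorem done_j9 : doneC.JustS Cfsg.Agent.LyMc.T2.π 9 (ones 2) :=
  TC.cover_step Cfsg.Agent.LyMc.T2.spec done_s (TC.justS_zero 9) done_c9_0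

theorem done_c10_0 : doneC.coverC Cfsg.Agent.LyMc.T2.act 10 true [] [(false, 29, 0, 1), (false, 277, 4, 0)] 0 (ones 2) = true :=
  by decide +kernel

theorem done_j10 : doneC.JustS Cfsg.Agent.LyMc.T2.π 10 (ones 2) :=
  TC.cover_step Cfsg.Agent.LyMc.T2.spec done_s (TC.justS_zero 10) done_c10_0

theorem done : doneC.Done Cfsg.Agent.LyMc.T2.π :=
  TC.done_of Cfsg.Agent.LyMc.T2.spec sat done_s ⟨done_j0, done_j1, done_j2, done_j3, done_j4, done_j5, done_j6, done_j7, done_j8, done_j9, done_j10, trivial⟩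

end T2

theorem iT2 : Impl Cfsg.Agent.LyMc.PT Cfsg.Agent.LyMc.PM [[0], [1], [2], [3], [4], [5], [6], [7], [8]] :=
  impl_of_subC (P := Cfsg.Agent.LyMc.PT) (c1 := [(279, 0), (279, 0), (279, 0), (279, 0), (279, 0), (279, 0), (279, 0), (279, 0), (279, 0)]) (c2 := [(0, 0), (3, 0), (6, 0), (9, 0), (12, 0), (15, 0), (18, 0), (21, 0), (24, 0), (27, 0), (30, 0), (33, 0), (36, 0), (39, 0), (42, 0), (45, 0), (48, 0), (51, 0), (54, 0), (57, 0), (60, 0), (63, 0), (66, 0), (69, 0), (72, 0), (75, 0), (78, 0), (81, 0), (84, 0), (87, 0), (90, 0), (93, 0), (96, 0), (99, 0), (102, 0), (105, 0), (108, 0), (111, 0), (114, 0), (117, 0), (120, 0), (123, 0), (126, 0), (129, 0), (132, 0), (135, 0), (138, 0), (141, 0), (144, 0), (147, 0), (150, 0), (153, 0), (156, 0), (159,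 0), (162, 0), (165, 0), (168, 0), (171, 0), (174, 0), (177, 0), (180, 0), (183, 0), (186, 0), (189, 0), (192, 0), (195, 0), (198, 0), (201, 0), (204, 0), (207, 0), (210, 0), (213, 0), (216, 0), (219, 0), (222, 0), (225, 0), (228, 0), (231, 0), (234, 0), (237, 0), (240, 0), (243, 0), (246, 0), (249, 0), (252, 0)]) (by decide +kernel)

theorem boundT : Bound Cfsg.Agent.LyMc.PT 1796256000 :=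
  T2.done.bound' TCB.boundM iT2 ⟨inSub_of_mem (by decide), inSub_of_mem (by decide), inSub_of_mem (by decide), inSub_of_mem (by decide), inSub_of_mem (by decide), inSub_of_mem (by decide), inSub_of_mem (by decide), inSub_of_mem (by decide), inSub_of_mem (by decide), trivial⟩

noncomputable def πM : ℕ → Equiv.Perm ℕ := subT M275.π e9
noncomputable def aM : Act := subAct M275.act e9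
theorem sM : aM.Spec 320 πM := M275.spec.sub e9
def bsM : List ℕ := [13, 2, 65, 119, 5]
def bsT : List ℕ := [7, 15, 2, 24, 19]
theorem satM : Sat PM πM := iTM _ _ M275.sat
theorem fM : Faithful PM πM bsM := faithful_of_chain TCB.boundM satM M275.chM (by decide)
theorem fT : Faithful PT M275.π bsT := faithful_of_chain boundT M275.sat M275.chT (by decide)
theorem modM : Nat.card (gen πM) = 898128000 ∧ PModel PM (selfT πM) πM bsM (gen πM).subtype :=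
  model_self TCB.boundM satM M275.chM (by decide)
theorem modT' : Nat.card (gen M275.π) = 1796256000 ∧
    PModel PT (selfT M275.π) M275.π bsT (gen M275.π).subtype :=
  model_self boundT M275.sat M275.chT (by decide)
theorem linkM : Link PM (selfT πM) := modM.2.link TCB.boundM modM.1
theorem linkT : Link PT (selfT M275.π) := modT'.2.link boundT modT'.1

section
open Cfsg.Agent.LES Cfsg.Agent.Spor.ModelMcL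

def vsL : List (List ℕ) := [[0, 0, 3, 3, 3, 0, 2, 1, 1, 3, 3, 1, 1, 1, 3, 1, 3, 0, 3, 3], [1, 1, 1, 2, 1, 3, 0, 3, 1, 3, 3, 3, 0, 0, 3, 3, 1, 2, 0, 3, 3], [3, 0, 3, 0, 3, 1, 1, 2, 1, 2, 0, 2, 1, 1, 1, 2, 2, 1], [0, 3, 3, 0, 0, 0, 3, 1, 3, 0, 3, 0, 0, 2, 1, 2, 1, 2], [0, 2, 1, 1, 1, 3, 3, 0, 3, 1, 1, 2, 0, 2, 2, 0, 0, 2, 1, 3], [0, 2, 1, 1, 3, 0, 0, 2, 2, 2, 0, 0, 3, 0, 0, 0, 3, 3, 1], [0, 0, 0, 0, 2, 0, 0, 3, 0, 3, 3, 0, 0, 0, 3, 1, 2, 1], [1, 2, 0, 2, 1, 2, 1, 3, 3, 0, 2, 2, 2, 0, 3, 0, 3, 3, 1], [0, 2, 2, 1, 2, 1, 3, 3, 3, 1, 2, 2, 0, 3, 0, 3, 1, 3, 0]]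

theorem satL : Sat PM (modT ns G_ss0 vsL) :=
  sat_modT_of_check ctx (by decide +kernel) (by decide +kernel) (by decide +kernel)

theorem topL : gen (modT ns G_ss0 vsL) = ⊤ := by
  have : Comp.gen ns G_ss0 ≤ (gen (modT ns G_ss0 vsL)).map (Comp.gen ns G_ss0).subtype := by
    refine Comp.gen_le_iff.2 fun u hu => ?_
    simp only [G_ss0, List.mem_cons, List.not_mem_nil, or_false] at hu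
    rcases hu with rfl | rfl
    · exact ⟨_, ev_mem_gen _ [6, 8, 5, 2, 6, 8, 5, 8, 6, 3, 4, 7, 5, 1, 8], (coe_ev_modT ns _ _ _).trans
        (Comp.wp_eq_of_eqW ctx (by decide +kernel))⟩
    · exact ⟨_, ev_mem_gen _ [0, 5, 0, 7, 6, 2, 5, 7, 6, 7, 5, 2, 6, 5, 7, 5], (coe_ev_modT ns _ _ _).trans
        (Comp.wp_eq_of_eqW ctx (by decide +kernel))⟩
  refine eq_top_iff.2 fun g _ => ?_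
  obtain ⟨k, hk, e⟩ := this g.2
  rwa [← show k = g from Subtype.ext e]

theorem equivMcL : Nonempty (gen πM ≃* Spor.McL) := by
  have : Finite (gen πM) := modM.2.fin
  obtain ⟨e, -⟩ := linkM.equiv_of_card satL (by rw [topL, Subgroup.card_top, G_card, modM.1])
  exact ⟨(e.trans ((MulEquiv.subgroupCongr topL).trans Subgroup.topEquiv)).trans equiv.symm⟩

theorem simpleMcL : IsSimpleGroup Spor.McL :=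
  have := Spor.Leech.simple_mcl_std
  (equiv.trans equiv0.symm).isSimpleGroup

theorem simpleM : IsSimpleGroup (gen πM) :=
  have := simpleMcL
  equivMcL.some.isSimpleGroup

end

end Cfsg.Agent.LyMc
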