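import Cfsg.Agent.LyMc.Nine

set_option autoImplicit false
set_option Elab.async false
set_option maxRecDepth 100000

namespace Cfsg.Agent.LyMc

open Cfsg.Agent.Comp.BN

/-- letters: `u v a a⁻¹ s r q c c⁻¹ o o⁻¹ b b⁻¹ p` -/
def invL : List ℕ := [0, 1, 3, 2, 4, 5, 6, 8, 7, 10, 9, 12, 11, 13]

/-- `P₁ k * p = p * P₂ k` -/
def LP1 : List (List ℕ) := [[11], [6, 3, 6, 5, 3, 5], [6, 5, 1, 0], [6, 5, 1, 3, 6, 5, 2, 1], [9], [2, 0, 6, 1, 5, 1, 0, 3], [5, 7, 3, 6, 5, 7, 3, 6, 5, 7, 0, 1, 0, 1, 8, 5, 6, 2, 8, 5, 6, 2, 8, 5, 0, 1, 0, 1]]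

def LP2 : List (List ℕ) := [[6, 3, 6, 5, 3, 5], [11], [6, 5, 1, 0], [5, 3, 0, 6, 2, 5, 2, 0], [2, 0, 1, 6, 5, 1, 0, 3], [10], [1, 0, 1, 0, 5, 7, 3, 6, 5, 7, 3, 6, 5, 7, 1, 0, 1, 0, 8, 5, 6, 2, 8, 5, 6, 2, 8, 5]]

def wk0 : List ℕ := [5, 6, 4, 3, 6, 5]

/-- `h * (p k p) = (p k p) * k'` -/
def FX : List (List ℕ × List ℕ × List ℕ) := [([6, 0, 3], [0], [1, 2, 6, 2, 6]),
  ([11, 9], [0], [11, 9, 1, 0]),
  ([0, 6, 5, 0], [2], [12, 9, 6, 1, 5, 0]),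
  ([9, 0, 2, 0], [2], [5, 2, 6, 2, 1, 0, 5]),
  ([3, 5, 8, 6, 3, 5, 7, 6, 5, 8, 0, 1, 0, 1, 7, 5, 6, 8, 5, 2, 6, 7, 5, 2, 0, 1, 0, 1], [0, 6, 2, 5, 4, 3, 5, 8, 6, 3, 5, 7, 6, 5, 8, 0, 1, 0, 1, 7, 5, 6, 8, 5, 2, 6, 7, 5, 2, 0, 1, 0, 1, 4, 5, 3, 6, 0], [3, 5, 8, 6, 3, 5, 7, 6, 5, 8, 0, 1, 0, 1, 7, 5, 6, 8, 5, 2, 6, 7, 5, 2, 0, 1, 0, 1])]

def tl (r : List ℕ) : List ℕ :=
  if r = [3, 8, 2, 7] then [11, 11] else if r = [9, 7, 10, 0, 1, 0, 1, 2, 7] then [11] else []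

def EQS : List (List ℕ × List ℕ) := PT.rels.map (fun r => (r, tl r)) ++ ([([11, 11, 11], []), ([13, 13], []),
  ([9, 11], [12, 9]), (13 :: wk0 ++ [13], wk0 ++ 13 :: wk0)] ++ ([0, 1, 2, 4, 5, 6, 7].map (fun k => ([k, 11], [11, k])) ++
  ((LP1.zip LP2).map (fun p => (p.1 ++ [13], 13 :: p.2)) ++
  FX.map fun f => (f.1 ++ 13 :: f.2.1 ++ [13], 13 :: f.2.1 ++ 13 :: f.2.2))))

/-- a presentation of the Lyons group -/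
noncomputable def PL : Pres := ⟨invL, EQS.map fun p => appendL p.1 (invW (fun k => nth k invL k) p.2)⟩

def e13 : List (List ℕ) := [[0], [1], [2], [3], [4], [5], [6], [7], [8], [9], [10], [11], [12]]

def e14 : List (List ℕ) := [[0], [1], [2], [3], [4], [5], [6], [], [], [9], [10], [11], [12], [13]]

def wsL : List (List ℕ) := [[1, 3, 5, 7, 9, 11, 5, 7], [2, 4, 5, 7, 9, 11, 5, 7], [1, 3, 9, 6, 12, 2, 8, 3], [1, 3, 5, 7, 9, 11, 1, 3], [1, 3, 6, 3, 7, 2, 9, 12, 9], [1, 3, 7, 9, 4, 12, 6, 8], [2, 3, 5, 8, 10, 3, 11, 8], [], [], [14, 15, 14], [13, 16, 13], [14, 17, 16, 13, 0], [14, 15, 18, 13, 0], [8, 10, 12, 16, 18, 11, 9, 13, 8]]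

def wsY11 : List (List ℕ) := [[9, 9], [2, 0, 6, 5, 1, 3], [2, 6, 1, 5, 0, 3], [13, 12, 13, 5, 2, 5], [6, 3, 6, 5, 2, 5], [0, 3, 5, 6, 2, 1], [1, 3, 6, 5, 2, 0], [0, 2, 13, 11, 13, 3, 0], [1, 2, 13, 10, 13, 3, 0], [0, 6, 5, 1], [6, 1, 5, 0], [1, 4, 6, 5, 4, 0], [0, 4, 5, 6, 4, 1], [1, 13, 4, 5, 6, 4, 13, 0], [0, 13, 4, 6, 5, 4, 13, 1], [13, 6, 1, 5, 0, 13], [13, 0, 6, 5, 1, 13], [11, 13, 6, 1, 5, 0, 13, 12], [11, 13, 0, 6, 5, 1, 13, 12]]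

def tab11 : List ℕ := [0xfedcba9854761032, 0xfedcba9854760123, 0xfedcba9832765410, 0xfedcba9854327610, 0xfedcba9867234501, 0xfedcba9853716042, 0xfedcba9853706124, 0xfedcba9876543210, 0xfedcba9876543210, 0xfedcba8976543201, 0xfedcba8976543201, 0xfedcb8a976543210, 0xfedcb98a76543210, 0xfedcb765a9843201]

def sw89 : List (List ℕ) := [[0], [1], [2], [3], [4], [5], [6], [7], [8], [9], [10], [11], [12], [15], [16], [13], [14], [17], [18]]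

theorem eqs_of_sat {G : Type*} [Group G] {z : ℕ → G} (hz : Sat PL z) : ∀ p ∈ EQS, ev z p.1 = ev z p.2 :=
  fun p hp => by
    have := hz.rel _ (List.mem_map_of_mem hp)
    rwa [appendL_eq, ev_append, ev_invW (I := fun k => nth k invL k) hz.inv, mul_inv_eq_one] at this

theorem sat_of_eqs {G : Type*} [Group G] {z : ℕ → G} (out : ∀ k, 14 ≤ k → z k = 1)
    (inv : ∀ k, z (PL.I k) * z k = 1) (h : ∀ p ∈ EQS, ev z p.1 = ev z p.2) : Sat PL z :=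
  ⟨out, inv, fun r hr => by
    obtain ⟨p, hp, rfl⟩ := List.mem_map.1 hr
    rw [appendL_eq, ev_append, ev_invW (I := fun k => nth k invL k) inv, h p hp, mul_inv_cancel]⟩

end Cfsg.Agent.LyMc
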