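import Cfsg.Agent.LyMc.Pres

set_option autoImplicit false
set_option Elab.async false
set_option maxRecDepth 100000

namespace Cfsg.Agent.LyMc.M275

open Cfsg.Agent.Comp.BN

noncomputable def m0_0 : ℕ := nat_lit 0x2482bfa2601436e2070022564244a82020000000

noncomputable def m0_1 : ℕ := nat_lit 0x603baec6ba85d704d6b40000000000000000000005f9c8f460210f042000

noncomputable def m0_2 : ℕ := nat_lit 0x45f88a8000000000000099e3c04000000000000002d6c0a26c000000000085ac200000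

noncomputable def m0_3 : ℕ := nat_lit 0x3049000000620880000058510000007407c00000d2a900000063f9800000583040000091410

noncomputable def m0_4 : ℕ := nat_lit 0x388002d0001500012c00100002a10023e001cd001640003c000380022e00228003a40039400240

noncomputable def m0_5 : ℕ := nat_lit 0x500003418030160400506008068000081e0040b020080281f05005010150481a020090200102810

noncomputable def m0_6 : ℕ := nat_lit 0x1001000200000120000000000000001001000002000008000000000800000005004000040008400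

noncomputable def m0_7 : ℕ := nat_lit 0x280a5014a0280a5000a00140000000280a02800528005004a0000a501400000a028000280052800

noncomputable def m0_8 : ℕ := nat_lit 0x21404210840108428004210850100401405014a029024210a5204042048008085210000102021000

noncomputable def m0_9 : ℕ := nat_lit 0x5280a5214a4290a5004a40942420480280a0284052948521424084a509485014a428080294252800

noncomputable def m0_10 : ℕ := nat_lit 0x21001010a00108521404290050100428021210a42102409424204042840008085214800840109400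

noncomputable def m0_11 : ℕ := nat_lit 0x5000010180301404004060080600000816000080200800800050040101004010020080000602000

noncomputable def m0_12 : ℕ := nat_lit 0x308002d0001500012c00100002800021c001e4001640003c000380022c00228003a40039400240

noncomputable def m0_13 : ℕ := nat_lit 0x3049000000220880000058510000007447000000d2a900000043a9000000583040000091410

noncomputable def m0_14 : ℕ := nat_lit 0x45f88a8000000000000098e3c04000000000000002d6c0a26c000000000085ac200000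

noncomputable def m0_15 : ℕ := nat_lit 0x603b06c6ba85d104d4b00000000000000000000005f9c8f460210f042000

noncomputable def m0_16 : ℕ := nat_lit 0x2482bfa2601436e2070022564244a82020000000

noncomputable def net0 : Net := (.cons 160 m0_0 (.cons 80 m0_1 (.cons 40 m0_2 (.cons 20 m0_3 (.cons 10 m0_4 (.cons 5 m0_5 (.cons 1 m0_6 (.cons 1 m0_7 (.cons 1 m0_8 (.cons 1 m0_9 (.cons 1 m0_10 (.cons 5 m0_11 (.cons 10 m0_12 (.cons 20 m0_13 (.cons 40 m0_14 (.cons 80 m0_15 (.cons 160 m0_16 .nil)))))))))))))))))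

theorem ok0 : Net.ok 320 net0 = true :=
  by decide +kernel

noncomputable def m1_0 : ℕ := nat_lit 0xc600e01823800302000008000000000000000000

noncomputable def m1_1 : ℕ := nat_lit 0xff11660010900040081000000000000000000000748a0040a00401000000

noncomputable def m1_2 : ℕ := nat_lit 0xf3b14020200000000000a963d0c220000000000067a7b75d180000000000fc08000000

noncomputable def m1_3 : ℕ := nat_lit 0x8a10000000ce62f00000e843200000ce0a2000003b54800000e9500000007a5c20000090328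

noncomputable def m1_4 : ℕ := nat_lit 0x4000022002d60035d00288003a00002e00337003fa002d2001b0003450038100040003eb00328

noncomputable def m1_5 : ℕ := nat_lit 0x1c0580202006018060700a000050640007c0c060090300a0540103c0005410000040501000008

noncomputable def m1_6 : ℕ := nat_lit 0x101000004000040000000000a0000000140000400000200000128401080000002000000

noncomputable def m1_7 : ℕ := nat_lit 0x280a0000a5280800840028000004a0014040002028000280050048028025280a500000014000000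

noncomputable def m1_8 : ℕ := nat_lit 0x1084280842940421080094a1000a5010a0290052940529000210852940529405200002908001000

noncomputable def m1_9 : ℕ := nat_lit 0x294a1204a5090a121085284202142029405080a128421280a5210a5080a5280a521401214002100

noncomputable def m1_10 : ℕ := nat_lit 0x1080200a10108500005084a108424014a001004094a4294a0010a1094a428401084012802001080

noncomputable def m1_11 : ℕ := nat_lit 0x1c048020201a0201a070080001a0600006808060020300a050140580001010000040501000008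

noncomputable def m1_12 : ℕ := nat_lit 0x4000100002c20030800288003a000026001a000342000d2000b0003500018000040001a000000

noncomputable def m1_13 : ℕ := nat_lit 0x8a10000000db71000000e8432000008e480000003a50800000e9500000001a58200000121a0

noncomputable def m1_14 : ℕ := nat_lit 0x71b14020200000000000a963d0c220000000000067a7b75d180000000000fc08000000

noncomputable def m1_15 : ℕ := nat_lit 0xff11660010900040081000000000000000000000748a0040a00401000000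

noncomputable def m1_16 : ℕ := nat_lit 0xc600e01823800302000008000000000000000000

noncomputable def net1 : Net := (.cons 160 m1_0 (.cons 80 m1_1 (.cons 40 m1_2 (.cons 20 m1_3 (.cons 10 m1_4 (.cons 5 m1_5 (.cons 1 m1_6 (.cons 1 m1_7 (.cons 1 m1_8 (.cons 1 m1_9 (.cons 1 m1_10 (.cons 5 m1_11 (.cons 10 m1_12 (.cons 20 m1_13 (.cons 40 m1_14 (.cons 80 m1_15 (.cons 160 m1_16 .nil)))))))))))))))))

theorem ok1 : Net.ok 320 net1 = true :=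
  by decide +kernel

noncomputable def m2_0 : ℕ := nat_lit 0x89f22308215800ffc78ad000949c84b2892fb2cb

noncomputable def m2_1 : ℕ := nat_lit 0xf80762bc6741305d013b000000000000000000000148fe3f984639d12962

noncomputable def m2_2 : ℕ := nat_lit 0x42dc5d5ec80000000000a070745c00000000000046b03725520000000000375a43be42

noncomputable def m2_3 : ℕ := nat_lit 0x8e05000000c7180000091e8000000dc46900000c2d8800000ae7b900000a968c0000090d38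

noncomputable def m2_4 : ℕ := nat_lit 0x329001a00004000374002730020000278003ab003c30034000065001f8002ab003ba0003c00020

noncomputable def m2_5 : ℕ := nat_lit 0x38110400e0140200c0e0041e07000058180301c00010070000481f04804010040440d0300600808

noncomputable def m2_6 : ℕ := nat_lit 0x20080000000001400000000002108000000a00100000000000010000000000080802040000020

noncomputable def m2_7 : ℕ := nat_lit 0x4004052002000005280a001480014250108401480284810808020021000a00000521425280802042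

noncomputable def m2_8 : ℕ := nat_lit 0x29080290250800029484080850108428085290a42148429484014842140501080294a52900401085

noncomputable def m2_9 : ℕ := nat_lit 0x5094a50842100021284a1094a0094a520421094a4094a5284a408484080242142529425290a4094a

noncomputable def m2_10 : ℕ := nat_lit 0x94a1080a10002008001080200042100005200252140128004010812848109005200800042101024

noncomputable def m2_11 : ℕ := nat_lit 0x200800008010000200c000120300005808070180300a000080080a05000020140200e0300402000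

noncomputable def m2_12 : ℕ := nat_lit 0x28003460002000330002d6000000007800110003cc003ca00270001f40010a000c00006c00060

noncomputable def m2_13 : ℕ := nat_lit 0x986000000015b1800000b5ca00000002cd000000d1b8a000008d3e40000070c440000000e64

noncomputable def m2_14 : ℕ := nat_lit 0x3283ff2a80000000000a0b26e5c00000000000006b0878c8c00000000000f6352f952

noncomputable def m2_15 : ℕ := nat_lit 0xf0c541b44744019e54a6000000000000000000005149f65d0645556d9338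

noncomputable def m2_16 : ℕ := nat_lit 0x89f223082158417e4ec4c82002b8c34956f3a3c6

noncomputable def net2 : Net := (.cons 160 m2_0 (.cons 80 m2_1 (.cons 40 m2_2 (.cons 20 m2_3 (.cons 10 m2_4 (.cons 5 m2_5 (.cons 1 m2_6 (.cons 1 m2_7 (.cons 1 m2_8 (.cons 1 m2_9 (.cons 1 m2_10 (.cons 5 m2_11 (.cons 10 m2_12 (.cons 20 m2_13 (.cons 40 m2_14 (.cons 80 m2_15 (.cons 160 m2_16 .nil)))))))))))))))))

theorem ok2 : Net.ok 320 net2 = true :=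
  by decide +kernel

noncomputable def net3 : Net := (.cons 160 m2_16 (.cons 80 m2_15 (.cons 40 m2_14 (.cons 20 m2_13 (.cons 10 m2_12 (.cons 5 m2_11 (.cons 1 m2_10 (.cons 1 m2_9 (.cons 1 m2_8 (.cons 1 m2_7 (.cons 1 m2_6 (.cons 5 m2_5 (.cons 10 m2_4 (.cons 20 m2_3 (.cons 40 m2_2 (.cons 80 m2_1 (.cons 160 m2_0 .nil)))))))))))))))))

theorem ok3 : Net.ok 320 net3 = true :=
  by decide +kernel

noncomputable def m4_0 : ℕ := nat_lit 0xe1084500c0001e00000000000000000000000000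

noncomputable def m4_1 : ℕ := nat_lit 0xdd3861118001be0000000000000000000000000000000000000000000000

noncomputable def m4_2 : ℕ := nat_lit 0xd93d0000000000000000c3f19968c00000000000600682008600000000008000000000

noncomputable def m4_3 : ℕ := nat_lit 0x3100000000fb0000000082f0100000d5ae40000076c800000085420000009ea070000000000

noncomputable def m4_4 : ℕ := nat_lit 0x10001c000070003080038c00002000020034400010003a000040000c8003e000260003e000000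

noncomputable def m4_5 : ℕ := nat_lit 0x1000030000480c02c170701c04816030180101a04004000180000c0300005402064080040000000

noncomputable def m4_6 : ℕ := nat_lit 0x40500000004000000008000000010800100000080000142001001004000000000000

noncomputable def m4_7 : ℕ := nat_lit 0x280a120000280000048500000014a5000a0000050040029404284a1084a0000000000

noncomputable def m4_8 : ℕ := nat_lit 0x1005214a101400014a421404000842140420080200a009480214a4290a40000000000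

noncomputable def m4_9 : ℕ := nat_lit 0x10142100000290a508420280000942509080094a5090a12102528401294a5084a5204a5280a50002

noncomputable def m4_10 : ℕ := nat_lit 0x10802942509025204002140409425080010942520480080a5094a00902429085000a000480

noncomputable def m4_11 : ℕ := nat_lit 0x1000030000480804008070000000c020180101204004000100000c0300000808020020000000000

noncomputable def m4_12 : ℕ := nat_lit 0x4000070003080038c0000200002003400001000180000400008800260003e0003e000000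

noncomputable def m4_13 : ℕ := nat_lit 0x3100000000fb0000000082f0000000c1a640000076c80000008542000000615f80000000000

noncomputable def m4_14 : ℕ := nat_lit 0xd93d0000000000000000c3f19968c00000000000600682008000000000008000000000

noncomputable def m4_15 : ℕ := nat_lit 0xdd3861118001be0000000000000000000000000000000000000000000000

noncomputable def m4_16 : ℕ := nat_lit 0xe1084500c0001e00000000000000000000000000

noncomputable def net4 : Net := (.cons 160 m4_0 (.cons 80 m4_1 (.cons 40 m4_2 (.cons 20 m4_3 (.cons 10 m4_4 (.cons 5 m4_5 (.cons 1 m4_6 (.cons 1 m4_7 (.cons 1 m4_8 (.cons 1 m4_9 (.cons 1 m4_10 (.cons 5 m4_11 (.cons 10 m4_12 (.cons 20 m4_13 (.cons 40 m4_14 (.cons 80 m4_15 (.cons 160 m4_16 .nil)))))))))))))))))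

theorem ok4 : Net.ok 320 net4 = true :=
  by decide +kernel

noncomputable def m5_0 : ℕ := nat_lit 0xf18e85010c0014408260040a0000001530201040

noncomputable def m5_1 : ℕ := nat_lit 0xc20356430ca31c600226000000000000000000002062f63a7a5c20040040

noncomputable def m5_2 : ℕ := nat_lit 0x4490514400000000000065a0820880000000000008c22bd33000000000002fa1ae1140

noncomputable def m5_3 : ℕ := nat_lit 0x72058000002a6f50000062ef800000ab148000009648000000c84b00000044b100000080900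

noncomputable def m5_4 : ℕ := nat_lit 0xc0003000038400304000b000123003ca002b000334001a80018400164003d0001d90021200350

noncomputable def m5_5 : ℕ := nat_lit 0x600207004008180381a0200c0441d030100540e0401902008054000001e01c1c050060000005c04

noncomputable def m5_6 : ℕ := nat_lit 0x4000000000000000000000000000094000000000004000800100000000080a00000000000

noncomputable def m5_7 : ℕ := nat_lit 0x28000000000800528000000010000528000000a0000a0014a0280000000501400014000140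

noncomputable def m5_8 : ℕ := nat_lit 0xa02100020000214202948029005284a5214a12000400005000a52140500005290a001080200a4

noncomputable def m5_9 : ℕ := nat_lit 0x40128484010a50940528401200a1084a528425280a0084a5014a428020014a521484214010942

noncomputable def m5_10 : ℕ := nat_lit 0x10a521400280202142400084294a5284a5094a12008000004000802902500005290a00108100004

noncomputable def m5_11 : ℕ := nat_lit 0x20020700400800038180000c0481e030100000c0401800008050000000a0001c050020000000004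

noncomputable def m5_12 : ℕ := nat_lit 0x40003000038400304000b000040003c8002b000334001880010400164003d0001d80021200350

noncomputable def m5_13 : ℕ := nat_lit 0x72058000002a6f40000062ef800000a3040000009208000000c84b00000044b100000080900

noncomputable def m5_14 : ℕ := nat_lit 0x4490510400000000000061a0820880000000000008c22bd33000000000002db18e0100

noncomputable def m5_15 : ℕ := nat_lit 0xc20356430ca318600220000000000000000000002062f63a7a5c20040040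

noncomputable def m5_16 : ℕ := nat_lit 0xf18e85010c0014408260040a0000001530201040

noncomputable def net5 : Net := (.cons 160 m5_0 (.cons 80 m5_1 (.cons 40 m5_2 (.cons 20 m5_3 (.cons 10 m5_4 (.cons 5 m5_5 (.cons 1 m5_6 (.cons 1 m5_7 (.cons 1 m5_8 (.cons 1 m5_9 (.cons 1 m5_10 (.cons 5 m5_11 (.cons 10 m5_12 (.cons 20 m5_13 (.cons 40 m5_14 (.cons 80 m5_15 (.cons 160 m5_16 .nil)))))))))))))))))

theorem ok5 : Net.ok 320 net5 = true :=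
  by decide +kernel

noncomputable def m6_0 : ℕ := nat_lit 0xceff42409e7e9effffd06000005c184001880000

noncomputable def m6_1 : ℕ := nat_lit 0xe1c9427d2c988138add80000000000000000000048e3c864275880b02080

noncomputable def m6_2 : ℕ := nat_lit 0x70175a0200000000000079a7c004000000000000fda024802800000000002084040000

noncomputable def m6_3 : ℕ := nat_lit 0xafe88000008751000000b9840000006fe400000059b040000034a00000002302000000e2044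

noncomputable def m6_4 : ℕ := nat_lit 0x1e80028000396000040015900174003800036c0022200366001e20024c000880019800318001e8

noncomputable def m6_5 : ℕ := nat_lit 0x7c0a0581603c00060100281f0100b0701c0400005c0e02806028120181f06003010000101403008

noncomputable def m6_6 : ℕ := nat_lit 0x40000000014000040008020000840002000420000002800000000004000000400000

noncomputable def m6_7 : ℕ := nat_lit 0x25000050840000000280a52800501420294a40040029400280a5000000000028000000a5004a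

noncomputable def m6_8 : ℕ := nat_lit 0x8529400290a400001094a42140021085014a52008001485014042800020000210850000528084

noncomputable def m6_9 : ℕ := nat_lit 0x40102529001204a421021284a52808521420294a50100429420280a5000050800429420204a1214a

noncomputable def m6_10 : ℕ := nat_lit 0x210000142009400080010908100480290a00808408480084a5080a42848420021204850000400000

noncomputable def m6_11 : ℕ := nat_lit 0x1a05812068000001004800010080701c040000101602804008120080006000010000001403008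

noncomputable def m6_12 : ℕ := nat_lit 0x3700028000388000040020000170003800036c0001400366001c00024c00088001980021800320

noncomputable def m6_13 : ℕ := nat_lit 0xafe88000008751000000b9840000006fe400000059b040000034a00000002302000000e2044

noncomputable def m6_14 : ℕ := nat_lit 0x70175a0200000000000079a7c004000000000000fda024802800000000002084040000

noncomputable def m6_15 : ℕ := nat_lit 0xe1c9427d2c988138a4100000000000000000000048e3c864275880b02080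

noncomputable def m6_16 : ℕ := nat_lit 0xceff42409e7e9effffd06000005c184001880000

noncomputable def net6 : Net := (.cons 160 m6_0 (.cons 80 m6_1 (.cons 40 m6_2 (.cons 20 m6_3 (.cons 10 m6_4 (.cons 5 m6_5 (.cons 1 m6_6 (.cons 1 m6_7 (.cons 1 m6_8 (.cons 1 m6_9 (.cons 1 m6_10 (.cons 5 m6_11 (.cons 10 m6_12 (.cons 20 m6_13 (.cons 40 m6_14 (.cons 80 m6_15 (.cons 160 m6_16 .nil)))))))))))))))))

theorem ok6 : Net.ok 320 net6 = true :=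
  by decide +kernel

noncomputable def m7_0 : ℕ := nat_lit 0xef2335f520152680118d0233008226e301458412

noncomputable def m7_1 : ℕ := nat_lit 0x9a02a6424060742ef9b50000000000000000000088120974f20c12f330ca

noncomputable def m7_2 : ℕ := nat_lit 0xec4d3248d00000000000e9846dffd900000000007a7c42f0c0000000000008981e0350

noncomputable def m7_3 : ℕ := nat_lit 0x76c32000004f870000008212500000a24940000062698000002bd5900000f8e400000070490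

noncomputable def m7_4 : ℕ := nat_lit 0x279001a00004000338002ba001d1002920028300018001dc0002e0031400366001fe000ad00139

noncomputable def m7_5 : ℕ := nat_lit 0x5c04024000380303c0c05c1c05403014140041e060000181801412038050101d078100100e03001

noncomputable def m7_6 : ℕ := nat_lit 0x8000000a00000001000084000002000000000200000000000000000002000000000000100100001

noncomputable def m7_7 : ℕ := nat_lit 0x500000014a02100028081284812148501001204802900401020000010140020004000a0280a40002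

noncomputable def m7_8 : ℕ := nat_lit 0x29005214a4090a501405210a529485200a129085010a021484004802108101005200a421484200a5

noncomputable def m7_9 : ℕ := nat_lit 0x520021094a10842408024284250942509421090a428405084a109404094a529021004a1094a1014a

noncomputable def m7_10 : ℕ := nat_lit 0x40128400080a429085204a401024000a4004852048000424000852942400001004012940500480

noncomputable def m7_11 : ℕ := nat_lit 0x68040000006802020140081400010000000080e0600800812010100700004014070100000c00010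

noncomputable def m7_12 : ℕ := nat_lit 0x2f0001300014400100000ac000c6003b40030400018001f20006800024000e4001fc001f80027a

noncomputable def m7_13 : ℕ := nat_lit 0x66c3200000da950000000c06000000560320000060898000003fcfa00000d8e800000066398

noncomputable def m7_14 : ℕ := nat_lit 0xd94c24c9b00000000000611965ef7a000000000072b682b6c000000000003dd43e03c8

noncomputable def m7_15 : ℕ := nat_lit 0x1f228787607075e8c96200000000000000000000980a0b7e6c0031db40cc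

noncomputable def m7_16 : ℕ := nat_lit 0xef2335f52012fa15424b02c6001045e408099814

noncomputable def net7 : Net := (.cons 160 m7_0 (.cons 80 m7_1 (.cons 40 m7_2 (.cons 20 m7_3 (.cons 10 m7_4 (.cons 5 m7_5 (.cons 1 m7_6 (.cons 1 m7_7 (.cons 1 m7_8 (.cons 1 m7_9 (.cons 1 m7_10 (.cons 5 m7_11 (.cons 10 m7_12 (.cons 20 m7_13 (.cons 40 m7_14 (.cons 80 m7_15 (.cons 160 m7_16 .nil)))))))))))))))))

theorem ok7 : Net.ok 320 net7 = true :=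
  by decide +kernel

noncomputable def net8 : Net := (.cons 160 m7_16 (.cons 80 m7_15 (.cons 40 m7_14 (.cons 20 m7_13 (.cons 10 m7_12 (.cons 5 m7_11 (.cons 1 m7_10 (.cons 1 m7_9 (.cons 1 m7_8 (.cons 1 m7_7 (.cons 1 m7_6 (.cons 5 m7_5 (.cons 10 m7_4 (.cons 20 m7_3 (.cons 40 m7_2 (.cons 80 m7_1 (.cons 160 m7_0 .nil)))))))))))))))))

theorem ok8 : Net.ok 320 net8 = true :=
  by decide +kernel

noncomputable def m9_0 : ℕ := nat_lit 0xeb8aaa18bcfe652be80a7ff4f2e0d53422af0260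

noncomputable def m9_1 : ℕ := nat_lit 0xe8a543afd76951fefc8d00000000000000000000a88690999f2322c00bee

noncomputable def m9_2 : ℕ := nat_lit 0x2ecb71ebfd0000000000031ad64d1a0000000000855edf1dda00000000005fdd80623e

noncomputable def m9_3 : ℕ := nat_lit 0x54ca900000eb78c00000f84a0000006f93400000d5a8000000990bf000006e479000008f546

noncomputable def m9_4 : ℕ := nat_lit 0xfa00292000140018a00236001920010c00228001b30006b0002200314000dd0014c003c200374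

noncomputable def m9_5 : ℕ := nat_lit 0xc060300f048020180900800024000441e06005074110700800817048000540b060080581006c12

noncomputable def m9_6 : ℕ := nat_lit 0x8020000010000000000000000042000001000000000100020000000000100000

noncomputable def m9_7 : ℕ := nat_lit 0x9004000042800101420000a0200000040401004084040042028000200a00848000080000a00040

noncomputable def m9_8 : ℕ := nat_lit 0x94a4290002900028084000050900001080280a029084204a50140421404214a5000042840401080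

noncomputable def m9_9 : ℕ := nat_lit 0x1094a1204812942501481010a108021294810040521421094a128021080a5094a400021280a12940

noncomputable def m9_10 : ℕ := nat_lit 0x9404094a028424200202908009404080a00808400424204a00940020420004a1090052800129080

noncomputable def m9_11 : ℕ := nat_lit 0x1804040080600a000060080802804008000501c0200a0700801004068000781e060180300004010

noncomputable def m9_12 : ℕ := nat_lit 0x226003a00021a0020000230001140038400208002c200036000b00001c0012a00144000f2002f0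

noncomputable def m9_13 : ℕ := nat_lit 0xd2a40000007871e0000038824000002c14400000e97480000099dc6000002e76e00000df3a4

noncomputable def m9_14 : ℕ := nat_lit 0x2e4c70f6340000000000dd125e051e0000000000855f4fbf1a00000000001fcd96821c

noncomputable def m9_15 : ℕ := nat_lit 0x802fe9bf7b0f31ae080200000000000000000000a882c07c9e228ac20d76

noncomputable def m9_16 : ℕ := nat_lit 0xeb8aaa18bcf9e2fd894fb88bf624f0632aaf0260

noncomputable def net9 : Net := (.cons 160 m9_0 (.cons 80 m9_1 (.cons 40 m9_2 (.cons 20 m9_3 (.cons 10 m9_4 (.cons 5 m9_5 (.cons 1 m9_6 (.cons 1 m9_7 (.cons 1 m9_8 (.cons 1 m9_9 (.cons 1 m9_10 (.cons 5 m9_11 (.cons 10 m9_12 (.cons 20 m9_13 (.cons 40 m9_14 (.cons 80 m9_15 (.cons 160 m9_16 .nil)))))))))))))))))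

theorem ok9 : Net.ok 320 net9 = true :=
  by decide +kernel

noncomputable def net10 : Net := (.cons 160 m9_16 (.cons 80 m9_15 (.cons 40 m9_14 (.cons 20 m9_13 (.cons 10 m9_12 (.cons 5 m9_11 (.cons 1 m9_10 (.cons 1 m9_9 (.cons 1 m9_8 (.cons 1 m9_7 (.cons 1 m9_6 (.cons 5 m9_5 (.cons 10 m9_4 (.cons 20 m9_3 (.cons 40 m9_2 (.cons 80 m9_1 (.cons 160 m9_0 .nil)))))))))))))))))

theorem ok10 : Net.ok 320 net10 = true :=
  by decide +kernel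

noncomputable def nets : List Net := [net0, net1, net2, net3, net4, net5, net6, net7, net8, net9, net10]

noncomputable def act : Act := netAct' nets
noncomputable def π : ℕ → Equiv.Perm ℕ := netPerm nets

theorem spec : act.Spec 320 π :=
  spec_fast (netAct_spec (AllP.forall (p := fun t => Net.ok 320 t = true) ⟨ok0, ok1, ok2, ok3, ok4, ok5, ok6, ok7, ok8, ok9, ok10, trivial⟩))

theorem out : ∀ k, 11 ≤ k → π k = 1 :=
  netPerm_out nets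

theorem sat_inv_0 : invC Cfsg.Agent.LyMc.M275.act Cfsg.Agent.LyMc.PT.I 320 9 Cfsg.Agent.LyMc.PT.inv.length [0, 1, 2, 3, 4, 5, 6, 7, 8] = true :=
  by decide +kernel

theorem sat_inv : ∀ k, Cfsg.Agent.LyMc.M275.π (Cfsg.Agent.LyMc.PT.I k) * Cfsg.Agent.LyMc.M275.π k = 1 :=
  inv_of_checks Cfsg.Agent.LyMc.M275.spec (K := 9) (by decide) Cfsg.Agent.LyMc.M275.out [[0, 1, 2, 3, 4, 5, 6, 7, 8]] (by decide) ⟨sat_inv_0, trivial⟩

theorem sat_rel_0_0 : relsC Cfsg.Agent.LyMc.M275.act Cfsg.Agent.LyMc.PT.I 320 9 [[2, 2, 2], [2, 4, 2, 4], [0, 3, 4, 0, 3, 4], [0, 2, 0, 2, 0, 2], [1, 3, 4, 1, 3, 4], [1, 2, 1, 2, 1, 2], [5, 6, 5, 6, 5, 6, 5, 6], [4, 6, 4, 6, 4, 6, 4, 6], [4, 5, 4, 5, 4, 5, 4, 5], [0, 2, 4, 3, 0, 2, 4, 3], [0, 2, 0, 3, 0, 2, 0, 3], [0, 6, 4, 6, 0, 6, 4, 6], [0, 5, 0, 5, 0, 5, 0, 5], [0, 4, 0, 4, 0, 4, 0, 4], [0, 4, 0, 6, 0, 4, 0, 6], [0, 1, 0, 1, 0,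 1, 0, 1], [1, 2, 4, 3, 1, 2, 4, 3], [1, 2, 1, 3, 1, 2, 1, 3], [1, 6, 1, 6, 1, 6, 1, 6], [1, 5, 4, 5, 1, 5, 4, 5], [1, 4, 1, 4, 1, 4, 1, 4], [1, 4, 1, 5, 1, 4, 1, 5], [2, 4, 5, 2, 4, 5, 2, 4, 5], [1, 4, 5, 1, 4, 5, 1, 4, 5], [2, 4, 2, 6, 4, 2, 4, 2, 6, 4], [2, 4, 2, 5, 4, 2, 4, 2, 5, 4], [2, 4, 2, 4, 6, 2, 4, 2, 4, 6], [2, 4, 2, 4, 5, 2, 4, 2, 4, 5], [4, 5, 6, 5, 6, 4, 5, 6, 5, 6], [0, 3, 4, 3, 4, 0, 3, 4, 3, 4], [0, 2, 6, 2, 4, 0, 2, 6, 2, 4], [0, 2, 4, 2, 4, 0, 2, 4, 2, 4], [0, 2, 4, 6, 3, 0, 2, 4, 6, 3], [0, 2, 0, 3, 4, 0, 2, 0, 3, 4], [0, 2, 0, 4, 2, 0, 2, 0, 4, 2], [0, 5, 3, 4, 5, 0, 5, 3, 4, 5], [0, 5, 6, 5, 6, 0, 5, 6, 5, 6], [0, 5, 0, 5, 6, 0, 5, 0, 5, 6], [0, 4, 5, 0, 5, 0, 4, 5, 0, 5], [0, 1, 3, 4, 1, 0, 1, 3, 4, 1], [0, 1, 6, 1, 6, 0, 1, 6, 1, 6], [0, 1, 5, 0, 5, 0, 1, 5, 0, 5], [0, 1, 0, 3, 4, 0, 1, 0, 3, 4], [0, 1, 0, 1, 6, 0, 1, 0, 1,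 6], [0, 1, 0, 1, 5, 0, 1, 0, 1, 5], [0, 1, 0, 1, 4, 0, 1, 0, 1, 4], [1, 3, 4, 3, 4, 1, 3, 4, 3, 4], [1, 2, 5, 2, 4, 1, 2, 5, 2, 4], [1, 2, 4, 2, 4, 1, 2, 4, 2, 4], [1, 2, 4, 5, 3, 1, 2, 4, 5, 3], [1, 2, 1, 3, 4, 1, 2, 1, 3, 4], [1, 2, 1, 4, 2, 1, 2, 1, 4, 2], [1, 6, 3, 4, 6, 1, 6, 3, 4, 6], [1, 5, 6, 5, 6, 1, 5, 6, 5, 6], [1, 5, 6, 1, 6, 1, 5, 6, 1, 6], [1, 4, 6, 1, 6, 1, 4, 6, 1, 6], [2, 6, 4, 2, 6, 4, 2, 6, 4, 2, 6, 4], [2, 6, 4, 6, 2, 6, 4, 6, 2, 6, 4, 6], [2, 5, 3, 4, 2, 5, 3, 4, 2, 5, 3, 4], [2, 5, 4, 2, 5, 4, 2, 5, 4, 2, 5, 4], [2, 4, 3, 4, 2, 4, 3, 4, 2, 4, 3, 4], [0, 2, 6, 0, 2, 6, 0, 2, 6, 0, 2, 6], [0, 2, 4, 0, 2, 4, 0, 2, 4, 0, 2, 4], [0, 6, 0, 6, 0, 6, 0, 6, 0, 6, 0, 6], [0, 6, 2, 6, 0, 6, 2, 6, 0, 6, 2, 6], [0, 5, 6, 5, 0, 5, 6, 5, 0, 5, 6, 5], [0, 1, 0, 5, 0, 1, 0, 5, 0, 1, 0, 5], [0, 1, 6, 1, 0, 1, 6, 1, 0, 1, 6, 1], [7, 7, 7], [3,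 8, 2, 7], [7, 4, 7, 4], [8, 1, 7, 1], [8, 3, 0, 2, 7, 0], [1, 5, 1, 7, 1, 5, 1, 7, 1, 5, 1, 7, 1, 5, 1, 7, 1, 5, 1, 7], [2, 5, 3, 4, 7, 2, 5, 3, 4, 7, 2, 5, 3, 4, 7, 2, 5, 3, 4, 7, 2, 5, 3, 4, 7], [5, 1, 5, 7, 5, 1, 5, 7, 5, 1, 5, 7, 5, 1, 5, 7, 5, 1, 5, 7], [2, 4, 5, 2, 7, 2, 4, 5, 2, 7, 2, 4, 5, 2, 7, 2, 4, 5, 2, 7, 2, 4, 5, 2, 7], [5, 4, 7, 5, 4, 7, 5, 4, 7, 5, 4, 7, 5, 4, 7, 5, 4, 7], [4, 5, 7, 4, 5, 7, 4, 5, 7, 4, 5, 7, 4, 5, 7, 4, 5, 7], [2, 6, 0, 6, 2, 7, 2, 6, 0, 6, 2, 7, 2, 6, 0, 6, 2, 7, 2, 6, 0, 6, 2, 7, 2, 6, 0, 6, 2, 7], [4, 6, 3, 4, 6, 7, 4, 6, 3, 4, 6, 7, 4, 6, 3, 4, 6, 7, 4, 6, 3, 4, 6, 7, 4, 6, 3, 4, 6, 7], [2, 4, 6, 2, 7, 2, 4, 6, 2, 7, 2, 4, 6, 2, 7, 2, 4, 6, 2, 7, 2, 4, 6, 2, 7], [0, 2, 6, 2, 7, 0, 2, 6, 2, 7, 0, 2, 6, 2, 7, 0, 2, 6, 2, 7, 0, 2, 6, 2, 7], [0, 2, 6, 2, 6, 7, 0, 2, 6, 2, 6, 7, 0, 2, 6, 2, 6, 7, 0, 2, 6, 2, 6, 7,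 0, 2, 6, 2, 6, 7], [6, 3, 4, 6, 4, 7, 6, 3, 4, 6, 4, 7, 6, 3, 4, 6, 4, 7, 6, 3, 4, 6, 4, 7, 6, 3, 4, 6, 4, 7], [9, 0, 10, 1], [9, 1, 10, 0], [9, 2, 10, 3], [9, 4, 10, 4, 0, 1, 0, 1], [9, 5, 10, 6], [9, 6, 10, 5], [9, 7, 10, 0, 1, 0, 1, 2, 7], [9, 9, 0, 1, 0, 1]] [0, 1, 2, 3, 4, 5, 6, 7, 8] = true :=
  by decide +kernel

theorem sat_rel_0 : ∀ r ∈ ([[2, 2, 2], [2, 4, 2, 4], [0, 3, 4, 0, 3, 4], [0, 2, 0, 2, 0, 2], [1, 3, 4, 1, 3, 4], [1, 2, 1, 2, 1, 2], [5, 6, 5, 6, 5, 6, 5, 6], [4, 6, 4, 6, 4, 6, 4, 6], [4, 5, 4, 5, 4, 5, 4, 5], [0, 2, 4, 3, 0, 2, 4, 3], [0, 2, 0, 3, 0, 2, 0, 3], [0, 6, 4, 6, 0, 6, 4, 6], [0, 5, 0, 5, 0, 5, 0, 5], [0, 4, 0, 4, 0, 4, 0, 4], [0, 4, 0, 6, 0, 4, 0, 6], [0, 1, 0, 1, 0, 1, 0, 1], [1, 2, 4, 3, 1, 2, 4, 3], [1, 2, 1, 3, 1, 2, 1, 3], [1, 6, 1, 6, 1, 6, 1, 6], [1, 5, 4, 5, 1, 5, 4, 5], [1, 4, 1, 4, 1, 4, 1, 4], [1, 4, 1, 5, 1,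 4, 1, 5], [2, 4, 5, 2, 4, 5, 2, 4, 5], [1, 4, 5, 1, 4, 5, 1, 4, 5], [2, 4, 2, 6, 4, 2, 4, 2, 6, 4], [2, 4, 2, 5, 4, 2, 4, 2, 5, 4], [2, 4, 2, 4, 6, 2, 4, 2, 4, 6], [2, 4, 2, 4, 5, 2, 4, 2, 4, 5], [4, 5, 6, 5, 6, 4, 5, 6, 5, 6], [0, 3, 4, 3, 4, 0, 3, 4, 3, 4], [0, 2, 6, 2, 4, 0, 2, 6, 2, 4], [0, 2, 4, 2, 4, 0, 2, 4, 2, 4], [0, 2, 4, 6, 3, 0, 2, 4, 6, 3], [0, 2, 0, 3, 4, 0, 2, 0, 3, 4], [0, 2, 0, 4, 2, 0, 2, 0, 4, 2], [0, 5, 3, 4, 5, 0, 5, 3, 4, 5], [0, 5, 6, 5, 6, 0, 5, 6, 5, 6], [0, 5, 0, 5, 6, 0, 5, 0, 5, 6], [0, 4, 5, 0, 5, 0, 4, 5, 0, 5], [0, 1, 3, 4, 1, 0, 1, 3, 4, 1], [0, 1, 6, 1, 6, 0, 1, 6, 1, 6], [0, 1, 5, 0, 5, 0, 1, 5, 0, 5], [0, 1, 0, 3, 4, 0, 1, 0, 3, 4], [0, 1, 0, 1, 6, 0, 1, 0, 1, 6], [0, 1, 0, 1, 5, 0, 1, 0, 1, 5], [0, 1, 0, 1, 4, 0, 1, 0, 1, 4], [1, 3, 4, 3, 4, 1, 3, 4, 3, 4], [1, 2, 5, 2, 4, 1, 2, 5, 2, 4], [1, 2, 4, 2, 4, 1, 2, 4,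 2, 4], [1, 2, 4, 5, 3, 1, 2, 4, 5, 3], [1, 2, 1, 3, 4, 1, 2, 1, 3, 4], [1, 2, 1, 4, 2, 1, 2, 1, 4, 2], [1, 6, 3, 4, 6, 1, 6, 3, 4, 6], [1, 5, 6, 5, 6, 1, 5, 6, 5, 6], [1, 5, 6, 1, 6, 1, 5, 6, 1, 6], [1, 4, 6, 1, 6, 1, 4, 6, 1, 6], [2, 6, 4, 2, 6, 4, 2, 6, 4, 2, 6, 4], [2, 6, 4, 6, 2, 6, 4, 6, 2, 6, 4, 6], [2, 5, 3, 4, 2, 5, 3, 4, 2, 5, 3, 4], [2, 5, 4, 2, 5, 4, 2, 5, 4, 2, 5, 4], [2, 4, 3, 4, 2, 4, 3, 4, 2, 4, 3, 4], [0, 2, 6, 0, 2, 6, 0, 2, 6, 0, 2, 6], [0, 2, 4, 0, 2, 4, 0, 2, 4, 0, 2, 4], [0, 6, 0, 6, 0, 6, 0, 6, 0, 6, 0, 6], [0, 6, 2, 6, 0, 6, 2, 6, 0, 6, 2, 6], [0, 5, 6, 5, 0, 5, 6, 5, 0, 5, 6, 5], [0, 1, 0, 5, 0, 1, 0, 5, 0, 1, 0, 5], [0, 1, 6, 1, 0, 1, 6, 1, 0, 1, 6, 1], [7, 7, 7], [3, 8, 2, 7], [7, 4, 7, 4], [8, 1, 7, 1], [8, 3, 0, 2, 7, 0], [1, 5, 1, 7, 1, 5, 1, 7, 1, 5, 1, 7, 1, 5, 1, 7, 1, 5, 1, 7], [2, 5, 3, 4, 7, 2, 5, 3, 4, 7, 2, 5,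 3, 4, 7, 2, 5, 3, 4, 7, 2, 5, 3, 4, 7], [5, 1, 5, 7, 5, 1, 5, 7, 5, 1, 5, 7, 5, 1, 5, 7, 5, 1, 5, 7], [2, 4, 5, 2, 7, 2, 4, 5, 2, 7, 2, 4, 5, 2, 7, 2, 4, 5, 2, 7, 2, 4, 5, 2, 7], [5, 4, 7, 5, 4, 7, 5, 4, 7, 5, 4, 7, 5, 4, 7, 5, 4, 7], [4, 5, 7, 4, 5, 7, 4, 5, 7, 4, 5, 7, 4, 5, 7, 4, 5, 7], [2, 6, 0, 6, 2, 7, 2, 6, 0, 6, 2, 7, 2, 6, 0, 6, 2, 7, 2, 6, 0, 6, 2, 7, 2, 6, 0, 6, 2, 7], [4, 6, 3, 4, 6, 7, 4, 6, 3, 4, 6, 7, 4, 6, 3, 4, 6, 7, 4, 6, 3, 4, 6, 7, 4, 6, 3, 4, 6, 7], [2, 4, 6, 2, 7, 2, 4, 6, 2, 7, 2, 4, 6, 2, 7, 2, 4, 6, 2, 7, 2, 4, 6, 2, 7], [0, 2, 6, 2, 7, 0, 2, 6, 2, 7, 0, 2, 6, 2, 7, 0, 2, 6, 2, 7, 0, 2, 6, 2, 7], [0, 2, 6, 2, 6, 7, 0, 2, 6, 2, 6, 7, 0, 2, 6, 2, 6, 7, 0, 2, 6, 2, 6, 7, 0, 2, 6, 2, 6, 7], [6, 3, 4, 6, 4, 7, 6, 3, 4, 6, 4, 7, 6, 3, 4, 6, 4, 7, 6, 3, 4, 6, 4, 7, 6, 3, 4, 6, 4, 7], [9, 0, 10, 1], [9, 1, 10, 0], [9, 2, 10, 3], [9,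 4, 10, 4, 0, 1, 0, 1], [9, 5, 10, 6], [9, 6, 10, 5], [9, 7, 10, 0, 1, 0, 1, 2, 7], [9, 9, 0, 1, 0, 1]] : List (List ℕ)), ev Cfsg.Agent.LyMc.M275.π r = 1 :=
  rels_of_checks Cfsg.Agent.LyMc.M275.spec (K := 9) (by decide) sat_inv _ [[0, 1, 2, 3, 4, 5, 6, 7, 8]] (by decide) ⟨sat_rel_0_0, trivial⟩

theorem sat_rel : ∀ r ∈ ([[2, 2, 2], [2, 4, 2, 4], [0, 3, 4, 0, 3, 4], [0, 2, 0, 2, 0, 2], [1, 3, 4, 1, 3, 4], [1, 2, 1, 2, 1, 2], [5, 6, 5, 6, 5, 6, 5, 6], [4, 6, 4, 6, 4, 6, 4, 6], [4, 5, 4, 5, 4, 5, 4, 5], [0, 2, 4, 3, 0, 2, 4, 3], [0, 2, 0, 3, 0, 2, 0, 3], [0, 6, 4, 6, 0, 6, 4, 6], [0, 5, 0, 5, 0, 5, 0, 5], [0, 4, 0, 4, 0, 4, 0, 4], [0, 4, 0, 6, 0, 4, 0, 6], [0, 1, 0, 1, 0, 1, 0, 1], [1, 2, 4, 3, 1, 2, 4, 3], [1, 2, 1, 3, 1, 2, 1, 3], [1, 6, 1, 6, 1, 6, 1, 6], [1, 5, 4, 5, 1, 5, 4, 5], [1, 4, 1, 4, 1, 4, 1, 4], [1, 4, 1, 5, 1, 4, 1, 5], [2, 4, 5, 2, 4,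 5, 2, 4, 5], [1, 4, 5, 1, 4, 5, 1, 4, 5], [2, 4, 2, 6, 4, 2, 4, 2, 6, 4], [2, 4, 2, 5, 4, 2, 4, 2, 5, 4], [2, 4, 2, 4, 6, 2, 4, 2, 4, 6], [2, 4, 2, 4, 5, 2, 4, 2, 4, 5], [4, 5, 6, 5, 6, 4, 5, 6, 5, 6], [0, 3, 4, 3, 4, 0, 3, 4, 3, 4], [0, 2, 6, 2, 4, 0, 2, 6, 2, 4], [0, 2, 4, 2, 4, 0, 2, 4, 2, 4], [0, 2, 4, 6, 3, 0, 2, 4, 6, 3], [0, 2, 0, 3, 4, 0, 2, 0, 3, 4], [0, 2, 0, 4, 2, 0, 2, 0, 4, 2], [0, 5, 3, 4, 5, 0, 5, 3, 4, 5], [0, 5, 6, 5, 6, 0, 5, 6, 5, 6], [0, 5, 0, 5, 6, 0, 5, 0, 5, 6], [0, 4, 5, 0, 5, 0, 4, 5, 0, 5], [0, 1, 3, 4, 1, 0, 1, 3, 4, 1], [0, 1, 6, 1, 6, 0, 1, 6, 1, 6], [0, 1, 5, 0, 5, 0, 1, 5, 0, 5], [0, 1, 0, 3, 4, 0, 1, 0, 3, 4], [0, 1, 0, 1, 6, 0, 1, 0, 1, 6], [0, 1, 0, 1, 5, 0, 1, 0, 1, 5], [0, 1, 0, 1, 4, 0, 1, 0, 1, 4], [1, 3, 4, 3, 4, 1, 3, 4, 3, 4], [1, 2, 5, 2, 4, 1, 2, 5, 2, 4], [1, 2, 4, 2, 4, 1, 2, 4, 2, 4], [1, 2, 4, 5, 3, 1,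 2, 4, 5, 3], [1, 2, 1, 3, 4, 1, 2, 1, 3, 4], [1, 2, 1, 4, 2, 1, 2, 1, 4, 2], [1, 6, 3, 4, 6, 1, 6, 3, 4, 6], [1, 5, 6, 5, 6, 1, 5, 6, 5, 6], [1, 5, 6, 1, 6, 1, 5, 6, 1, 6], [1, 4, 6, 1, 6, 1, 4, 6, 1, 6], [2, 6, 4, 2, 6, 4, 2, 6, 4, 2, 6, 4], [2, 6, 4, 6, 2, 6, 4, 6, 2, 6, 4, 6], [2, 5, 3, 4, 2, 5, 3, 4, 2, 5, 3, 4], [2, 5, 4, 2, 5, 4, 2, 5, 4, 2, 5, 4], [2, 4, 3, 4, 2, 4, 3, 4, 2, 4, 3, 4], [0, 2, 6, 0, 2, 6, 0, 2, 6, 0, 2, 6], [0, 2, 4, 0, 2, 4, 0, 2, 4, 0, 2, 4], [0, 6, 0, 6, 0, 6, 0, 6, 0, 6, 0, 6], [0, 6, 2, 6, 0, 6, 2, 6, 0, 6, 2, 6], [0, 5, 6, 5, 0, 5, 6, 5, 0, 5, 6, 5], [0, 1, 0, 5, 0, 1, 0, 5, 0, 1, 0, 5], [0, 1, 6, 1, 0, 1, 6, 1, 0, 1, 6, 1], [7, 7, 7], [3, 8, 2, 7], [7, 4, 7, 4], [8, 1, 7, 1], [8, 3, 0, 2, 7, 0], [1, 5, 1, 7, 1, 5, 1, 7, 1, 5, 1, 7, 1, 5, 1, 7, 1, 5, 1, 7], [2, 5, 3, 4, 7, 2, 5, 3, 4, 7, 2, 5, 3, 4, 7, 2, 5, 3, 4, 7, 2,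 5, 3, 4, 7], [5, 1, 5, 7, 5, 1, 5, 7, 5, 1, 5, 7, 5, 1, 5, 7, 5, 1, 5, 7], [2, 4, 5, 2, 7, 2, 4, 5, 2, 7, 2, 4, 5, 2, 7, 2, 4, 5, 2, 7, 2, 4, 5, 2, 7], [5, 4, 7, 5, 4, 7, 5, 4, 7, 5, 4, 7, 5, 4, 7, 5, 4, 7], [4, 5, 7, 4, 5, 7, 4, 5, 7, 4, 5, 7, 4, 5, 7, 4, 5, 7], [2, 6, 0, 6, 2, 7, 2, 6, 0, 6, 2, 7, 2, 6, 0, 6, 2, 7, 2, 6, 0, 6, 2, 7, 2, 6, 0, 6, 2, 7], [4, 6, 3, 4, 6, 7, 4, 6, 3, 4, 6, 7, 4, 6, 3, 4, 6, 7, 4, 6, 3, 4, 6, 7, 4, 6, 3, 4, 6, 7], [2, 4, 6, 2, 7, 2, 4, 6, 2, 7, 2, 4, 6, 2, 7, 2, 4, 6, 2, 7, 2, 4, 6, 2, 7], [0, 2, 6, 2, 7, 0, 2, 6, 2, 7, 0, 2, 6, 2, 7, 0, 2, 6, 2, 7, 0, 2, 6, 2, 7], [0, 2, 6, 2, 6, 7, 0, 2, 6, 2, 6, 7, 0, 2, 6, 2, 6, 7, 0, 2, 6, 2, 6, 7, 0, 2, 6, 2, 6, 7], [6, 3, 4, 6, 4, 7, 6, 3, 4, 6, 4, 7, 6, 3, 4, 6, 4, 7, 6, 3, 4, 6, 4, 7, 6, 3, 4, 6, 4, 7], [9, 0, 10, 1], [9, 1, 10, 0], [9, 2, 10, 3], [9, 4, 10, 4, 0, 1, 0, 1], [9,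 5, 10, 6], [9, 6, 10, 5], [9, 7, 10, 0, 1, 0, 1, 2, 7], [9, 9, 0, 1, 0, 1]] : List (List ℕ)), ev Cfsg.Agent.LyMc.M275.π r = 1 :=
  rels_join [[[2, 2, 2], [2, 4, 2, 4], [0, 3, 4, 0, 3, 4], [0, 2, 0, 2, 0, 2], [1, 3, 4, 1, 3, 4], [1, 2, 1, 2, 1, 2], [5, 6, 5, 6, 5, 6, 5, 6], [4, 6, 4, 6, 4, 6, 4, 6], [4, 5, 4, 5, 4, 5, 4, 5], [0, 2, 4, 3, 0, 2, 4, 3], [0, 2, 0, 3, 0, 2, 0, 3], [0, 6, 4, 6, 0, 6, 4, 6], [0, 5, 0, 5, 0, 5, 0, 5], [0, 4, 0, 4, 0, 4, 0, 4], [0, 4, 0, 6, 0, 4, 0, 6], [0, 1, 0, 1, 0, 1, 0, 1], [1, 2, 4, 3, 1, 2, 4, 3], [1, 2, 1, 3, 1, 2, 1, 3], [1, 6, 1, 6, 1, 6, 1, 6], [1, 5, 4, 5, 1, 5, 4, 5], [1, 4, 1, 4, 1, 4, 1, 4], [1, 4, 1, 5, 1, 4, 1, 5], [2, 4, 5, 2, 4, 5, 2, 4, 5], [1, 4, 5, 1, 4, 5, 1, 4, 5], [2, 4, 2, 6, 4, 2, 4, 2, 6, 4], [2, 4, 2, 5, 4, 2, 4, 2, 5, 4], [2, 4, 2, 4, 6, 2, 4, 2, 4, 6], [2, 4, 2, 4, 5, 2, 4, 2, 4, 5], [4, 5, 6,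 5, 6, 4, 5, 6, 5, 6], [0, 3, 4, 3, 4, 0, 3, 4, 3, 4], [0, 2, 6, 2, 4, 0, 2, 6, 2, 4], [0, 2, 4, 2, 4, 0, 2, 4, 2, 4], [0, 2, 4, 6, 3, 0, 2, 4, 6, 3], [0, 2, 0, 3, 4, 0, 2, 0, 3, 4], [0, 2, 0, 4, 2, 0, 2, 0, 4, 2], [0, 5, 3, 4, 5, 0, 5, 3, 4, 5], [0, 5, 6, 5, 6, 0, 5, 6, 5, 6], [0, 5, 0, 5, 6, 0, 5, 0, 5, 6], [0, 4, 5, 0, 5, 0, 4, 5, 0, 5], [0, 1, 3, 4, 1, 0, 1, 3, 4, 1], [0, 1, 6, 1, 6, 0, 1, 6, 1, 6], [0, 1, 5, 0, 5, 0, 1, 5, 0, 5], [0, 1, 0, 3, 4, 0, 1, 0, 3, 4], [0, 1, 0, 1, 6, 0, 1, 0, 1, 6], [0, 1, 0, 1, 5, 0, 1, 0, 1, 5], [0, 1, 0, 1, 4, 0, 1, 0, 1, 4], [1, 3, 4, 3, 4, 1, 3, 4, 3, 4], [1, 2, 5, 2, 4, 1, 2, 5, 2, 4], [1, 2, 4, 2, 4, 1, 2, 4, 2, 4], [1, 2, 4, 5, 3, 1, 2, 4, 5, 3], [1, 2, 1, 3, 4, 1, 2, 1, 3, 4], [1, 2, 1, 4, 2, 1, 2, 1, 4, 2], [1, 6, 3, 4, 6, 1, 6, 3, 4, 6], [1, 5, 6, 5, 6, 1, 5, 6, 5, 6], [1, 5, 6, 1, 6, 1, 5, 6, 1, 6], [1, 4,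 6, 1, 6, 1, 4, 6, 1, 6], [2, 6, 4, 2, 6, 4, 2, 6, 4, 2, 6, 4], [2, 6, 4, 6, 2, 6, 4, 6, 2, 6, 4, 6], [2, 5, 3, 4, 2, 5, 3, 4, 2, 5, 3, 4], [2, 5, 4, 2, 5, 4, 2, 5, 4, 2, 5, 4], [2, 4, 3, 4, 2, 4, 3, 4, 2, 4, 3, 4], [0, 2, 6, 0, 2, 6, 0, 2, 6, 0, 2, 6], [0, 2, 4, 0, 2, 4, 0, 2, 4, 0, 2, 4], [0, 6, 0, 6, 0, 6, 0, 6, 0, 6, 0, 6], [0, 6, 2, 6, 0, 6, 2, 6, 0, 6, 2, 6], [0, 5, 6, 5, 0, 5, 6, 5, 0, 5, 6, 5], [0, 1, 0, 5, 0, 1, 0, 5, 0, 1, 0, 5], [0, 1, 6, 1, 0, 1, 6, 1, 0, 1, 6, 1], [7, 7, 7], [3, 8, 2, 7], [7, 4, 7, 4], [8, 1, 7, 1], [8, 3, 0, 2, 7, 0], [1, 5, 1, 7, 1, 5, 1, 7, 1, 5, 1, 7, 1, 5, 1, 7, 1, 5, 1, 7], [2, 5, 3, 4, 7, 2, 5, 3, 4, 7, 2, 5, 3, 4, 7, 2, 5, 3, 4, 7, 2, 5, 3, 4, 7], [5, 1, 5, 7, 5, 1, 5, 7, 5, 1, 5, 7, 5, 1, 5, 7, 5, 1, 5, 7], [2, 4, 5, 2, 7, 2, 4, 5, 2, 7, 2, 4, 5, 2, 7, 2, 4, 5, 2, 7, 2, 4, 5, 2, 7], [5, 4, 7, 5, 4, 7, 5, 4, 7,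 5, 4, 7, 5, 4, 7, 5, 4, 7], [4, 5, 7, 4, 5, 7, 4, 5, 7, 4, 5, 7, 4, 5, 7, 4, 5, 7], [2, 6, 0, 6, 2, 7, 2, 6, 0, 6, 2, 7, 2, 6, 0, 6, 2, 7, 2, 6, 0, 6, 2, 7, 2, 6, 0, 6, 2, 7], [4, 6, 3, 4, 6, 7, 4, 6, 3, 4, 6, 7, 4, 6, 3, 4, 6, 7, 4, 6, 3, 4, 6, 7, 4, 6, 3, 4, 6, 7], [2, 4, 6, 2, 7, 2, 4, 6, 2, 7, 2, 4, 6, 2, 7, 2, 4, 6, 2, 7, 2, 4, 6, 2, 7], [0, 2, 6, 2, 7, 0, 2, 6, 2, 7, 0, 2, 6, 2, 7, 0, 2, 6, 2, 7, 0, 2, 6, 2, 7], [0, 2, 6, 2, 6, 7, 0, 2, 6, 2, 6, 7, 0, 2, 6, 2, 6, 7, 0, 2, 6, 2, 6, 7, 0, 2, 6, 2, 6, 7], [6, 3, 4, 6, 4, 7, 6, 3, 4, 6, 4, 7, 6, 3, 4, 6, 4, 7, 6, 3, 4, 6, 4, 7, 6, 3, 4, 6, 4, 7], [9, 0, 10, 1], [9, 1, 10, 0], [9, 2, 10, 3], [9, 4, 10, 4, 0, 1, 0, 1], [9, 5, 10, 6], [9, 6, 10, 5], [9, 7, 10, 0, 1, 0, 1, 2, 7], [9, 9, 0, 1, 0, 1]]] ⟨sat_rel_0, trivial⟩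

theorem sat : Sat Cfsg.Agent.LyMc.PT Cfsg.Agent.LyMc.M275.π :=
  ⟨Cfsg.Agent.LyMc.M275.out, sat_inv, sat_rel⟩

theorem chH_c0 : levelC (subAct Cfsg.Agent.LyMc.M275.act e7) 9 [] 0 [[0], [1], [2], [3], [4], [5], [6]] 2 35 = true :=
  by decide +kernel

theorem chH_l0 : LevelOK (subT Cfsg.Agent.LyMc.M275.π e7) [] 0 35 :=
  level_of_check (Cfsg.Agent.LyMc.M275.spec.sub e7) chH_c0

theorem chH_c1 : levelC (subAct Cfsg.Agent.LyMc.M275.act e7) 9 [0] 22 [[0], [1], [4], [5], [6]] 2 16 = true :=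
  by decide +kernel

theorem chH_l1 : LevelOK (subT Cfsg.Agent.LyMc.M275.π e7) [0] 22 16 :=
  level_of_check (Cfsg.Agent.LyMc.M275.spec.sub e7) chH_c1

theorem chH_c2 : levelC (subAct Cfsg.Agent.LyMc.M275.act e7) 9 [22, 0] 18 [[0], [1], [5], [6]] 3 36 = true :=
  by decide +kernel

theorem chH_l2 : LevelOK (subT Cfsg.Agent.LyMc.M275.π e7) [22, 0] 18 36 :=
  level_of_check (Cfsg.Agent.LyMc.M275.spec.sub e7) chH_c2

theorem chH_c3 : levelC (subAct Cfsg.Agent.LyMc.M275.act e7) 9 [18, 22, 0] 4 [[0]] 1 2 = true :=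
  by decide +kernel

theorem chH_l3 : LevelOK (subT Cfsg.Agent.LyMc.M275.π e7) [18, 22, 0] 4 2 :=
  level_of_check (Cfsg.Agent.LyMc.M275.spec.sub e7) chH_c3

theorem chH : ChainOK (subT Cfsg.Agent.LyMc.M275.π e7) [] [(0, 35), (22, 16), (18, 36), (4, 2)] :=
  ⟨chH_l0, chH_l1, chH_l2, chH_l3, trivial⟩

theorem fH : Faithful PH (subT π e7) [4, 18, 22, 0] :=
  faithful_of_chain bH (iTH _ _ sat) chH (by decide)

theorem chN1_c0 : levelC (subAct Cfsg.Agent.LyMc.M275.act eN1) 9 [] 119 [[0], [1], [2], [3], [4], [5], [6], [7]] 3 140 = true :=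
  by decide +kernel

theorem chN1_l0 : LevelOK (subT Cfsg.Agent.LyMc.M275.π eN1) [] 119 140 :=
  level_of_check (Cfsg.Agent.LyMc.M275.spec.sub eN1) chN1_c0

theorem chN1_c1 : levelC (subAct Cfsg.Agent.LyMc.M275.act eN1) 9 [119] 6 [[0], [2], [3], [4], [6], [7], [1, 2, 5, 7, 5]] 2 16 = true :=
  by decide +kernel

theorem chN1_l1 : LevelOK (subT Cfsg.Agent.LyMc.M275.π eN1) [119] 6 16 :=
  level_of_check (Cfsg.Agent.LyMc.M275.spec.sub eN1) chN1_c1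

theorem chN1_c2 : levelC (subAct Cfsg.Agent.LyMc.M275.act eN1) 9 [6, 119] 25 [[2], [3], [4], [6], [7]] 1 18 = true :=
  by decide +kernel

theorem chN1_l2 : LevelOK (subT Cfsg.Agent.LyMc.M275.π eN1) [6, 119] 25 18 :=
  level_of_check (Cfsg.Agent.LyMc.M275.spec.sub eN1) chN1_c2

theorem chN1 : ChainOK (subT Cfsg.Agent.LyMc.M275.π eN1) [] [(119, 140), (6, 16), (25, 18)] :=
  ⟨chN1_l0, chN1_l1, chN1_l2, trivial⟩

theorem fN1 : Faithful N1 (subT π eN1) [25, 6, 119] :=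
  faithful_of_chain bN1 (iTN1 _ _ sat) chN1 (by decide)

theorem chN2_c0 : levelC (subAct Cfsg.Agent.LyMc.M275.act eN2) 9 [] 5 [[0], [1], [2], [3], [4], [5], [6], [7]] 2 140 = true :=
  by decide +kernel

theorem chN2_l0 : LevelOK (subT Cfsg.Agent.LyMc.M275.π eN2) [] 5 140 :=
  level_of_check (Cfsg.Agent.LyMc.M275.spec.sub eN2) chN2_c0

theorem chN2_c1 : levelC (subAct Cfsg.Agent.LyMc.M275.act eN2) 9 [5] 146 [[0], [2], [3], [4], [6], [7], [1, 0, 1]] 2 16 = true :=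
  by decide +kernel

theorem chN2_l1 : LevelOK (subT Cfsg.Agent.LyMc.M275.π eN2) [5] 146 16 :=
  level_of_check (Cfsg.Agent.LyMc.M275.spec.sub eN2) chN2_c1

theorem chN2_c2 : levelC (subAct Cfsg.Agent.LyMc.M275.act eN2) 9 [146, 5] 25 [[2], [3], [4], [6], [7]] 1 18 = true :=
  by decide +kernel

theorem chN2_l2 : LevelOK (subT Cfsg.Agent.LyMc.M275.π eN2) [146, 5] 25 18 :=
  level_of_check (Cfsg.Agent.LyMc.M275.spec.sub eN2) chN2_c2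

theorem chN2 : ChainOK (subT Cfsg.Agent.LyMc.M275.π eN2) [] [(5, 140), (146, 16), (25, 18)] :=
  ⟨chN2_l0, chN2_l1, chN2_l2, trivial⟩

theorem fN2 : Faithful N2 (subT π eN2) [25, 146, 5] :=
  faithful_of_chain bN2 (iTN2 _ _ sat) chN2 (by decide)

theorem satC : Sat (PC 6) (subT π wsY) :=
  sat_sub_of_checks spec (K := 9) (by decide) (by decide) (by decide +kernel) (by decide +kernel)

theorem chC_c0 : levelC (subAct Cfsg.Agent.LyMc.M275.act wsY) 9 [] 18 [[0], [1], [2], [3], [4], [5], [6], [7], [8], [9], [10], [11], [12]] 1 240 = true :=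
  by decide +kernel

theorem chC_l0 : LevelOK (subT Cfsg.Agent.LyMc.M275.π wsY) [] 18 240 :=
  level_of_check (Cfsg.Agent.LyMc.M275.spec.sub wsY) chC_c0

theorem chC_c1 : levelC (subAct Cfsg.Agent.LyMc.M275.act wsY) 9 [18] 64 [[1, 5, 4, 8], [1, 5, 12, 10], [1, 9, 4, 12]] 4 56 = true :=
  by decide +kernel

theorem chC_l1 : LevelOK (subT Cfsg.Agent.LyMc.M275.π wsY) [18] 64 56 :=
  level_of_check (Cfsg.Agent.LyMc.M275.spec.sub wsY) chC_c1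

theorem chC_c2 : levelC (subAct Cfsg.Agent.LyMc.M275.act wsY) 9 [64, 18] 0 [[1, 5, 4, 8]] 2 3 = true :=
  by decide +kernel

theorem chC_l2 : LevelOK (subT Cfsg.Agent.LyMc.M275.π wsY) [64, 18] 0 3 :=
  level_of_check (Cfsg.Agent.LyMc.M275.spec.sub wsY) chC_c2

theorem chC : ChainOK (subT Cfsg.Agent.LyMc.M275.π wsY) [] [(18, 240), (64, 56), (0, 3)] :=
  ⟨chC_l0, chC_l1, chC_l2, trivial⟩

theorem fC : Faithful (PC 6) (subT π wsY) [0, 64, 18] :=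
  faithful_of_chain (bound_PC 6) satC chC (by decide)

theorem iCH : Impl (PC 6) PH wsH :=
  impl_of_faithful fC (by decide) (by
    rw [subT_subT_eq spec (K := 9) (us := e7) (by decide) (by decide) (by decide +kernel)]; exact iTH _ _ sat)

theorem chM_c0 : levelC (subAct Cfsg.Agent.LyMc.M275.act e9) 9 [] 5 [[0], [1], [2], [3], [4], [5], [6], [7], [8]] 3 275 = true :=
  by decide +kernel

theorem chM_l0 : LevelOK (subT Cfsg.Agent.LyMc.M275.π e9) [] 5 275 :=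
  level_of_check (Cfsg.Agent.LyMc.M275.spec.sub e9) chM_c0

theorem chM_c1 : levelC (subAct Cfsg.Agent.LyMc.M275.act e9) 9 [5] 119 [[0], [2], [3], [4], [7], [8], [5, 2, 6, 3, 5]] 5 112 = true :=
  by decide +kernel

theorem chM_l1 : LevelOK (subT Cfsg.Agent.LyMc.M275.π e9) [5] 119 112 :=
  level_of_check (Cfsg.Agent.LyMc.M275.spec.sub e9) chM_c1

theorem chM_c2 : levelC (subAct Cfsg.Agent.LyMc.M275.act e9) 9 [119, 5] 65 [[0], [2], [3], [4], [7], [8], [5, 2, 6, 3, 5, 2, 8, 4, 5, 2, 6, 3, 5]] 3 81 = true :=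
  by decide +kernel

theorem chM_l2 : LevelOK (subT Cfsg.Agent.LyMc.M275.π e9) [119, 5] 65 81 :=
  level_of_check (Cfsg.Agent.LyMc.M275.spec.sub e9) chM_c2

theorem chM_c3 : levelC (subAct Cfsg.Agent.LyMc.M275.act e9) 9 [65, 119, 5] 2 [[0], [2], [3], [5, 2, 6, 3, 5, 2, 8, 4, 5, 2, 6, 3, 5], [4, 7]] 3 45 = true :=
  by decide +kernel

theorem chM_l3 : LevelOK (subT Cfsg.Agent.LyMc.M275.π e9) [65, 119, 5] 2 45 :=
  level_of_check (Cfsg.Agent.LyMc.M275.spec.sub e9) chM_c3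

theorem chM_c4 : levelC (subAct Cfsg.Agent.LyMc.M275.act e9) 9 [2, 65, 119, 5] 13 [[0], [4, 7]] 2 8 = true :=
  by decide +kernel

theorem chM_l4 : LevelOK (subT Cfsg.Agent.LyMc.M275.π e9) [2, 65, 119, 5] 13 8 :=
  level_of_check (Cfsg.Agent.LyMc.M275.spec.sub e9) chM_c4

theorem chM : ChainOK (subT Cfsg.Agent.LyMc.M275.π e9) [] [(5, 275), (119, 112), (65, 81), (2, 45), (13, 8)] :=
  ⟨chM_l0, chM_l1, chM_l2, chM_l3, chM_l4, trivial⟩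

theorem chT_c0 : levelC Cfsg.Agent.LyMc.M275.act 9 [] 19 [[0], [1], [2], [3], [4], [5], [6], [7], [8], [9], [10]] 2 275 = true :=
  by decide +kernel

theorem chT_l0 : LevelOK Cfsg.Agent.LyMc.M275.π [] 19 275 :=
  level_of_check Cfsg.Agent.LyMc.M275.spec chT_c0

theorem chT_c1 : levelC Cfsg.Agent.LyMc.M275.act 9 [19] 24 [[1, 6, 1], [2, 8, 9], [2, 6, 8, 6, 2]] 6 162 = true :=
  by decide +kernel

theorem chT_l1 : LevelOK Cfsg.Agent.LyMc.M275.π [19] 24 162 :=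
  level_of_check Cfsg.Agent.LyMc.M275.spec chT_c1

theorem chT_c2 : levelC Cfsg.Agent.LyMc.M275.act 9 [24, 19] 2 [[2, 8, 9], [2, 6, 8, 6, 2, 1, 6, 1, 2, 6, 8, 6, 2]] 10 105 = true :=
  by decide +kernel

theorem chT_l2 : LevelOK Cfsg.Agent.LyMc.M275.π [24, 19] 2 105 :=
  level_of_check Cfsg.Agent.LyMc.M275.spec chT_c2

theorem chT_c3 : levelC Cfsg.Agent.LyMc.M275.act 9 [2, 24, 19] 15 [[2, 8, 9], [2, 6, 8, 6, 2, 1, 6, 1, 2, 6, 8, 6, 2, 2, 6, 8, 6, 2, 1, 6, 1, 2, 6, 8, 6, 2], [2, 6, 8, 6, 2, 1, 6, 1, 2, 6, 8, 6, 2, 10, 7, 6, 8, 6, 2, 1, 6, 1, 2, 6, 8, 6, 2, 10, 7, 3, 10, 7, 6, 8, 6, 2, 1, 6, 1, 2, 6, 8, 6, 2, 10, 7, 6, 8, 6, 2, 1, 6, 1, 2, 6, 8, 6, 2, 10, 7, 6, 8, 6, 2, 1, 6, 1, 2, 6, 8, 6, 2, 2, 6, 8, 6, 2, 1, 6, 1, 2, 6, 8, 6, 2, 2, 8, 9, 2, 6, 8, 6, 2, 1, 6, 1, 2, 6, 8, 6, 2]] 4 32 = true :=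
  by decide +kernel

theorem chT_l3 : LevelOK Cfsg.Agent.LyMc.M275.π [2, 24, 19] 15 32 :=
  level_of_check Cfsg.Agent.LyMc.M275.spec chT_c3

theorem chT_c4 : levelC Cfsg.Agent.LyMc.M275.act 9 [15, 2, 24, 19] 7 [[2, 6, 8, 6, 2, 1, 6, 1, 2, 6, 8, 6, 2, 2, 6, 8, 6, 2, 1, 6, 1, 2, 6, 8, 6, 2], [2, 6, 8, 6, 2, 1, 6, 1, 2, 6, 8, 6, 2, 10, 7, 6, 8, 6, 2, 1, 6, 1, 2, 6, 8, 6, 2, 10, 7, 3, 10, 7, 6, 8, 6, 2, 1, 6, 1, 2, 6, 8, 6, 2, 10, 7, 6, 8, 6, 2, 1, 6, 1, 2, 6, 8, 6, 2, 10, 7, 6, 8, 6, 2, 1, 6, 1, 2, 6, 8, 6, 2, 2, 6, 8, 6, 2, 1, 6, 1, 2, 6, 8, 6, 2, 2, 8, 9, 2, 6, 8, 6, 2, 1, 6, 1, 2, 6, 8, 6, 2]] 3 12 = true :=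
  by decide +kernel

theorem chT_l4 : LevelOK Cfsg.Agent.LyMc.M275.π [15, 2, 24, 19] 7 12 :=
  level_of_check Cfsg.Agent.LyMc.M275.spec chT_c4

theorem chT : ChainOK Cfsg.Agent.LyMc.M275.π [] [(19, 275), (24, 162), (2, 105), (15, 32), (7, 12)] :=
  ⟨chT_l0, chT_l1, chT_l2, chT_l3, chT_l4, trivial⟩

end Cfsg.Agent.LyMc.M275
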