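import Cfsg.Agent.LyMc.Std3
import Cfsg.Agent.LyMc.Big

/-!
# Standard subgroups `2.A_n`, `n ≥ 12`: the central involution is isolated
-/

set_option autoImplicit false

namespace Cfsg.Agent.LyMc

open Equiv Equiv.Perm Subgroup Cfsg.Agent.KSG

variable {G Ω : Type*} [Group G] [Fintype Ω] [DecidableEq Ω] {t x : G} {L L' : Subgroup G}
  {π π' : G → Perm Ω}

theorem SPair.twelve (P : SPair t L π x L' π') (h12 : 12 ≤ Fintype.card Ω) : False := by
  have hx := P.few_fixed
  have hτ := P.symm.few_fixed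
  obtain ⟨a, b, c₀, B⟩ := exists_blk3'' P.sq (by omega)
  obtain ⟨-, -, u, hu, -, -, u3, -, u2⟩ := P.h.key P.c B
  have u4 := P.h.sq_tt hu B u3
  have u1 := P.h.cen hu
  have u2 := u2.symm
  have hc := P.c.symm
  have hi := sq_apply P.symm.sq
  have ca : ∀ {g k : G}, Commute g x → Commute k x → Commute g k → ∀ ω,
      π' g (π' k ω) = π' k (π' g ω) := fun hg hk e ω => by
    rw [← Perm.mul_apply, (P.h'.map_comm hg hk e).eq, Perm.mul_apply]
  have hu' : ∀ ω, π' u (π' u ω) = π' t ω := fun ω => by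
    rw [← Perm.mul_apply, ← P.h'.mul u2 u2, u4]
  have cu := ca u2 hc u1
  obtain ⟨a1, g1⟩ : (π' t).support.Nonempty := Finset.card_pos.1 (by omega)
  have c4 : ∀ a : Ω, ({a, π' u a, π' t a, π' t (π' u a)} : Finset Ω).card ≤ 4 := fun _ =>
    Finset.card_le_four
  obtain ⟨a3, g3, n3⟩ := exists_notMem (s := (π' t).support) ((c4 a1).trans_lt (by omega))
  obtain ⟨a5, g5, n5⟩ := exists_notMem (s := (π' t).support)
    (((Finset.card_union_le _ _).trans (add_le_add (c4 a1) (c4 a3))).trans_lt (by omega))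
  simp only [mem_support, Finset.mem_union, Finset.mem_insert, Finset.mem_singleton,
    not_or] at g1 g3 g5 n3 n5
  have j1 := hi a1
  have j3 := hi a3
  have j5 := hi a5
  have hγ : Perm.Disjoint (c3 a1 a3 a5) (c3 (π' t a1) (π' t a3) (π' t a5)) := fun ω => by
    simp only [c3, Perm.mul_apply, swap_apply_def]; grind
  obtain ⟨c, cL, c2, c3'⟩ := P.h'.exists_lift_odd (m := 3)
    (σ := c3 a1 a3 a5 * c3 (π' t a1) (π' t a3) (π' t a5)) (by decide) (by
      have e1 := (isThreeCycle_c3 (Ne.symm n3.1) (Ne.symm n5.1.1) (Ne.symm n5.2.1)).orderOf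
      have e2 := (isThreeCycle_c3 (a := π' t a1) (b := π' t a3) (c := π' t a5) (by grind)
        (by grind) (by grind)).orderOf
      rw [hγ.commute.mul_pow, orderOf_dvd_iff_pow_eq_one.1 e1.dvd,
        orderOf_dvd_iff_pow_eq_one.1 e2.dvd, one_mul])
  have c1 := P.h'.cen cL
  have cz : Commute c t := (P.h'.comm_of_odd hc cL (by
    rw [c2]
    refine mul_inv_eq_iff_eq_mul.1 ?_
    rw [← conj_mul, conj_c3, conj_c3, j1, j3, j5, hγ.commute.eq]) (by decide) c3').symm
  have v1 : Commute (c * u * c⁻¹) t := (cz.mul_left u1).mul_left cz.inv_left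
  have v2 : Commute (c * u * c⁻¹) x := (c1.mul_left u2).mul_left c1.inv_left
  have hpi := sq_apply P.sq
  have h2 := P.h.conj_or u1 (P.h.norm cz hu) (by
    rw [P.h.map_conj cz u1, u3, conj_tt (P.h.map_comm cz P.c c1), tt, tt]
    exact ((blk_comm hpi _ _).mul_right (blk_comm hpi _ _)).mul_left
      ((blk_comm hpi _ _).mul_right (blk_comm hpi _ _)))
  have k1 := hu' a1
  have k3 := hu' a3
  have k5 := hu' a5
  have l1 := cu a1
  have l3 := cu a3
  have l5 := cu a5
  have m1 := hi (π' u a1)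
  have m5 := hi (π' u a5)
  have o1 := hu' (π' u a1)
  have o3 := hu' (π' u a3)
  have o5 := hu' (π' u a5)
  have r1 := hu' (π' t a1)
  have r5 := hu' (π' t a5)
  have fix : ∀ ω, ω ≠ a1 → ω ≠ a3 → ω ≠ a5 → ω ≠ π' t a1 → ω ≠ π' t a3 → ω ≠ π' t a5 →
      π' c ω = ω := fun ω e1 e2 e3 e4 e5 e6 => by
    rw [c2, Perm.mul_apply, c3_apply_of_ne e4 e5 e6, c3_apply_of_ne e1 e2 e3]
  have s1 : π' c a1 = a3 := by
    rw [c2, Perm.mul_apply, c3_apply_of_ne (x := a1) (by grind) (by grind) (by grind),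
      c3_apply_fst (by grind) (by grind)]
  have s5 : π' c a5 = a1 := by
    rw [c2, Perm.mul_apply, c3_apply_of_ne (x := a5) (by grind) (by grind) (by grind), c3_apply_thd]
  have f1 := fix (π' u a1) (by grind) (by grind) (by grind) (by grind) (by grind) (by grind)
  have f5 := fix (π' u a5) (by grind) (by grind) (by grind) (by grind) (by grind) (by grind)
  have ν : ∀ ω, π' (c * u * c⁻¹) (π' c ω) = π' c (π' u ω) := fun ω => by
    rw [P.h'.map_conj c1 u2]; simp
  have n1 := ν a5
  have n2 := ν (π' u a1)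
  have n4 := ca c1 hc cz a1
  have n6 := ca v2 hc v1 (π' u a1)
  have h3 : π' u (π' (c * u * c⁻¹) a1) = π' (u * (c * u * c⁻¹) * u⁻¹) (π' u a1) := by
    rw [P.h'.map_conj u2 v2]; simp
  rcases h2 with h2 | h2
  · rw [h2] at h3
    grind
  · rw [h2, P.h'.mul v2 hc, Perm.mul_apply] at h3
    grind

/-- in a non-abelian simple group every involution commutes with another conjugate -/
theorem exists_comm_conj [Finite G] [IsSimpleGroup G] (hG : ¬ IsMulCommutative G)
    (ht : orderOf t = 2) : ∃ g, Commute (g * t * g⁻¹) t ∧ g * t * g⁻¹ ≠ t := by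
  by_contra hc
  push Not at hc
  have hz := Block.zstar (u := t) ⟨ht, fun g e => hc g e.symm⟩
  rcases (inferInstance : (pPrimeCore 2 G).Normal).eq_bot_or_eq_top with e | e
  · rcases (inferInstance : (center G).Normal).eq_bot_or_eq_top with e' | e'
    · have : t ∈ center G := mem_center_iff.2 fun g => by
        have := hz g
        rw [e, mem_bot, mul_inv_eq_one, mul_inv_eq_iff_eq_mul] at this
        exact this.symm
      rw [e', mem_bot] at this
      simp [this] at ht
    · exact hG ⟨⟨fun a b => (mem_center_iff.1 (e' ▸ mem_top b : b ∈ center G) a)⟩⟩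
  · have := Nat.coprime_two_right.1
      (Grp.orderOf_coprime_of_mem_pPrimeCore (e ▸ mem_top t : t ∈ pPrimeCore 2 G))
    rw [ht] at this
    exact absurd this (by decide)

theorem le_eleven_of_standard [Finite G] [IsSimpleGroup G] (hG : ¬ IsMulCommutative G)
    {n : ℕ} (h7 : 7 ≤ n) (hL : Cfsg.IsStandardSubgroup L)
    (hcov : Cfsg.IsNonsplitDoubleCover L (alternatingGroup (Fin n))) : n ≤ 11 := by
  obtain ⟨t, π, h⟩ := exists_scov h7 hL hcov
  obtain ⟨g, c, hne⟩ := exists_comm_conj hG h.orderOf_t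
  by_contra hn
  exact (h.pair c hne).twelve (by simp; omega)

end Cfsg.Agent.LyMc
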