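import Cfsg.Agent.LyMc.Std3

/-!
# Permutation data for the Sylow 2-subgroups of `A₅`, `A₆`, `A₇`
-/

set_option autoImplicit false

namespace Cfsg.Agent.LyMc

open Equiv Equiv.Perm

/-- `y` rotates the involutions of the four-group `⟨z, w⟩` -/
structure Tri {n : ℕ} (z w y : Perm (Fin n)) : Prop where
  sy : sign y = 1
  y3 : y ^ 3 = 1
  yz : y * z * y⁻¹ = w
  yw : y * w * y⁻¹ = z * w
  cen : (n ≠ 6 ∧ ∀ ρ : Perm (Fin n), ρ * z = z * ρ → ρ * w = w * ρ → ρ * y⁻¹ * ρ⁻¹ * y = 1 ∨
      ρ * y⁻¹ * ρ⁻¹ * y = z ∨ ρ * y⁻¹ * ρ⁻¹ * y = w ∨ ρ * y⁻¹ * ρ⁻¹ * y = z * w) ∨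
    ∀ κ : Perm (Fin n), κ * z = z * κ → κ * w = w * κ → sign κ = 1 →
      κ = 1 ∨ κ = z ∨ κ = w ∨ κ = z * w

/-- `⟨c, j⟩` is a dihedral Sylow 2-subgroup of order `N` of the alternating group -/
structure Dat (n N : ℕ) (c j y1 y2 : Perm (Fin n)) : Prop where
  hN : N = 4 ∨ N = 8
  h5 : 5 ≤ n
  h7 : n ≤ 7
  sc : sign c = 1
  sj : sign j = 1
  cN : c ^ (N / 2) = 1
  z1 : c ^ (N / 4) ≠ 1
  jc : j * c * j⁻¹ = c⁻¹
  jj : j * j = 1
  inj : Function.Injective fun x : Fin (N / 2) × Fin 2 => c ^ (x.1 : ℕ) * j ^ (x.2 : ℕ)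
  t1 : Tri (c ^ (N / 4)) j y1
  t2 : Tri (c ^ (N / 4)) (c * j) y2
  three : IsThreeCycle y1
  one : ∀ ρ : Perm (Fin n), ρ * c = c * ρ → ρ * j = j * ρ → ρ * y1 = y1 * ρ → ρ * y2 = y2 * ρ →
    ρ = 1
  two : ¬ 4 * N ∣ n.factorial

section
variable (n : ℕ) [NeZero n]

/-- `(0 1)(2 3)` -/
def pz : Perm (Fin n) := swap 0 1 * swap 2 3
/-- `(0 2)(1 3)` -/
def pj : Perm (Fin n) := swap 0 2 * swap 1 3
/-- `(1 2 3)` -/
def py : Perm (Fin n) := swap 1 2 * swap 2 3
/-- `(1 3 2)` -/
def py' : Perm (Fin n) := swap 1 3 * swap 3 2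
/-- `(0 2 1 3)(4 5)` -/
def pc : Perm (Fin n) := swap 0 2 * swap 2 1 * swap 1 3 * swap 4 5
/-- `(0 4 2)(1 5 3)` -/
def pw : Perm (Fin n) := swap 0 4 * swap 4 2 * swap 1 5 * swap 5 3

end

set_option maxRecDepth 100000

theorem dat5a : Dat 5 4 (pz 5) (pj 5) (py 5) (py' 5) :=
  ⟨by decide, by decide, by decide, by decide +kernel, by decide +kernel, by decide +kernel,
    by decide +kernel, by decide +kernel, by decide +kernel, by decide +kernel,
    ⟨by decide +kernel, by decide +kernel, by decide +kernel, by decide +kernel,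
      Or.inr (by decide +kernel)⟩,
    ⟨by decide +kernel, by decide +kernel, by decide +kernel, by decide +kernel,
      Or.inr (by decide +kernel)⟩,
    (by decide +kernel : (py 5).cycleType = {3}), by decide +kernel, by decide +kernel⟩

theorem dat5b : Dat 5 4 (pj 5) (pz 5) (py' 5) (py 5) :=
  ⟨by decide, by decide, by decide, by decide +kernel, by decide +kernel, by decide +kernel,
    by decide +kernel, by decide +kernel, by decide +kernel, by decide +kernel,
    ⟨by decide +kernel, by decide +kernel, by decide +kernel, by decide +kernel,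
      Or.inr (by decide +kernel)⟩,
    ⟨by decide +kernel, by decide +kernel, by decide +kernel, by decide +kernel,
      Or.inr (by decide +kernel)⟩,
    (by decide +kernel : (py' 5).cycleType = {3}), by decide +kernel, by decide +kernel⟩

theorem dat5c : Dat 5 4 (pz 5 * pj 5) (pz 5) (py 5) (py' 5) :=
  ⟨by decide, by decide, by decide, by decide +kernel, by decide +kernel, by decide +kernel,
    by decide +kernel, by decide +kernel, by decide +kernel, by decide +kernel,
    ⟨by decide +kernel, by decide +kernel, by decide +kernel, by decide +kernel,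
      Or.inr (by decide +kernel)⟩,
    ⟨by decide +kernel, by decide +kernel, by decide +kernel, by decide +kernel,
      Or.inr (by decide +kernel)⟩,
    (by decide +kernel : (py 5).cycleType = {3}), by decide +kernel, by decide +kernel⟩

theorem dat6 : Dat 6 8 (pc 6) (pj 6) (py 6) (pw 6) :=
  ⟨by decide, by decide, by decide, by decide +kernel, by decide +kernel, by decide +kernel,
    by decide +kernel, by decide +kernel, by decide +kernel, by decide +kernel,
    ⟨by decide +kernel, by decide +kernel, by decide +kernel, by decide +kernel,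
      Or.inr (by decide +kernel)⟩,
    ⟨by decide +kernel, by decide +kernel, by decide +kernel, by decide +kernel,
      Or.inr (by decide +kernel)⟩,
    (by decide +kernel : (py 6).cycleType = {3}), by decide +kernel, by decide +kernel⟩

set_option synthInstance.maxSize 2000 in
theorem aux7 : ∀ ρ : Perm (Fin 7), ρ * pz 7 = pz 7 * ρ →
    (ρ * pj 7 = pj 7 * ρ → ρ * (py 7)⁻¹ * ρ⁻¹ * py 7 = 1 ∨ ρ * (py 7)⁻¹ * ρ⁻¹ * py 7 = pz 7 ∨
      ρ * (py 7)⁻¹ * ρ⁻¹ * py 7 = pj 7 ∨ ρ * (py 7)⁻¹ * ρ⁻¹ * py 7 = pz 7 * pj 7) ∧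
    (ρ * (pc 7 * pj 7) = pc 7 * pj 7 * ρ → ρ * (pw 7)⁻¹ * ρ⁻¹ * pw 7 = 1 ∨
      ρ * (pw 7)⁻¹ * ρ⁻¹ * pw 7 = pz 7 ∨ ρ * (pw 7)⁻¹ * ρ⁻¹ * pw 7 = pc 7 * pj 7 ∨
      ρ * (pw 7)⁻¹ * ρ⁻¹ * pw 7 = pz 7 * (pc 7 * pj 7)) ∧
    (ρ * pj 7 = pj 7 * ρ → ρ * py 7 = py 7 * ρ → ρ * pw 7 = pw 7 * ρ → ρ = 1) := by
  decide +kernel

theorem dat7 : Dat 7 8 (pc 7) (pj 7) (py 7) (pw 7) := by
  have e : pc 7 ^ (8 / 4) = pz 7 := by decide +kernel
  refine ⟨by decide, by decide, by decide, by decide +kernel, by decide +kernel, by decide +kernel,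
    by decide +kernel, by decide +kernel, by decide +kernel, by decide +kernel,
    ⟨by decide +kernel, by decide +kernel, by decide +kernel, by decide +kernel,
      Or.inl ⟨by decide, ?_⟩⟩,
    ⟨by decide +kernel, by decide +kernel, by decide +kernel, by decide +kernel,
      Or.inl ⟨by decide, ?_⟩⟩,
    (by decide +kernel : (py 7).cycleType = {3}), fun ρ h => ?_, by decide +kernel⟩
  · rw [e]; exact fun ρ h => (aux7 ρ h).1
  · rw [e]; exact fun ρ h => (aux7 ρ h).2.1
  · exact (aux7 ρ (e ▸ (show Commute ρ _ from h).pow_right _)).2.2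

/-- below degree 8 an element of odd order fixes the points moved by an even involution
commuting with it -/
theorem fix_of_odd_comm {Ω : Type*} [Fintype Ω] [DecidableEq Ω] (h7 : Fintype.card Ω ≤ 7)
    {τ η : Perm Ω} (hτ : τ * τ = 1) (hs : sign τ = 1) {m : ℕ} (hm : Odd m) (hη : η ^ m = 1)
    (hc : Commute τ η) {p : Ω} (hp : τ p ≠ p) : η p = p := by
  have h4 : τ.support.card ≤ 4 := by
    have := (cycleType_of_sq hτ).2.2 hs
    have := Finset.card_le_univ τ.support
    omega
  have e : ∀ z, τ (η z) = η (τ z) := fun z => by rw [← Perm.mul_apply, hc.eq, Perm.mul_apply]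
  have e2 := sq_apply hτ
  have i := η.injective
  refine fix_of_odd hm hη (fix_of_odd (η := η * η) hm (by
    rw [← pow_two, ← pow_mul, mul_comm, pow_mul, hη, one_pow]) ?_)
  show η (η (η (η p))) = p
  have m1 := moved_of_comm hc hp
  have m2 := moved_of_comm hc m1
  by_cases h1 : η p = p
  · simp [h1]
  by_cases h2 : η p = τ p
  · have : η (η p) = p := by rw [h2, ← e, h2, e2]
    rw [this, this]
  by_cases h3 : η (η p) = p
  · rw [h3, h3]
  by_cases h5 : η (η p) = τ p
  · rw [h5, ← e, ← e, h5, e2]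
  exfalso
  have : ({p, τ p, η p, τ (η p), η (η p)} : Finset Ω) ⊆ τ.support := by
    intro x hx
    simp only [Finset.mem_insert, Finset.mem_singleton] at hx
    rcases hx with rfl | rfl | rfl | rfl | rfl
    exacts [mem_support.2 hp, apply_mem_support.2 (mem_support.2 hp), mem_support.2 m1,
      apply_mem_support.2 (mem_support.2 m1), mem_support.2 m2]
  have h6 := Finset.card_le_card this
  have n1 : η (η p) ≠ η p := i.ne h1
  have n2 : η (η p) ≠ τ (η p) := by rw [e]; exact i.ne h2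
  have n3 : τ (η p) ≠ p := fun h => h2 (by rw [← h, e2, h])
  have n4 : τ (η p) ≠ τ p := τ.injective.ne h1
  rw [Finset.card_insert_of_notMem, Finset.card_insert_of_notMem, Finset.card_insert_of_notMem,
    Finset.card_insert_of_notMem, Finset.card_singleton] at h6
  · omega
  all_goals simp only [Finset.mem_insert, Finset.mem_singleton]; grind

end Cfsg.Agent.LyMc
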