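import Cfsg.Agent.LyMc.Sm1
import Cfsg.Agent.S4231

/-!
# A perfect central extension `A` of `A_n` normal in `C(t)`: action of `C(t)` on `A / Z(A)`
-/

set_option autoImplicit false

namespace Cfsg.Agent.LyMc

open Equiv Equiv.Perm Subgroup Cfsg.Agent.KSG

/-- `π` maps the perfect group `A ⊴ C(t)` onto the alternating group with kernel `Z(A) ∋ t`, and
`C(A)` has cyclic Sylow 2-subgroups -/
structure SB {G : Type*} [Group G] {n : ℕ} (t : G) (A : Subgroup G) (π : G → Perm (Fin n)) :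
    Prop where
  h5 : 5 ≤ n
  tA : t ∈ A
  sq : t * t = 1
  ne : t ≠ 1
  cen : ∀ {g : G}, g ∈ A → Commute g t
  norm : ∀ {g k : G}, Commute g t → k ∈ A → g * k * g⁻¹ ∈ A
  mul : ∀ {g k : G}, g ∈ A → k ∈ A → π (g * k) = π g * π k
  even : ∀ {g : G}, g ∈ A → sign (π g) = 1
  surj : ∀ {σ : Perm (Fin n)}, sign σ = 1 → ∃ g ∈ A, π g = σ
  ker : ∀ {g : G}, g ∈ A → (π g = 1 ↔ g ∈ centralizer (A : Set G))
  perf : Group.IsPerfect A
  invK : ∀ {r : G}, r ∈ centralizer (A : Set G) → r * r = 1 → r = 1 ∨ r = t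
  comK : ∀ T : Subgroup G, IsPGroup 2 T → T ≤ centralizer (A : Set G) → ∀ x ∈ T, ∀ y ∈ T,
    Commute x y

/-- `g` acts on `A / Z(A)` as the permutation `ρ` -/
def Rep {G : Type*} [Group G] {n : ℕ} (A : Subgroup G) (π : G → Perm (Fin n)) (g : G)
    (ρ : Perm (Fin n)) : Prop := ∀ a ∈ A, π (g * a * g⁻¹) = ρ * π a * ρ⁻¹

namespace SB
variable {G : Type*} [Group G] {n : ℕ} {t : G} {A : Subgroup G} {π : G → Perm (Fin n)}
  (h : SB t A π)
include h

/-- the covering map -/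
def hom : A →* Perm (Fin n) := MonoidHom.mk' (fun k => π k) fun k l => h.mul k.2 l.2

theorem map_one : π 1 = 1 := h.hom.map_one

theorem map_inv {g : G} (hg : g ∈ A) : π g⁻¹ = (π g)⁻¹ := h.hom.map_inv ⟨g, hg⟩

theorem map_pow {g : G} (hg : g ∈ A) (k : ℕ) : π (g ^ k) = π g ^ k := h.hom.map_pow ⟨g, hg⟩ k

theorem map_conj {g k : G} (hg : g ∈ A) (hk : k ∈ A) :
    π (g * k * g⁻¹) = π g * π k * (π g)⁻¹ := by
  rw [h.mul (A.mul_mem hg hk) (A.inv_mem hg), h.mul hg hk, h.map_inv hg]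

theorem tK : t ∈ centralizer (A : Set G) := mem_centralizer_iff.2 fun _ hg => (h.cen hg).eq

theorem map_t : π t = 1 := (h.ker h.tA).2 h.tK

theorem ti : t⁻¹ = t := inv_eq_of_mul_eq_one_right h.sq

theorem commK {k g : G} (hk : k ∈ centralizer (A : Set G)) (hg : g ∈ A) : Commute k g :=
  have _ := h
  (mem_centralizer_iff.1 hk g hg).symm

theorem diff {u v : G} (hu : u ∈ A) (hv : v ∈ A) (e : π u = π v) :
    v⁻¹ * u ∈ centralizer (A : Set G) :=
  (h.ker (A.mul_mem (A.inv_mem hv) hu)).1 (by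
    rw [h.mul (A.inv_mem hv) hu, h.map_inv hv, e, inv_mul_cancel])

theorem normK {g k : G} (hg : Commute g t) (hk : k ∈ centralizer (A : Set G)) :
    g * k * g⁻¹ ∈ centralizer (A : Set G) := mem_centralizer_iff.2 fun a ha => by
  have := (h.commK hk (h.norm hg.inv_left ha)).eq
  calc _ = g * (g⁻¹ * a * g⁻¹⁻¹ * k) * g⁻¹ := by group
    _ = _ := by rw [← this]; group

theorem rep_mul {g k : G} {ρ σ : Perm (Fin n)} (hk : Commute k t) (a : Rep A π g ρ)
    (b : Rep A π k σ) : Rep A π (g * k) (ρ * σ) := fun x hx => by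
  rw [show g * k * x * (g * k)⁻¹ = g * (k * x * k⁻¹) * g⁻¹ by group, a _ (h.norm hk hx), b x hx]
  group

theorem rep_pow {g : G} {ρ : Perm (Fin n)} (hg : Commute g t) (a : Rep A π g ρ) (k : ℕ) :
    Rep A π (g ^ k) (ρ ^ k) := by
  induction k with
  | zero => intro x _; simp
  | succ k ih => rw [pow_succ, pow_succ]; exact h.rep_mul hg ih a

theorem rep_uniq {g : G} {ρ σ : Perm (Fin n)} (a : Rep A π g ρ) (b : Rep A π g σ) : ρ = σ := by
  refine (inv_mul_eq_one.1 (eq_one_of_commute_threeCycles (g := σ⁻¹ * ρ)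
    (by have := h.h5; simp; omega) fun τ hτ => ?_)).symm
  obtain ⟨k, hk, rfl⟩ := h.surj hτ.sign
  calc _ = σ⁻¹ * (ρ * π k * ρ⁻¹) * ρ := by group
    _ = _ := by rw [← a k hk, b k hk]; group

theorem mem_K {g : G} (hg : Commute g t) (a : Rep A π g 1) : g ∈ centralizer (A : Set G) := by
  have := h.perf
  have e : ∀ x ∈ A, ∃ z ∈ centralizer (A : Set G), z ∈ A ∧ g * x * g⁻¹ = x * z := fun x hx =>
    ⟨_, h.diff (h.norm hg hx) hx (by simpa using a x hx), A.mul_mem (A.inv_mem hx) (h.norm hg hx),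
      by group⟩
  have hle : ⁅A, A⁆ ≤ centralizer {g} := commutator_le.2 fun x hx y hy => by
    obtain ⟨z, z1, z2, ez⟩ := e x hx
    obtain ⟨w, w1, w2, ew⟩ := e y hy
    rw [mem_centralizer_singleton_iff, eq_comm, ← mul_inv_eq_iff_eq_mul, commutatorElement_def]
    calc _ = (g * x * g⁻¹) * (g * y * g⁻¹) * (g * x * g⁻¹)⁻¹ * (g * y * g⁻¹)⁻¹ := by group
      _ = x * (z * (y * w) * z⁻¹) * x⁻¹ * w⁻¹ * y⁻¹ := by rw [ez, ew]; group
      _ = x * y * (w * x⁻¹ * w⁻¹) * y⁻¹ := by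
        rw [(h.commK z1 (A.mul_mem hy w2)).eq]; group
      _ = _ := by rw [(h.commK w1 (A.inv_mem hx)).eq]; group
  rw [commutator_eq_self] at hle
  exact mem_centralizer_iff.2 fun x hx => mem_centralizer_singleton_iff.1 (hle hx)

theorem exists_aut {g : G} (hg : Commute g t) : ∃ ψ : MulAut (alternatingGroup (Fin n)),
    ∀ k : ℕ, ∀ a, ∀ ha : a ∈ A,
      ((ψ ^ k) ⟨π a, mem_alternatingGroup.2 (h.even ha)⟩ : Perm (Fin n)) =
        π (g ^ k * a * (g ^ k)⁻¹) := by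
  let p : A →* alternatingGroup (Fin n) :=
    h.hom.codRestrict _ fun k => mem_alternatingGroup.2 (h.even k.2)
  have ps : Function.Surjective p := fun σ => by
    obtain ⟨g, hg, e⟩ := h.surj (mem_alternatingGroup.1 σ.2)
    exact ⟨⟨g, hg⟩, Subtype.ext e⟩
  let α : A →* A :=
    { toFun := fun k => ⟨g * k * g⁻¹, h.norm hg k.2⟩
      map_one' := Subtype.ext (by simp)
      map_mul' := fun k l => Subtype.ext (by simp) }
  have hker : ∀ k, p (α k) = 1 ↔ p k = 1 := fun k => by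
    have e1 : ∀ k, p k = 1 ↔ (k : G) ∈ centralizer (A : Set G) := fun k =>
      Subtype.ext_iff.trans (h.ker k.2)
    rw [e1, e1]
    exact ⟨fun e => by simpa [α, mul_assoc] using h.normK hg.inv_left e, h.normK hg⟩
  let ψ := p.liftOfSurjective ps ⟨p.comp α, fun k hk => (hker k).2 hk⟩
  have hψ : ∀ k, ψ (p k) = p (α k) := fun k => MonoidHom.liftOfRightInverse_comp_apply _ _ _ _ _
  have hi : Function.Injective ψ := by
    rw [injective_iff_map_eq_one]
    intro σ e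
    obtain ⟨k, rfl⟩ := ps σ
    exact (hker k).1 ((hψ k).symm.trans e)
  refine ⟨MulEquiv.ofBijective ψ (Finite.injective_iff_bijective.1 hi), fun k => ?_⟩
  induction k with
  | zero => intro a ha; simp
  | succ k ih =>
    intro a ha
    rw [pow_succ, MulAut.mul_apply, MulEquiv.ofBijective_apply]
    have := hψ ⟨a, ha⟩
    refine (congrArg (fun x => (((MulEquiv.ofBijective ψ
      (Finite.injective_iff_bijective.1 hi)) ^ k : MulAut _) x : Perm (Fin n))) this).trans ?_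
    refine (ih _ (h.norm hg ha)).trans ?_
    congr 1; rw [pow_succ]; group

theorem rep_of {g : G} {ψ : MulAut (alternatingGroup (Fin n))} {ρ : Perm (Fin n)}
    (e : ∀ k : ℕ, ∀ a, ∀ ha : a ∈ A,
      ((ψ ^ k) ⟨π a, mem_alternatingGroup.2 (h.even ha)⟩ : Perm (Fin n)) =
        π (g ^ k * a * (g ^ k)⁻¹)) (e' : MulAut.conjNormal ρ = ψ) : Rep A π g ρ := fun a ha => by
  have := e 1 a ha
  rw [pow_one, pow_one, ← e', MulAut.conjNormal_apply] at this
  exact this.symm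

theorem rep_odd {g : G} (hg : Commute g t) {m : ℕ} (hm : Odd m) (e : g ^ m = 1) :
    ∃ ρ, Rep A π g ρ ∧ ρ ^ m = 1 := by
  obtain ⟨ψ, h1⟩ := h.exists_aut hg
  have : ψ ^ m = 1 := by
    ext1 σ
    obtain ⟨a, ha, e1⟩ := h.surj (mem_alternatingGroup.1 σ.2)
    have := h1 m a ha
    simp only [e, e1, one_mul, inv_one, mul_one] at this
    exact Subtype.ext this
  obtain ⟨ρ, h2⟩ := S4231.mem_range_of_odd h.h5 ψ (hm.of_dvd_nat (orderOf_dvd_of_pow_eq_one this))
  have h3 := h.rep_of h1 h2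
  exact ⟨ρ, h3, h.rep_uniq (h.rep_pow hg h3 m) fun a _ => by simp [e]⟩

theorem rep_ne (h6 : n ≠ 6) {g : G} (hg : Commute g t) : ∃ ρ, Rep A π g ρ := by
  obtain ⟨ψ, h1⟩ := h.exists_aut hg
  obtain ⟨ρ, h2⟩ := (S2119.result n (by have := h.h5; omega) h6).2 ψ
  exact ⟨ρ, h.rep_of h1 h2⟩

theorem rep_three {g y : G} (hg : Commute g t) (hy : y ∈ A) (h3 : IsThreeCycle (π y))
    (e : π (g * y * g⁻¹) = π y) : ∃ ρ, Rep A π g ρ := by
  obtain ⟨ψ, h1⟩ := h.exists_aut hg
  have h5 := h.h5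
  have e1 : ψ ⟨π y, mem_alternatingGroup.2 (h.even hy)⟩ =
      ⟨π y, mem_alternatingGroup.2 (h.even hy)⟩ := Subtype.ext (by simpa [e] using h1 1 y hy)
  obtain ⟨ρ, h2⟩ := exists_conj_of_map_threeCycle (by simp; omega) ψ.toMonoidHom ψ.injective
    fun x hx => by
      have := ψ.toMonoidHom.map_isConj (alternatingGroup.isThreeCycle_isConj (by simpa using h5)
        (σ := x) (τ := ⟨π y, mem_alternatingGroup.2 (h.even hy)⟩) hx h3)
      rw [show ψ.toMonoidHom ⟨π y, _⟩ = _ from e1] at this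
      exact (isConj_iff_cycleType_eq.1
        ((alternatingGroup (Fin n)).subtype.map_isConj this)).trans h3
  refine ⟨ρ, h.rep_of h1 ?_⟩
  ext1 x
  exact Subtype.ext ((MulAut.conjNormal_apply _ _).trans (h2 x).symm)

section
variable (hZ : ∀ z ∈ A, π z = 1 → ∀ e : ℕ, z ^ 2 ^ e = 1 → z = 1 ∨ z = t)
include hZ

theorem eq_or {u v : G} (hu : u ∈ A) (hv : v ∈ A) (e : π u = π v) {k : ℕ} (u4 : u ^ 2 ^ k = 1)
    (v4 : v ^ 2 ^ k = 1) : u = v ∨ u = v * t := by
  have h1 := h.diff hu hv e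
  have h2 := A.mul_mem (A.inv_mem hv) hu
  have c1 : Commute v u := by
    have := (Commute.refl v).mul_right (h.commK h1 hv).symm
    rwa [mul_inv_cancel_left] at this
  exact (hZ _ h2 ((h.ker h2).2 h1) k (by rw [c1.inv_left.mul_pow, inv_pow, u4, v4]; simp)).imp
    (fun e => (inv_mul_eq_one.1 e).symm) inv_mul_eq_iff_eq_mul.1

variable {a w y : G} (ha : a ∈ A) (hw : w ∈ A) (hy : y ∈ A) (a2 : a * a = t) (w2 : w * w = t)
  (aw : a * w = t * (w * a)) (T : Tri (π a) (π w) (π y))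
include ha hw hy a2 w2 aw T

theorem tri_conj : (y * a * y⁻¹ = w ∨ y * a * y⁻¹ = w * t) ∧
    (y * w * y⁻¹ = a * w ∨ y * w * y⁻¹ = a * w * t) := by
  have e4 : ∀ {u : G}, u * u = t → u ^ 2 ^ 2 = 1 := fun {u} e => by
    rw [show 2 ^ 2 = 2 * 2 from rfl, pow_mul, pow_two u, e, pow_two, h.sq]
  have e5 : ∀ {u : G}, u * u = t → (y * u * y⁻¹) ^ 2 ^ 2 = 1 := fun {u} e => by
    rw [conj_pow, e4 e]; group
  refine ⟨h.eq_or hZ (h.norm (h.cen hy) ha) hw (by rw [h.map_conj hy ha, T.yz]) (e5 a2) (e4 w2),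
    h.eq_or hZ (h.norm (h.cen hy) hw) (A.mul_mem ha hw) (by
      rw [h.map_conj hy hw, T.yw, h.mul ha hw]) (e5 w2) (e4 ?_)⟩
  calc a * w * (a * w) = a * w * (t * (w * a)) := by rw [← aw]
    _ = a * (w * t * w⁻¹) * (w * w) * a := by group
    _ = t := by rw [(h.cen hw).eq, mul_inv_cancel_right, w2, mul_assoc a, h.sq, mul_one, a2]

/-- an element centralising the quaternion group `⟨a, w⟩` centralises `y` modulo `Z(A)` -/
theorem fix {g : G} (hg : Commute g t) (ga : Commute g a) (gw : Commute g w) :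
    π (g * y * g⁻¹) = π y := by
  obtain ⟨e1, e2⟩ := h.tri_conj hZ ha hw hy a2 w2 aw T
  have hk : g * y⁻¹ * g⁻¹ * y ∈ A := A.mul_mem (h.norm hg (A.inv_mem hy)) hy
  have cm : ∀ {u}, Commute g u → Commute g (y * u * y⁻¹) → Commute (g * y⁻¹ * g⁻¹ * y) u :=
    fun {u} c1 c2 => by
      show _ = _
      calc _ = g * y⁻¹ * (g⁻¹ * (y * u * y⁻¹)) * y := by group
        _ = g * u * (y⁻¹ * g⁻¹ * y) := by rw [c2.inv_left.eq]; group
        _ = _ := by rw [c1.eq]; group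
  have ka := cm ga (by rcases e1 with e | e <;> rw [e]; exacts [gw, gw.mul_right hg])
  have kw := cm gw (by
    rcases e2 with e | e <;> rw [e]; exacts [ga.mul_right gw, (ga.mul_right gw).mul_right hg])
  have nc : ¬ Commute a w := fun e => h.ne (by rw [e.eq] at aw; simpa using aw)
  have pc : ∀ {u v}, u ∈ A → v ∈ A → Commute u v → π u * π v = π v * π u := fun hu hv e => by
    rw [← h.mul hu hv, e.eq, h.mul hv hu]
  have cp : ∀ {u v}, u ∈ A → v ∈ A → π (g * y⁻¹ * g⁻¹ * y) = π u →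
      Commute (g * y⁻¹ * g⁻¹ * y) v → Commute u v := fun {u v} hu hv e c => by
    have := c.mul_left (h.commK (h.diff hu hk e.symm) hv)
    rwa [mul_inv_cancel_left] at this
  have key : π (g * y⁻¹ * g⁻¹ * y) = 1 ∨ π (g * y⁻¹ * g⁻¹ * y) = π a ∨
      π (g * y⁻¹ * g⁻¹ * y) = π w ∨ π (g * y⁻¹ * g⁻¹ * y) = π a * π w := by
    rcases T.cen with ⟨h6, hc⟩ | hc
    · obtain ⟨ρ, hρ⟩ := h.rep_ne h6 hg
      have f : ∀ {u}, u ∈ A → Commute g u → ρ * π u = π u * ρ := fun {u} hu c => by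
        rw [← mul_inv_eq_iff_eq_mul, ← hρ u hu, c.eq, mul_inv_cancel_right]
      rw [h.mul (h.norm hg (A.inv_mem hy)) hy, hρ _ (A.inv_mem hy), h.map_inv hy]
      exact hc ρ (f ha ga) (f hw gw)
    · exact hc _ (pc hk ha ka) (pc hk hw kw) (h.even hk)
  rcases key with e | e | e | e
  · rw [h.mul (h.norm hg (A.inv_mem hy)) hy, mul_eq_one_iff_eq_inv,
      show g * y⁻¹ * g⁻¹ = (g * y * g⁻¹)⁻¹ by group, h.map_inv (h.norm hg hy)] at e
    exact inv_injective e
  · exact absurd (cp ha hw e kw) nc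
  · exact absurd (cp hw ha e ka).symm nc
  · rw [← h.mul ha hw] at e
    have := (Commute.refl a).inv_left.mul_left (cp (A.mul_mem ha hw) ha e ka)
    rw [inv_mul_cancel_left] at this
    exact absurd this.symm nc

/-- an involution centralising the quaternion group `⟨a, w⟩` is not conjugate to `t` -/
theorem not_conj [Finite G] (h7 : n ≤ 7) {f : G} (hf : Commute f t) (f2 : f * f = 1)
    (fa : Commute f a) (fw : Commute f w) (ft : f ≠ t) : ¬ IsConj t f := by
  intro hc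
  obtain ⟨g, hg⟩ := isConj_iff.1 hc.symm
  have fi : f⁻¹ = f := inv_eq_of_mul_eq_one_right f2
  have hy' := h.norm hf hy
  have e0 := h.fix hZ ha hw hy a2 w2 aw T hf fa fw
  have c0 : Commute y (f * y * f⁻¹) := by
    have := (Commute.refl y).mul_right (h.commK (h.diff hy' hy e0) hy).symm
    rwa [mul_inv_cancel_left] at this
  have h1 := A.mul_mem hy hy'
  have c1 : Commute f (y * (f * y * f⁻¹)) := by
    refine mul_inv_eq_iff_eq_mul.1 ?_
    rw [c0.eq]
    calc _ = (f * f) * y * f⁻¹ * y * f⁻¹ := by group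
      _ = y * (f * y * f⁻¹) := by rw [f2, fi]; group
      _ = _ := c0.eq
  obtain ⟨k, m, hm, em⟩ := Nat.exists_eq_two_pow_mul_odd (orderOf_pos (y * (f * y * f⁻¹))).ne'
  obtain ⟨u, hu, um, eu, fu⟩ : ∃ u ∈ A, u ^ m = 1 ∧ π u = π y ∧ Commute f u := by
    refine ⟨_, A.pow_mem h1 (2 ^ (2 * k + 1)), ?_, ?_, c1.pow_right _⟩
    · rw [← pow_mul, show 2 ^ (2 * k + 1) * m = 2 ^ k * m * 2 ^ (k + 1) by ring, ← em, pow_mul,
        pow_orderOf_eq_one, one_pow]
    · rw [h.map_pow h1, h.mul hy hy', e0, ← pow_two, ← pow_mul,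
        show 2 * 2 ^ (2 * k + 1) = 4 ^ (k + 1) by rw [pow_succ, pow_mul]; ring]
      have : ∀ k : ℕ, π y ^ 4 ^ k = π y := fun k => by
        induction k with
        | zero => simp
        | succ k ih => rw [pow_succ, pow_mul, ih, pow_succ, T.y3, one_mul]
      exact this _
  have k2 : u * (a * u⁻¹ * a⁻¹) * (u * (a * u⁻¹ * a⁻¹)) = t := by
    have e : w * a⁻¹ * (w * a⁻¹) = t := by
      calc _ = w * a⁻¹ * (t * (t * (w * a))) * a⁻¹ * a⁻¹ := by rw [← mul_assoc t t, h.sq]; group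
        _ = w * (a⁻¹ * t * a) * w * (a * a)⁻¹ := by rw [← aw]; group
        _ = t := by
          rw [(h.cen ha).inv_left.eq, inv_mul_cancel_right, (h.cen hw).eq, mul_assoc t, w2, a2,
            mul_inv_cancel_right]
    rw [show u * (a * u⁻¹ * a⁻¹) = u * a * u⁻¹ * a⁻¹ by group]
    rcases (h.tri_conj hZ ha hw hu a2 w2 aw (eu ▸ T)).1 with e1 | e1
    · rw [e1, e]
    · rw [e1, mul_assoc w, ← (h.cen ha).inv_left.eq, ← mul_assoc w, ← pow_two,
        ((h.cen hw).mul_left (h.cen ha).inv_left).mul_pow, pow_two, pow_two, e, h.sq, mul_one]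
  have mv : ∀ {x}, Commute f x → Commute (g * x * g⁻¹) t := fun e => hg ▸ e.symm.conj g
  have fv : Commute f (a * u⁻¹ * a⁻¹) := (fa.mul_right fu.inv_right).mul_right fa.inv_right
  obtain ⟨η, r1, o1⟩ := h.rep_odd (mv fu) hm (by rw [conj_pow, um]; group)
  obtain ⟨η', r2, o2⟩ := h.rep_odd (mv fv) hm (by rw [conj_pow, conj_pow, inv_pow, um]; group)
  have r3 := h.rep_mul (mv fv) r1 r2
  rw [conj_mul] at r3
  have r4 := h.rep_mul (mv (fu.mul_right fv)) r3 r3
  rw [conj_mul, k2] at r4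
  have ct := mv hf
  have τ2 : η * η' * (η * η') * (η * η' * (η * η')) = 1 :=
    h.rep_uniq (h.rep_mul ct r4 r4) fun x _ => by rw [conj_mul, h.sq]; simp
  have cm : ∀ {x ρ}, x ∈ A → Commute f x → Rep A π (g * x * g⁻¹) ρ →
      Commute (η * η' * (η * η')) ρ := fun hx c r =>
    h.rep_uniq (h.rep_mul (mv c) r4 r) (((h.cen hx).conj g).eq ▸ h.rep_mul ct r r4)
  have sτ : sign (η * η' * (η * η')) = 1 := by rw [_root_.map_mul, Int.units_mul_self]
  have e1 : η * η' * (η * η') = 1 := by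
    ext1 p
    by_contra hp
    have f1 := fix_of_odd_comm (by simpa using h7) τ2 sτ hm o1 (cm hu fu r1) hp
    have f2 := fix_of_odd_comm (by simpa using h7) τ2 sτ hm o2
      (cm (h.norm (h.cen ha) (A.inv_mem hu)) fv r2) hp
    exact hp (by simp [f1, f2])
  rw [e1] at r4
  rcases h.invK (h.mem_K ct r4) (by rw [conj_mul, h.sq]; simp) with e | e
  · exact h.ne (by simpa using e)
  · exact ft (by simpa using hg.trans e.symm)

end

end SB

end Cfsg.Agent.LyMc
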