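import Cfsg.Agent.LyMc.Sm2
import Cfsg.Agent.LyMc.Qs1
import Cfsg.Agent.PLocal.RelSylow
import Cfsg.Agent.Transfer.Focal
import Cfsg.Agent.Grp.PChain

/-!
# The Sylow 2-subgroup of `C(t)` when `A / Z(A)` is `A₅`, `A₆` or `A₇`
-/

set_option autoImplicit false

namespace Cfsg.Agent.LyMc

open Equiv Equiv.Perm Subgroup Cfsg.Agent.PLocal

theorem exists_pgroup_lift {A B : Type*} [Group A] [Group B] [Finite A] (φ : A →* B)
    {E : Subgroup B} (hE : IsPGroup 2 E) (hs : ∀ σ ∈ E, ∃ a, φ a = σ) :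
    ∃ T : Subgroup A, IsPGroup 2 T ∧ ∀ σ ∈ E, ∃ a ∈ T, φ a = σ := by
  let f : E.comap φ →* E := (φ.comp (E.comap φ).subtype).codRestrict E fun a => a.2
  have hf : Function.Surjective f := by
    rintro ⟨σ, hσ⟩
    obtain ⟨a, rfl⟩ := hs σ hσ
    exact ⟨⟨a, hσ⟩, rfl⟩
  obtain ⟨T⟩ : Nonempty (Sylow 2 (E.comap φ)) := inferInstance
  have hT : (T : Subgroup _).map f = ⊤ :=
    ((T.mapSurjective hf).is_maximal' (hE.to_subgroup ⊤) le_top).symm
  refine ⟨_, T.isPGroup'.map (E.comap φ).subtype, fun σ hσ => ?_⟩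
  obtain ⟨a, a1, a2⟩ := hT.ge (mem_top (⟨σ, hσ⟩ : E))
  exact ⟨a, ⟨a, a1, rfl⟩, congrArg Subtype.val a2⟩

theorem exists_dihedral {B : Type*} [Group B] {c j : B} (c4 : c ^ 4 = 1) (jj : j * j = 1)
    (jc' : j * c * j⁻¹ = c⁻¹) : ∃ E : Subgroup B, IsPGroup 2 E ∧ c ∈ E ∧ j ∈ E ∧
      ∀ M : Subgroup B, c ∈ M → j ∈ M → E ≤ M := by
  have jc : ∀ x : ℤ, j * c ^ x = c ^ (-x) * j := fun x => by
    rw [← mul_inv_eq_iff_eq_mul, ← conj_zpow, jc']; simp
  let E : Subgroup B :=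
    { carrier := {σ | ∃ x : ℤ, σ = c ^ x ∨ σ = c ^ x * j}
      mul_mem' := by
        rintro _ _ ⟨x, rfl | rfl⟩ ⟨y, rfl | rfl⟩
        · exact ⟨x + y, Or.inl (zpow_add _ _ _).symm⟩
        · exact ⟨x + y, Or.inr (by rw [zpow_add, mul_assoc])⟩
        · exact ⟨x + -y, Or.inr (by rw [zpow_add, mul_assoc, jc, mul_assoc])⟩
        · exact ⟨x + -y, Or.inl (by
            rw [zpow_add, mul_assoc, ← mul_assoc j, jc, mul_assoc, jj, mul_one])⟩
      one_mem' := ⟨0, Or.inl (zpow_zero _).symm⟩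
      inv_mem' := by
        rintro _ ⟨x, rfl | rfl⟩
        · exact ⟨-x, Or.inl (zpow_neg _ _).symm⟩
        · exact ⟨x, Or.inr (by
            rw [mul_inv_rev, ← zpow_neg, inv_eq_of_mul_eq_one_right jj, jc, neg_neg])⟩ }
  refine ⟨E, ?_, ⟨1, Or.inl (zpow_one _).symm⟩, ⟨0, Or.inr (by simp)⟩, fun M h1 h2 => ?_⟩
  · rintro ⟨_, x, rfl | rfl⟩
    · refine ⟨2, Subtype.ext ?_⟩
      show (c ^ x) ^ 4 = 1
      rw [← zpow_natCast, ← zpow_mul, mul_comm, zpow_mul, zpow_natCast, c4, one_zpow]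
    · refine ⟨1, Subtype.ext ?_⟩
      show (c ^ x * j) ^ 2 = 1
      rw [pow_two, mul_assoc, ← mul_assoc j, jc, mul_assoc, jj]; simp
  · rintro _ ⟨x, rfl | rfl⟩
    exacts [M.zpow_mem h1 x, M.mul_mem (M.zpow_mem h1 x) h2]

namespace SB
variable {G : Type*} [Group G] [Finite G] {n N : ℕ} {t c j : G} {A S : Subgroup G}
  {π : G → Perm (Fin n)} {y1 y2 : Perm (Fin n)} (h : SB t A π)
  (D : Dat n N (π c) (π j) y1 y2) (hSH : S ≤ centralizer {t}) (hS : IsPGroup 2 S)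
  (hSi : ¬ 2 ∣ S.relIndex (centralizer {t})) (cS : c ∈ S) (jS : j ∈ S) (cA : c ∈ A) (jA : j ∈ A)
include h D hSH hS hSi cS jS cA jA

omit [Finite G] hSH hSi in
theorem dec {s : G} (hs : s ∈ S) (sA : s ∈ A) : ∃ x : ℕ, ∃ z ∈ S, z ∈ A ∧ π z = 1 ∧
    (s = c ^ x * z ∨ s = c ^ x * j * z) := by
  let E := (S.subgroupOf A).map h.hom
  have mem : ∀ {s}, s ∈ S → s ∈ A → π s ∈ E := fun {s} h1 h2 => ⟨⟨s, h2⟩, h1, rfl⟩
  obtain ⟨e, he⟩ := ((RelSylow.isPGroup_subgroupOf hS A).map h.hom).exists_card_eq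
  have h1 : Nat.card E ≤ N := by
    have hle : E ≤ alternatingGroup (Fin n) := by
      rintro _ ⟨a, -, rfl⟩; exact mem_alternatingGroup.2 (h.even a.2)
    have h2 := card_dvd_of_le hle
    have : Nontrivial (Fin n) := Fin.nontrivial_iff_two_le.2 (by have := h.h5; omega)
    have h3 : 2 * Nat.card E ∣ n.factorial := by
      have := Nat.mul_dvd_mul_left 2 h2
      rwa [two_mul_nat_card_alternatingGroup, Nat.card_perm, Nat.card_fin] at this
    by_contra h4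
    apply D.two
    refine Dvd.dvd.trans ?_ h3
    rw [show Nat.card E = 2 ^ e from he] at h4 ⊢
    rcases D.hN with rfl | rfl
    · have : 3 ≤ e := by
        by_contra h5
        interval_cases e <;> omega
      exact Nat.mul_dvd_mul_left 2 (pow_dvd_pow 2 this)
    · have : 4 ≤ e := by
        by_contra h5
        interval_cases e <;> omega
      exact Nat.mul_dvd_mul_left 2 (pow_dvd_pow 2 this)
  let F : Fin (N / 2) × Fin 2 → E := fun x => ⟨π c ^ (x.1 : ℕ) * π j ^ (x.2 : ℕ),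
    E.mul_mem (E.pow_mem (mem cS cA) _) (E.pow_mem (mem jS jA) _)⟩
  have hF : Function.Injective F := fun x y e => D.inj (Subtype.mk.inj e)
  obtain ⟨⟨x, ε⟩, e1⟩ := (hF.bijective_of_nat_card_le (h1.trans (by
    rcases D.hN with rfl | rfl <;> simp))).2 ⟨_, mem hs sA⟩
  have e2 : π (c ^ (x : ℕ) * j ^ (ε : ℕ)) = π s := by
    rw [h.mul (A.pow_mem cA _) (A.pow_mem jA _), h.map_pow cA, h.map_pow jA]
    exact Subtype.mk.inj e1
  have k1 := A.mul_mem (A.pow_mem cA (x : ℕ)) (A.pow_mem jA (ε : ℕ))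
  have k2 := A.mul_mem (A.inv_mem k1) sA
  refine ⟨x, _, S.mul_mem (S.inv_mem (S.mul_mem (S.pow_mem cS (x : ℕ)) (S.pow_mem jS (ε : ℕ)))) hs,
    k2, (h.ker k2).2 (h.diff sA k1 e2.symm), ?_⟩
  fin_cases ε
  · left; simp
  · right; simp [mul_assoc]

theorem cent_aux : (∀ z ∈ S, z ∈ A → π z = 1 → z = 1 ∨ z = t) ∧
    t ∈ zpowers (j * c * j⁻¹ * c⁻¹) := by
  have hζ : j * c * j⁻¹ * c ∈ A := A.mul_mem (h.norm (h.cen jA) cA) cA
  have ζK := (h.ker hζ).1 (by
    rw [h.mul (h.norm (h.cen jA) cA) cA, h.map_conj jA cA, D.jc, inv_mul_cancel])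
  set κ := j * c * j⁻¹ * c⁻¹ with hκ
  have eκ : κ = j * c * j⁻¹ * c * (c * c)⁻¹ := by rw [hκ]; group
  have κc : Commute κ c := by
    rw [eκ]; exact (h.commK ζK cA).mul_left ((Commute.refl c).mul_left (Commute.refl c)).inv_left
  have jc : ∀ x : ℤ, j * c ^ x * j⁻¹ = κ ^ x * c ^ x := fun x => by
    rw [← κc.mul_zpow, ← conj_zpow]; congr 1; rw [hκ]; group
  have jκ : j * κ * j⁻¹ = κ⁻¹ := by
    have := jc (-2)
    calc _ = j * (j * c * j⁻¹ * c) * j⁻¹ * (j * c ^ (-2 : ℤ) * j⁻¹) := by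
          rw [eκ]; group
      _ = j * c * j⁻¹ * c * c ^ (-2 : ℤ) * κ ^ (-2 : ℤ) := by
          rw [this, ← (h.commK ζK jA).eq, (κc.zpow_zpow _ _).eq]; group
      _ = κ * κ ^ (-2 : ℤ) := by congr 1; rw [eκ]; group
      _ = _ := by group
  have hle : ⁅(S ⊓ A).subgroupOf A, (S ⊓ A).subgroupOf A⁆ ≤ (zpowers κ).subgroupOf A :=
    commutator_le.2 fun s hs s' hs' => by
      obtain ⟨x, z, -, z1, z2, e⟩ := h.dec D hS cS jS cA jA hs.1 s.2
      obtain ⟨x', z', -, z1', z2', e'⟩ := h.dec D hS cS jS cA jA hs'.1 s'.2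
      have red : ∀ u v, u ∈ A → v ∈ A → (s : G) = u * z → (s' : G) = v * z' →
          (s : G) * s' * (s : G)⁻¹ * (s' : G)⁻¹ = u * v * u⁻¹ * v⁻¹ := fun u v hu hv e e' => by
        calc _ = u * (z * s' * z⁻¹) * u⁻¹ * (s' : G)⁻¹ := by rw [e]; group
          _ = u * v * (z' * u⁻¹ * z'⁻¹) * v⁻¹ := by
            rw [(h.commK ((h.ker z1).1 z2) s'.2).eq, e']; group
          _ = _ := by rw [(h.commK ((h.ker z1').1 z2') (A.inv_mem hu)).eq]; group
      have m1 := A.pow_mem cA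
      have m2 := fun x => A.mul_mem (A.pow_mem cA x) jA
      have cc : ∀ (k : ℤ) (x : ℕ), c ^ x * κ ^ k = κ ^ k * c ^ x := fun k x =>
        ((κc.zpow_left k).pow_right x).eq.symm
      show (s : G) * s' * (s : G)⁻¹ * (s' : G)⁻¹ ∈ zpowers κ
      rcases e with e | e <;> rcases e' with e' | e'
      · rw [red _ _ (m1 x) (m1 x') e e']
        exact ⟨0, by simp only; group⟩
      · rw [red _ _ (m1 x) (m2 x') e e']
        refine ⟨-x, ?_⟩
        show κ ^ (-x : ℤ) = _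
        calc _ = κ ^ (-x : ℤ) * c ^ (x + x') * c ^ (-x : ℤ) * (c ^ x')⁻¹ := by group
          _ = c ^ (x + x') * (j * c ^ (-x : ℤ) * j⁻¹) * (c ^ x')⁻¹ := by rw [jc, ← cc]; group
          _ = _ := by group
      · rw [red _ _ (m2 x) (m1 x') e e']
        refine ⟨x', ?_⟩
        show κ ^ (x' : ℤ) = _
        calc _ = κ ^ (x' : ℤ) * c ^ x * c ^ (x' : ℤ) * (c ^ x)⁻¹ * (c ^ x')⁻¹ := by group
          _ = c ^ x * (j * c ^ (x' : ℤ) * j⁻¹) * (c ^ x)⁻¹ * (c ^ x')⁻¹ := by rw [jc, ← cc]; group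
          _ = _ := by group
      · rw [red _ _ (m2 x) (m2 x') e e']
        refine ⟨x' - x, ?_⟩
        show κ ^ (x' - x : ℤ) = _
        calc _ = κ ^ (x' - x : ℤ) * c ^ x * c ^ (x' - x : ℤ) * (c ^ x')⁻¹ := by group
          _ = c ^ x * (j * c ^ (x' - x : ℤ) * j⁻¹) * (c ^ x')⁻¹ := by rw [jc, ← cc]; group
          _ = _ := by group
  have hH : centralizer {t} ⊓ A = A :=
    inf_eq_right.2 fun a ha => mem_centralizer_singleton_iff.2 (h.cen ha)
  have h1 := RelSylow.not_dvd_relIndex_inf (N := A) hSH hS hSi fun g hg =>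
    RelSylow.mem_normalizer_of_finite fun a ha => h.norm (mem_centralizer_singleton_iff.1 hg) ha
  rw [hH] at h1
  obtain ⟨e, he⟩ := (RelSylow.isPGroup_subgroupOf (hS.to_inf_left (K := A)) A).exists_card_eq
  have key : ∀ z ∈ S, z ∈ A → π z = 1 → z ∈ zpowers κ := fun z z1 z2 z3 =>
    hle (Transfer.mem_commutator_of_hall_of_central (H := (S ⊓ A).subgroupOf A) (x := ⟨z, z2⟩)
      (he ▸ (Nat.coprime_two_left.2 (Nat.odd_iff.2 (Nat.two_dvd_ne_zero.1 h1))).pow_left e)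
      ⟨z1, z2⟩ (mem_center_iff.2 fun a => Subtype.ext (h.commK ((h.ker z2).1 z3) a.2).eq.symm)
      (h.perf.commutator_eq_top ▸ mem_top _))
  have tS : t ∈ S := RelSylow.eq_of_le hS hSi (P := S ⊔ zpowers t) (sup_le hSH (zpowers_le.2
    (mem_centralizer_singleton_iff.2 rfl))) (IsPGroup.to_sup_of_normal_right' hS
      (IsPGroup.of_card (n := 1) (by
        rw [Nat.card_zpowers, orderOf_eq_prime (p := 2) (by rw [pow_two, h.sq]) h.ne, pow_one]))
      fun s hs => RelSylow.mem_normalizer_of_finite (by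
        rintro _ ⟨k, rfl⟩
        have : Commute s t := mem_centralizer_singleton_iff.1 (hSH hs)
        show s * t ^ k * s⁻¹ ∈ _
        rw [(this.zpow_right k).eq, mul_inv_cancel_right]; exact ⟨k, rfl⟩)) le_sup_left ▸
    mem_sup_right (mem_zpowers t)
  refine ⟨fun z z1 z2 z3 => h.invK ((h.ker z2).1 z3) ?_, key t tS h.tA h.map_t⟩
  obtain ⟨k, hk⟩ := key z z1 z2 z3
  have e1 : j * z * j⁻¹ = z⁻¹ := by rw [← hk, ← conj_zpow, jκ]; simp
  rw [← (h.commK ((h.ker z2).1 z3) jA).eq, mul_inv_cancel_right] at e1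
  nth_rewrite 1 [e1]
  exact inv_mul_cancel z

theorem two_cent (z : G) (hz : z ∈ A) (z1 : π z = 1) (e : ℕ) (z2 : z ^ 2 ^ e = 1) :
    z = 1 ∨ z = t := by
  obtain ⟨k, -, hk⟩ := (Nat.dvd_prime_pow Nat.prime_two).1 (orderOf_dvd_of_pow_eq_one z2)
  obtain ⟨g, g1, g2⟩ := RelSylow.exists_conj_mem hS hSi (P := zpowers z)
    (zpowers_le.2 (mem_centralizer_singleton_iff.2 (h.cen hz)))
    (IsPGroup.of_card ((Nat.card_zpowers z).trans hk))
  have gt : Commute g t := mem_centralizer_singleton_iff.1 g1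
  rcases (h.cent_aux D hSH hS hSi cS jS cA jA).1 _ (g2 z (mem_zpowers z)) (h.norm gt hz)
    ((h.ker (h.norm gt hz)).2 (h.normK gt ((h.ker hz).1 z1))) with e | e
  · left; simpa using e
  · right
    rw [mul_inv_eq_iff_eq_mul, ← gt.eq] at e
    exact mul_left_cancel e

theorem rels : c ^ (N / 2) = t ∧ j * j = t ∧ j * c * j⁻¹ = c⁻¹ := by
  have hZ := h.two_cent D hSH hS hSi cS jS cA jA
  have p2 : ∀ {u v}, u ∈ S → v ∈ S → ∃ k : ℕ, u ^ 2 ^ k = 1 ∧ v ^ 2 ^ k = 1 := fun {u v} hu hv => by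
    obtain ⟨k, hk⟩ := hS ⟨u, hu⟩
    obtain ⟨l, hl⟩ := hS ⟨v, hv⟩
    exact ⟨k + l, by rw [pow_add, pow_mul, show u ^ 2 ^ k = 1 from congrArg Subtype.val hk, one_pow],
      by rw [pow_add, mul_comm, pow_mul, show v ^ 2 ^ l = 1 from congrArg Subtype.val hl, one_pow]⟩
  have aA := A.pow_mem cA (N / 4)
  have aS := S.pow_mem cS (N / 4)
  have aa : c ^ (N / 4) * c ^ (N / 4) = c ^ (N / 2) := by
    rw [← pow_add]; congr 1; rcases D.hN with rfl | rfl <;> rfl
  have h1 : c ^ (N / 2) = 1 ∨ c ^ (N / 2) = t := (h.cent_aux D hSH hS hSi cS jS cA jA).1 _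
    (S.pow_mem cS _) (A.pow_mem cA _) (by rw [h.map_pow cA, D.cN])
  have sq : ∀ {w y}, w ∈ S → w ∈ A → Tri (π c ^ (N / 4)) (π w) y → w * w = c ^ (N / 2) := by
    intro w y w1 w2 T
    obtain ⟨y, hy, rfl⟩ := h.surj T.sy
    obtain ⟨k, k1, k2⟩ := p2 aS w1
    have e : y * c ^ (N / 4) * y⁻¹ * (y * c ^ (N / 4) * y⁻¹) = c ^ (N / 2) := by
      rw [conj_mul, aa]
      rcases h1 with e | e <;> rw [e]
      · group
      · rw [(h.cen hy).eq]; group
    rcases h.eq_or hZ (h.norm (h.cen hy) aA) w2 (by rw [h.map_conj hy aA, h.map_pow cA, T.yz])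
      (by rw [conj_pow, k1]; group) k2 with e1 | e1
    · rw [← e, e1]
    · rw [← e, e1, ← pow_two (w * t), (h.cen w2).mul_pow, pow_two, pow_two, h.sq, mul_one]
  have e1 := sq jS jA D.t1
  have e2 := sq (S.mul_mem cS jS) (A.mul_mem cA jA) (h.mul cA jA ▸ D.t2)
  have e3 : j * c * j⁻¹ = c⁻¹ := by
    rw [← e1] at e2
    calc _ = c⁻¹ * (c * j * (c * j)) * (j * j)⁻¹ := by group
      _ = _ := by rw [e2]; group
  have e4 : c ^ (N / 2) = t := h1.resolve_left fun e => by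
    obtain ⟨k, hk⟩ := (h.cent_aux D hSH hS hSi cS jS cA jA).2
    have k1 : t = c ^ (-2 * k) := by rw [← hk, e3]; simp only; group
    have o1 : orderOf (π c) = N / 2 := by
      have := D.cN; have := D.z1
      rcases D.hN with rfl | rfl
      · exact orderOf_eq_prime_pow (p := 2) (n := 0) (by simpa) (by simpa)
      · exact orderOf_eq_prime_pow (p := 2) (n := 1) (by simpa) (by simpa)
    have k2 : π c ^ (-2 * k) = 1 := by
      rw [← h.map_t, k1]; exact (h.hom.map_zpow ⟨c, cA⟩ _).symm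
    obtain ⟨l, hl⟩ := orderOf_dvd_iff_zpow_eq_one.2 k2
    rw [hl, o1, zpow_mul, zpow_natCast, e, one_zpow] at k1
    exact h.ne k1
  exact ⟨e4, e1.trans e4, e3⟩

theorem qs (hinv : N = 8 ∨ ∀ s ∈ S, s * c * s⁻¹ * c⁻¹ ∈ zpowers t) :
    QS N S t (fun x => c ^ x.val) j := by
  obtain ⟨r1, r2, r3⟩ := h.rels D hSH hS hSi cS jS cA jA
  have hZ := h.two_cent D hSH hS hSi cS jS cA jA
  have : NeZero N := ⟨by rcases D.hN with rfl | rfl <;> decide⟩
  have oc : orderOf c = N := by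
    have e : c ^ (N / 2 + N / 2) = 1 := by rw [pow_add, r1, h.sq]
    have e' : c ^ (N / 2) ≠ 1 := r1 ▸ h.ne
    rcases D.hN with rfl | rfl
    · exact orderOf_eq_prime_pow (p := 2) (n := 1) (by simpa using e') (by simpa using e)
    · exact orderOf_eq_prime_pow (p := 2) (n := 2) (by simpa using e') (by simpa using e)
  have cast : ∀ k : ℕ, c ^ (k : ZMod N).val = c ^ k := fun k => by
    rw [ZMod.val_natCast, ← oc, pow_mod_orderOf]
  have add : ∀ x y : ZMod N, c ^ (x + y).val = c ^ x.val * c ^ y.val := fun x y => by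
    rw [← pow_add, ← cast (x.val + y.val), Nat.cast_add, ZMod.natCast_zmod_val,
      ZMod.natCast_zmod_val]
  have neg : ∀ x : ZMod N, c ^ (-x).val = (c ^ x.val)⁻¹ := fun x => by
    rw [eq_inv_iff_mul_eq_one, ← add, neg_add_cancel, ZMod.val_zero, pow_zero]
  have st : ∀ {s}, s ∈ S → Commute s t := fun hs => mem_centralizer_singleton_iff.1 (hSH hs)
  have form : ∀ {s}, s ∈ S → s ∈ A → ∃ x : ZMod N, s = c ^ x.val ∨ s = c ^ x.val * j := by
    intro s hs sA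
    obtain ⟨x, z, z1, z2, z3, e⟩ := h.dec D hS cS jS cA jA hs sA
    rcases (h.cent_aux D hSH hS hSi cS jS cA jA).1 z z1 z2 z3 with rfl | rfl
    · exact ⟨x, by rw [cast]; simpa using e⟩
    · refine ⟨(x + N / 2 : ℕ), ?_⟩
      rwa [cast, pow_add, r1, mul_assoc _ z, ← (h.cen jA).eq, ← mul_assoc]
  have jc : ∀ k : ℕ, j * c ^ k * j⁻¹ = (c ^ k)⁻¹ := fun k => by rw [← conj_pow, r3, inv_pow]
  have wsq : ∀ k : ℕ, c ^ k * j * (c ^ k * j) = t := fun k => by
    calc _ = c ^ k * (j * c ^ k * j⁻¹) * (j * j) := by group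
      _ = t := by rw [jc, r2]; group
  have aA := A.pow_mem cA (N / 4)
  have aa : c ^ (N / 4) * c ^ (N / 4) = t := by
    rw [← pow_add, ← r1]; congr 1; rcases D.hN with rfl | rfl <;> rfl
  have aw : ∀ k : ℕ, c ^ (N / 4) * (c ^ k * j) = t * (c ^ k * j * c ^ (N / 4)) := fun k => by
    calc _ = c ^ (N / 4) * c ^ (N / 4) * c ^ k * (c ^ (N / 4))⁻¹ * j := by group
      _ = _ := by rw [aa, ← jc]; group
  obtain ⟨u1, hu1, rfl⟩ := h.surj D.t1.sy
  obtain ⟨u2, hu2, rfl⟩ := h.surj D.t2.sy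
  have T1 := D.t1
  have T2 := D.t2
  rw [← h.map_pow cA] at T1 T2
  rw [← h.mul cA jA] at T2
  have aw0 : c ^ (N / 4) * j = t * (j * c ^ (N / 4)) := by simpa using aw 0
  have aw1 : c ^ (N / 4) * (c * j) = t * (c * j * c ^ (N / 4)) := by simpa using aw 1
  have w1 : c * j * (c * j) = t := by simpa using wsq 1
  have cjA := A.mul_mem cA jA
  have F1 : ∀ {r}, r ∈ S → Act (fun x : ZMod N => c ^ x.val) j r 1 0 →
      r ∈ centralizer (A : Set G) := by
    intro r hr a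
    have rc : Commute r c := mul_inv_eq_iff_eq_mul.1 (by
      have := a.onc (1 : ℕ)
      simp only [one_mul, cast, pow_one] at this
      exact this)
    have rj : Commute r j := mul_inv_eq_iff_eq_mul.1 (by simpa using a.onj)
    have f1 := h.fix hZ aA jA hu1 aa r2 aw0 T1 (st hr) (rc.pow_right _) rj
    have f2 := h.fix hZ aA cjA hu2 aa w1 aw1 T2 (st hr) (rc.pow_right _) (rc.mul_right rj)
    obtain ⟨ρ, hρ⟩ := h.rep_three (st hr) hu1 D.three f1
    have f : ∀ {u}, u ∈ A → π (r * u * r⁻¹) = π u → ρ * π u = π u * ρ := fun {u} hu e => by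
      rw [← mul_inv_eq_iff_eq_mul, ← hρ u hu, e]
    obtain rfl := D.one ρ (f cA (by rw [rc.eq, mul_inv_cancel_right]))
      (f jA (by rw [rj.eq, mul_inv_cancel_right])) (f hu1 f1) (f hu2 f2)
    exact h.mem_K (st hr) hρ
  have shift : ∀ x b : ZMod N, c ^ x.val * (c ^ b.val * j) * (c ^ x.val)⁻¹ =
      c ^ (2 * x + b).val * j := fun x b => by
    calc _ = c ^ x.val * c ^ b.val * (j * c ^ x.val * j⁻¹)⁻¹ * j := by group
      _ = _ := by rw [two_mul, add, add, jc]; group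
  have par : ∀ b : ZMod N, ∃ x, b = 2 * x + (0 : ℕ) ∨ b = 2 * x + (1 : ℕ) := by
    rcases D.hN with rfl | rfl <;> decide
  refine ⟨D.hN, hS, st, fun T h1 h2 => ?_, add, fun x y e => ZMod.val_injective N
    (pow_injOn_Iio_orderOf (oc ▸ x.val_lt) (oc ▸ y.val_lt) e), (cast _).trans r1, r2,
    fun x => (jc _).trans (neg x).symm, fun x => S.pow_mem cS _, jS, fun {s} hs => ?_,
    fun hr a => h.invK (F1 hr a), fun hr hr' a a' => h.comK (S ⊓ centralizer (A : Set G))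
      hS.to_inf_left inf_le_right _ ⟨hr, F1 hr a⟩ _ ⟨hr', F1 hr' a'⟩, fun b => ?_,
    fun {f} hf f2 fa b fw ft => ?_, fun {g u} hg hu hs => form hs (h.norm hg ?_)⟩
  · obtain ⟨g, g1, g2⟩ := RelSylow.exists_conj_mem hS hSi
      (fun x hx => mem_centralizer_singleton_iff.2 (h2 x hx)) h1
    exact ⟨g, mem_centralizer_singleton_iff.1 g1, g2⟩
  · have m : ∀ {u}, u ∈ S → s * u * s⁻¹ ∈ S := fun hu =>
      S.mul_mem (S.mul_mem hs hu) (S.inv_mem hs)
    obtain ⟨i, hi⟩ : ∃ i : ZMod N, s * c * s⁻¹ = c ^ i.val := by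
      rcases hinv with rfl | hinv
      · obtain ⟨i, e | e⟩ := form (m cS) (h.norm (st hs) cA)
        · exact ⟨i, e⟩
        · have e1 := wsq i.val
          rw [← e, conj_mul, mul_inv_eq_iff_eq_mul, ← (st hs).eq, mul_left_cancel_iff, ← r1,
            ← pow_two] at e1
          exact absurd (pow_injOn_Iio_orderOf (by simp [oc]) (by simp [oc]) e1) (by decide)
      · obtain ⟨k, hk⟩ := hinv s hs
        have : s * c * s⁻¹ ∈ zpowers c := by
          rw [← mul_inv_eq_iff_eq_mul.1 hk.symm |>.symm, ← r1]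
          exact mul_mem (zpow_mem (pow_mem (mem_zpowers c) _) _) (mem_zpowers c)
        obtain ⟨l, hl⟩ := (mem_powers_iff_mem_zpowers.2 this : _ ∈ Submonoid.powers c)
        exact ⟨l, by rw [cast, ← hl]⟩
    obtain ⟨μ, e | e⟩ := form (m jS) (h.norm (st hs) jA)
    · exfalso
      have : Commute (s * j * s⁻¹) (s * c * s⁻¹) := by
        rw [hi, e]; exact (Commute.refl c).pow_pow _ _
      have c1 : Commute j c := by simpa [mul_assoc] using this.conj s⁻¹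
      rw [(c1.pow_right _).eq] at aw0
      exact h.ne (by simpa using aw0)
    · refine ⟨i, μ, fun x => ?_, e⟩
      show s * c ^ x.val * s⁻¹ = c ^ (i * x).val
      rw [← conj_pow, hi, ← pow_mul, ← cast, Nat.cast_mul, ZMod.natCast_zmod_val,
        ZMod.natCast_zmod_val]
  · have key : ∀ {k : ℕ} {u}, u ∈ A → (u * c ^ (N / 4) * u⁻¹ = c ^ k * j ∨
        u * c ^ (N / 4) * u⁻¹ = c ^ k * j * t) → ∀ x : ZMod N,
        ∃ g ∈ A, g * c ^ (N / 4) * g⁻¹ = c ^ (2 * x + k).val * j := by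
      intro k u hu e x
      rw [← shift, cast]
      rcases e with e | e
      · exact ⟨_, A.mul_mem (A.pow_mem cA x.val) hu, by rw [← e]; group⟩
      · refine ⟨_, A.mul_mem (A.mul_mem (A.pow_mem cA x.val) aA) hu, ?_⟩
        calc _ = c ^ x.val * (c ^ (N / 4) * (u * c ^ (N / 4) * u⁻¹) * (c ^ (N / 4))⁻¹) *
              (c ^ x.val)⁻¹ := by group
          _ = _ := by
            congr 2
            calc _ = t * (c ^ k * j * (c ^ (N / 4) * t * (c ^ (N / 4))⁻¹)) := by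
                  rw [e, ← mul_assoc (c ^ (N / 4)), aw]; group
              _ = _ := by
                rw [(h.cen aA).eq, mul_inv_cancel_right,
                  (h.cen (A.mul_mem (A.pow_mem cA k) jA)).eq, ← mul_assoc t t, h.sq, one_mul]
    obtain ⟨g, g1, g2⟩ : ∃ g ∈ A, g * c ^ (N / 4) * g⁻¹ = c ^ b.val * j := by
      obtain ⟨x, rfl | rfl⟩ := par b
      · exact key hu1 (by simpa using (h.tri_conj hZ aA jA hu1 aa r2 aw0 T1).1) x
      · exact key hu2 (by simpa using (h.tri_conj hZ aA cjA hu2 aa w1 aw1 T2).1) x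
    exact ⟨g, by rw [← g2]; simp only [cast], fun r hr a => (h.commK (F1 hr a) g1).symm⟩
  · simp only [cast] at fa
    have key : ∀ (k : ℕ) (x : ZMod N), b = 2 * x + k → (∀ f', Commute f' t → f' * f' = 1 →
        Commute f' (c ^ (N / 4)) → Commute f' (c ^ k * j) → f' ≠ t → ¬ IsConj t f') →
        ¬ IsConj t f := by
      rintro k x rfl H hc
      have cx := st (S.pow_mem cS x.val)
      refine H ((c ^ x.val)⁻¹ * f * (c ^ x.val)⁻¹⁻¹)
        ((cx.inv_left.mul_left (st hf)).mul_left cx.inv_left.inv_left) (by rw [conj_mul, f2]; group)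
        ?_ ?_ (fun e => ft ?_) (hc.trans (isConj_iff.2 ⟨_, rfl⟩))
      · have := fa.conj (c ^ x.val)⁻¹
        rwa [((Commute.refl c).pow_pow _ _).inv_left.eq, mul_inv_cancel_right] at this
      · have := fw.conj (c ^ x.val)⁻¹
        rw [← shift, cast] at this
        simpa [mul_assoc] using this
      · rw [mul_inv_eq_iff_eq_mul, ← cx.inv_left.eq] at e
        exact mul_left_cancel e
    obtain ⟨x, e | e⟩ := par b
    · exact key 0 x e fun f' k1 k2 k3 k4 k5 =>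
        h.not_conj hZ aA jA hu1 aa r2 aw0 T1 D.h7 k1 k2 k3 (by simpa using k4) k5
    · exact key 1 x e fun f' k1 k2 k3 k4 k5 =>
        h.not_conj hZ aA cjA hu2 aa w1 aw1 T2 D.h7 k1 k2 k3 (by simpa using k4) k5
  · obtain ⟨b, rfl | rfl⟩ := hu
    exacts [A.pow_mem cA _, A.mul_mem (A.pow_mem cA _) jA]

omit D hSH hS hSi cS jS cA jA

theorem exists_lift {c₀ j₀ : Perm (Fin n)} (D : Dat n N c₀ j₀ y1 y2) :
    ∃ (S : Subgroup G) (c j : G), S ≤ centralizer {t} ∧ IsPGroup 2 S ∧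
      ¬ 2 ∣ S.relIndex (centralizer {t}) ∧ c ∈ S ∧ j ∈ S ∧ c ∈ A ∧ j ∈ A ∧ π c = c₀ ∧ π j = j₀ := by
  obtain ⟨E, hE, m1, m2, hle⟩ := exists_dihedral (c := c₀) (by
    have := D.cN
    rcases D.hN with rfl | rfl
    · rw [show 4 = 4 / 2 * 2 from rfl, pow_mul, this, one_pow]
    · exact this) D.jj D.jc
  obtain ⟨T, hT, hT'⟩ := exists_pgroup_lift h.hom hE fun σ hσ => by
    obtain ⟨a, ha, e⟩ := h.surj (mem_alternatingGroup.1
      (hle _ (mem_alternatingGroup.2 D.sc) (mem_alternatingGroup.2 D.sj) hσ))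
    exact ⟨⟨a, ha⟩, e⟩
  obtain ⟨S, h1, h2, h3, h4⟩ := RelSylow.exists_relSylow (H := centralizer {t})
    (P := T.map A.subtype)
    (fun x hx => mem_centralizer_singleton_iff.2 (h.cen (map_subtype_le _ hx))) (hT.map _)
  obtain ⟨c, c1, c2⟩ := hT' _ m1
  obtain ⟨j, j1, j2⟩ := hT' _ m2
  exact ⟨S, c, j, h2, h3, h4, h1 ⟨c, c1, rfl⟩, h1 ⟨j, j1, rfl⟩, c.2, j.2, c2, j2⟩

theorem exists_qs (h7 : n ≤ 7) : ∃ (N : ℕ) (S : Subgroup G) (c : ZMod N → G) (j : G),
    QS N S t c j := by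
  have h5 := h.h5
  have big : ∀ {c₀ j₀ y1 y2 : Perm (Fin n)}, Dat n 8 c₀ j₀ y1 y2 →
      ∃ (N : ℕ) (S : Subgroup G) (c : ZMod N → G) (j : G), QS N S t c j := fun D => by
    obtain ⟨S, c, j, h1, h2, h3, h4, h5, h6, h7, rfl, rfl⟩ := h.exists_lift D
    exact ⟨_, _, _, _, h.qs D h1 h2 h3 h4 h5 h6 h7 (Or.inl rfl)⟩
  interval_cases n
  swap
  · exact big dat6
  swap
  · exact big dat7
  obtain ⟨S, c, j, h1, h2, h3, cS, jS, cA, jA, ec, ej⟩ := h.exists_lift dat5a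
  have D : Dat 5 4 (π c) (π j) (py 5) (py' 5) := by rw [ec, ej]; exact dat5a
  have := h2.isNilpotent
  have hN : (A.subgroupOf S).Normal := ⟨fun a ha s =>
    h.norm (mem_centralizer_singleton_iff.1 (h1 s.2)) ha⟩
  have πt : ∀ {u}, u ∈ zpowers t → π u = 1 := by
    rintro _ ⟨k, rfl⟩
    exact (h.hom.map_zpow ⟨t, h.tA⟩ k).trans (by
      rw [show h.hom ⟨t, h.tA⟩ = 1 from h.map_t, one_zpow])
  obtain ⟨u, uA, ut, hu⟩ := Grp.PChain.exists_central_mod (A.subgroupOf S)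
    ((zpowers t).subgroupOf S) fun e => D.z1 (by simpa using πt (e (show (⟨c, cS⟩ : S) ∈ _ from cA)))
  have hinv : ∀ s ∈ S, s * u * s⁻¹ * (u : G)⁻¹ ∈ zpowers t := fun s hs => by
    have : (u : G) * s * (u : G)⁻¹ * s⁻¹ ∈ zpowers t := hu ⟨s, hs⟩
    simpa [mul_assoc] using inv_mem this
  obtain ⟨x, z, z1, z2, z3, e⟩ := h.dec D h2 cS jS cA jA u.2 uA
  have e1 : π u = pz 5 ^ (x % 2) ∨ π u = pz 5 ^ (x % 2) * pj 5 := by
    have : pz 5 ^ x = pz 5 ^ (x % 2) := pow_eq_pow_mod x (by decide)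
    rcases e with e | e
    · left; rw [e, h.mul (A.pow_mem cA x) z2, z3, h.map_pow cA, ec, mul_one, this]
    · right
      rw [e, h.mul (A.mul_mem (A.pow_mem cA x) jA) z2, z3, h.mul (A.pow_mem cA x) jA,
        h.map_pow cA, ec, ej, mul_one, this]
  rcases Nat.mod_two_eq_zero_or_one x with hx | hx <;> rw [hx] at e1 <;> rcases e1 with e1 | e1
  · rcases (h.cent_aux D h1 h2 h3 cS jS cA jA).1 u u.2 uA (by simpa using e1) with e2 | e2
    · exact absurd (show (u : G) ∈ zpowers t from e2 ▸ one_mem _) ut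
    · exact absurd (show (u : G) ∈ zpowers t from e2 ▸ mem_zpowers _) ut
  · exact ⟨_, _, _, _, h.qs (c := (u : G)) (j := c) (by rw [e1, ec]; simpa using dat5b) h1 h2 h3 u.2 cS uA
      cA (Or.inr hinv)⟩
  · exact ⟨_, _, _, _, h.qs (c := (u : G)) (j := j) (by rw [e1, ej]; simpa using dat5a) h1 h2 h3 u.2 jS uA
      jA (Or.inr hinv)⟩
  · exact ⟨_, _, _, _, h.qs (c := (u : G)) (j := c) (by rw [e1, ec]; simpa using dat5c) h1 h2 h3 u.2 cS uA
      cA (Or.inr hinv)⟩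

end SB

end Cfsg.Agent.LyMc
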