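import Cfsg.Agent.LyMc.Gen

/-!
# Standard subgroups `2.A_n`: the structure map of `C(t)` and permutation lemmas
-/

set_option autoImplicit false

namespace Cfsg.Agent.LyMc

open Equiv Equiv.Perm Subgroup Cfsg.Agent.KSG

section Perm
variable {Ω : Type*} [DecidableEq Ω]

/-- three distinct 2-cycles of an involution -/
structure Blk3 (σ : Perm Ω) (a b c : Ω) : Prop where
  sq : σ * σ = 1
  ha : σ a ≠ a
  hb : σ b ≠ b
  hc : σ c ≠ c
  ab : a ≠ b
  ac : a ≠ c
  bc : b ≠ c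
  ab' : σ a ≠ b
  ac' : σ a ≠ c
  bc' : σ b ≠ c

/-- rotation of three 2-cycles -/
def rot (σ : Perm Ω) (a b c : Ω) : Perm Ω := c3 a b c * c3 (σ a) (σ b) (σ c)

/-- product of two 2-cycles -/
def tt (σ : Perm Ω) (a b : Ω) : Perm Ω := swap a (σ a) * swap b (σ b)

omit [DecidableEq Ω] in
theorem sq_apply {σ : Perm Ω} (h : σ * σ = 1) (z : Ω) : σ (σ z) = z := by
  rw [← Perm.mul_apply, h, Perm.one_apply]

theorem conj_swap (g : Perm Ω) (a b : Ω) : g * swap a b * g⁻¹ = swap (g a) (g b) :=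
  (swap_apply_apply g a b).symm

theorem conj_tt {σ g : Perm Ω} (h : Commute g σ) (a b : Ω) :
    g * tt σ a b * g⁻¹ = tt σ (g a) (g b) := by
  have e : ∀ z, g (σ z) = σ (g z) := fun z => by rw [← Perm.mul_apply, h.eq, Perm.mul_apply]
  rw [tt, tt, ← e, ← e, ← conj_swap, ← conj_swap]; group

theorem swap_comm_sq {σ : Perm Ω} (h : σ * σ = 1) (a : Ω) : Commute σ (swap a (σ a)) :=
  mul_inv_eq_iff_eq_mul.1 (by rw [conj_swap, sq_apply h, swap_comm])

theorem tt_comm {σ : Perm Ω} (h : σ * σ = 1) (a b : Ω) : Commute σ (tt σ a b) :=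
  (swap_comm_sq h a).mul_right (swap_comm_sq h b)

namespace Blk3
variable {σ : Perm Ω} {a b c : Ω} (h : Blk3 σ a b c)
include h

theorem rot_comm : Commute σ (rot σ a b c) := by
  have := sq_apply h.sq a; have := sq_apply h.sq b; have := sq_apply h.sq c
  obtain ⟨sq, _, _, _, _, _, _, _, _, _⟩ := h
  refine mul_inv_eq_iff_eq_mul.1 ?_
  rw [rot, show σ * (c3 a b c * c3 (σ a) (σ b) (σ c)) * σ⁻¹ =
    (σ * c3 a b c * σ⁻¹) * (σ * c3 (σ a) (σ b) (σ c) * σ⁻¹) by group, conj_c3, conj_c3,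
    sq_apply sq, sq_apply sq, sq_apply sq]
  ext z; simp only [c3, Perm.mul_apply, swap_apply_def]; grind

theorem exists_emb : ∃ φ : Perm (Fin 6) →* Perm Ω, ∀ i j, φ (swap i j) =
    swap (![a, σ a, b, σ b, c, σ c] i) (![a, σ a, b, σ b, c, σ c] j) := by
  have := sq_apply h.sq a; have := sq_apply h.sq b; have := sq_apply h.sq c
  obtain ⟨sq, _, _, _, _, _, _, _, _, _⟩ := h
  refine ⟨viaEmbeddingHom ⟨![a, σ a, b, σ b, c, σ c], fun i j e => ?_⟩, fun i j => via_swap _ i j⟩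
  fin_cases i <;> fin_cases j <;> simp at e ⊢ <;> grind

theorem rot_cube : rot σ a b c ^ 3 = 1 := by
  obtain ⟨φ, e⟩ := h.exists_emb
  have : rot σ a b c = φ (c3 0 2 4 * c3 1 3 5) := by simp [rot, c3, e]
  rw [this, ← map_pow, show (c3 0 2 4 * c3 1 3 5 : Perm (Fin 6)) ^ 3 = 1 by decide, map_one]

theorem rot_tt_cube : (rot σ a b c * tt σ a b) ^ 3 = 1 := by
  obtain ⟨φ, e⟩ := h.exists_emb
  have : rot σ a b c * tt σ a b = φ (c3 0 2 4 * c3 1 3 5 * (swap 0 1 * swap 2 3)) := by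
    simp [rot, tt, c3, e]
  rw [this, ← map_pow, show (c3 0 2 4 * c3 1 3 5 * (swap 0 1 * swap 2 3) : Perm (Fin 6)) ^ 3 = 1 by
    decide, map_one]

theorem rot_apply : rot σ a b c a = b ∧ rot σ a b c b = c ∧ rot σ a b c c = a := by
  have := sq_apply h.sq a; have := sq_apply h.sq b; have := sq_apply h.sq c
  obtain ⟨sq, _, _, _, _, _, _, _, _, _⟩ := h
  simp only [rot, c3, Perm.mul_apply, swap_apply_def]
  grind

theorem tt_mul : tt σ b c * (tt σ a b)⁻¹ = tt σ a c := by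
  have := sq_apply h.sq a; have := sq_apply h.sq b; have := sq_apply h.sq c
  obtain ⟨sq, _, _, _, _, _, _, _, _, _⟩ := h
  rw [mul_inv_eq_iff_eq_mul]
  ext z; simp only [tt, Perm.mul_apply, swap_apply_def]; grind

end Blk3

theorem fix_of_comm_c3 {τ : Perm Ω} (hτ : τ * τ = 1) {a b c : Ω} (hab : a ≠ b) (hac : a ≠ c)
    (hbc : b ≠ c) (h : Commute τ (c3 a b c)) : τ a = a := by
  have e : ∀ z, τ (c3 a b c z) = c3 a b c (τ z) := fun z => by
    rw [← Perm.mul_apply, h.eq, Perm.mul_apply]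
  have e1 := e a
  have := sq_apply hτ a; have := sq_apply hτ b
  simp only [c3, Perm.mul_apply, swap_apply_def] at e1
  grind

omit [DecidableEq Ω] in
theorem blk3_of_cube {τ η : Perm Ω} (hτ : τ * τ = 1) (h : Commute τ η) (h3 : η ^ 3 = 1) {p : Ω}
    (hp : τ p ≠ p) (hη : η p ≠ p) : Blk3 τ p (η p) (η (η p)) := by
  have e : ∀ z, τ (η z) = η (τ z) := fun z => by rw [← Perm.mul_apply, h.eq, Perm.mul_apply]
  have e3 : ∀ z, η (η (η z)) = z := fun z => by
    simpa [pow_succ] using congrArg (fun f : Perm Ω => f z) h3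
  have e2 := sq_apply hτ
  have i := η.injective
  refine ⟨hτ, hp, ?_, ?_, hη.symm, ?_, ?_, ?_, ?_, ?_⟩
  · rw [e]; exact i.ne hp
  · rw [e, e]; exact i.ne (i.ne hp)
  · intro h1; apply hη; rw [h1, e3]; exact h1
  · exact i.ne hη.symm
  · intro h1; apply hη
    have : η (η p) = p := by rw [← h1, ← e, ← h1, e2]
    have h5 := e3 p
    rwa [this] at h5
  · intro h1; apply hη
    have h2 : τ (η (η p)) = p := by rw [← h1, e2]
    rw [e, e, h1, e3] at h2
    exact h2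
  · rw [e]; intro h1; apply hη
    have h1 := i h1
    have : η (η p) = p := by rw [← h1, ← e, ← h1, e2]
    have h5 := e3 p
    rwa [this] at h5

variable [Fintype Ω]

theorem exists_four_fixed {σ : Perm Ω} (h : σ.support.card + 3 < Fintype.card Ω) :
    ∃ a b c d : Ω, σ a = a ∧ σ b = b ∧ σ c = c ∧ σ d = d ∧ a ≠ b ∧ a ≠ c ∧ a ≠ d ∧ b ≠ c ∧
      b ≠ d ∧ c ≠ d := by
  have : 3 < (σ.supportᶜ).card := by rw [Finset.card_compl]; omega
  obtain ⟨a, b, c, d, h1, h2, h3, h4, h5⟩ := Finset.three_lt_card_iff.1 this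
  simp only [Finset.mem_compl, notMem_support] at h1 h2 h3 h4
  exact ⟨a, b, c, d, h1, h2, h3, h4, h5⟩

theorem card_lt_of_four_fixed {σ : Perm Ω} {a b c d : Ω} (ha : σ a = a) (hb : σ b = b)
    (hc : σ c = c) (hd : σ d = d) (h1 : a ≠ b) (h2 : a ≠ c) (h3 : a ≠ d) (h4 : b ≠ c) (h5 : b ≠ d)
    (h6 : c ≠ d) : σ.support.card + 3 < Fintype.card Ω := by
  have : 3 < (σ.supportᶜ).card := Finset.three_lt_card_iff.2
    ⟨a, b, c, d, by simpa, by simpa, by simpa, by simpa, h1, h2, h3, h4, h5, h6⟩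
  rw [Finset.card_compl] at this
  omega

theorem exists_supp_notMem {σ : Perm Ω} (s : Finset Ω) (h : s.card < σ.support.card) :
    ∃ c, σ c ≠ c ∧ c ∉ s := by
  obtain ⟨c, h1, h2⟩ := Finset.exists_mem_notMem_of_card_lt_card h
  exact ⟨c, mem_support.1 h1, h2⟩

theorem exists_snd {σ : Perm Ω} (h : 2 < σ.support.card) (a : Ω) :
    ∃ b, σ b ≠ b ∧ a ≠ b ∧ σ a ≠ b := by
  obtain ⟨b, h1, h2⟩ := exists_supp_notMem (σ := σ) {a, σ a} (Finset.card_le_two.trans_lt h)
  simp only [Finset.mem_insert, Finset.mem_singleton, not_or] at h2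
  exact ⟨b, h1, Ne.symm h2.1, Ne.symm h2.2⟩

theorem exists_blk3 {σ : Perm Ω} (hσ : σ * σ = 1) (h : 4 < σ.support.card) {a b : Ω}
    (ha : σ a ≠ a) (hb : σ b ≠ b) (hab : a ≠ b) (hab' : σ a ≠ b) : ∃ c, Blk3 σ a b c := by
  obtain ⟨c, h1, h2⟩ := exists_supp_notMem (σ := σ) {a, σ a, b, σ b}
    (Finset.card_le_four.trans_lt h)
  simp only [Finset.mem_insert, Finset.mem_singleton, not_or] at h2
  exact ⟨c, hσ, ha, hb, h1, hab, Ne.symm h2.1, Ne.symm h2.2.2.1, hab', Ne.symm h2.2.1,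
    Ne.symm h2.2.2.2⟩

theorem exists_blk3' {σ : Perm Ω} (hσ : σ * σ = 1) (h : 4 < σ.support.card) {a : Ω}
    (ha : σ a ≠ a) : ∃ b c, Blk3 σ a b c := by
  obtain ⟨b, h1, h2, h3⟩ := exists_snd (σ := σ) (by omega) a
  exact ⟨b, exists_blk3 hσ h ha h1 h2 h3⟩

theorem exists_blk3'' {σ : Perm Ω} (hσ : σ * σ = 1) (h : 4 < σ.support.card) :
    ∃ a b c, Blk3 σ a b c := by
  obtain ⟨a, ha, -⟩ := exists_supp_notMem (σ := σ) ∅ (by rw [Finset.card_empty]; omega)
  exact ⟨a, exists_blk3' hσ h ha⟩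

/-- below degree 12, an element of order 3 commuting with `ρ` fixes what `ρ ^ 2` moves -/
theorem fix_of_comm_four (hc : Fintype.card Ω ≤ 11) {ρ η : Perm Ω} (h4 : (ρ * ρ) * (ρ * ρ) = 1)
    (h3 : η ^ 3 = 1) (h : Commute ρ η) {p : Ω} (hp : (ρ * ρ) p ≠ p) : η p = p := by
  by_contra hη
  have h4' : ρ ^ 4 = 1 := by rw [← h4]; simp only [pow_succ, pow_zero, one_mul, mul_assoc]
  have e12 : Function.IsPeriodicPt (ρ * η) 12 p := by
    rw [Function.IsPeriodicPt, Function.IsFixedPt, iterate_eq_pow, h.mul_pow,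
      show 12 = 4 * 3 from rfl, pow_mul, h4', mul_comm 4, pow_mul, h3]
    simp
  have e6 : ¬ Function.IsPeriodicPt (ρ * η) 6 p := by
    rw [Function.IsPeriodicPt, Function.IsFixedPt, iterate_eq_pow, h.mul_pow,
      show 6 = 3 * 2 from rfl, pow_mul η, h3, show 3 * 2 = 4 + 2 from rfl, pow_add, h4', pow_two]
    simpa using hp
  have e4 : ¬ Function.IsPeriodicPt (ρ * η) 4 p := by
    rw [Function.IsPeriodicPt, Function.IsFixedPt, iterate_eq_pow, h.mul_pow, h4',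
      show 4 = 3 + 1 from rfl, pow_add, h3]
    simpa using hη
  rw [Function.isPeriodicPt_iff_minimalPeriod_dvd] at e12 e6 e4
  have := Function.minimalPeriod_le_card (f := ρ * η) (x := p)
  generalize Function.minimalPeriod (⇑(ρ * η)) p = m at *
  have hm : m ≤ 11 := by omega
  interval_cases m <;> omega

end Perm

/-- `π` maps `C(t)` to the symmetric group with kernel `C(L)`, `L` is a double cover of the
alternating group with centre `⟨t⟩`, and `C(L)` is tightly embedded -/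
structure SCov {G Ω : Type*} [Group G] [Fintype Ω] [DecidableEq Ω] (t : G) (L : Subgroup G)
    (π : G → Perm Ω) : Prop where
  tL : t ∈ L
  cen : ∀ {g : G}, g ∈ L → Commute g t
  cov : Cov (⟨t, tL⟩ : L) (fun g => π g)
  norm : ∀ {g k : G}, Commute g t → k ∈ L → g * k * g⁻¹ ∈ L
  mul : ∀ {g h : G}, Commute g t → Commute h t → π (g * h) = π g * π h
  kerK : ∀ {g : G}, Commute g t → (π g = 1 ↔ g ∈ centralizer (L : Set G))
  tight : ∀ {r g : G}, r ∈ centralizer (L : Set G) → orderOf r = 2 →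
    g * r * g⁻¹ ∈ centralizer (L : Set G) → Commute g t

namespace SCov
variable {G Ω : Type*} [Group G] [Fintype Ω] [DecidableEq Ω] {t : G} {L : Subgroup G}
  {π : G → Perm Ω} (h : SCov t L π)
include h

theorem cL (g : L) : Commute g (⟨t, h.tL⟩ : L) := Subtype.ext (h.cen g.2).eq

theorem sq : t * t = 1 := congrArg Subtype.val h.cov.sq

theorem ne : t ≠ 1 := fun e => h.cov.ne (Subtype.ext e)

theorem orderOf_t : orderOf t = 2 := orderOf_eq_prime (by rw [pow_two, h.sq]) h.ne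

theorem inv_t : t⁻¹ = t := inv_eq_of_mul_eq_one_right h.sq

theorem map_t : π t = 1 := h.cov.map_t

theorem even {g : G} (hg : g ∈ L) : sign (π g) = 1 := h.cov.even (h.cL ⟨g, hg⟩)

theorem surj {σ : Perm Ω} (hσ : sign σ = 1) : ∃ g ∈ L, π g = σ := by
  obtain ⟨g, -, e⟩ := h.cov.surj σ hσ
  exact ⟨g, g.2, e⟩

theorem ker {g : G} (hg : g ∈ L) (e : π g = 1) : g = 1 ∨ g = t :=
  (h.cov.ker (h.cL ⟨g, hg⟩) e).imp (congrArg Subtype.val) (congrArg Subtype.val)

theorem dbl {g : G} (hg : g ∈ L) {a b c d : Ω} (h1 : a ≠ b) (h2 : c ≠ d) (h3 : a ≠ c) (h4 : a ≠ d)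
    (h5 : b ≠ c) (h6 : b ≠ d) (e : π g = swap a b * swap c d) : g * g = t :=
  congrArg Subtype.val (h.cov.dbl (h.cL ⟨g, hg⟩) h1 h2 h3 h4 h5 h6 e)

theorem tK : t ∈ centralizer (L : Set G) := mem_centralizer_iff.2 fun _ hg => (h.cen hg).eq

theorem cenK {k : G} (hk : k ∈ centralizer (L : Set G)) : Commute k t :=
  (mem_centralizer_iff.1 hk t h.tL).symm

theorem commK {k g : G} (hk : k ∈ centralizer (L : Set G)) (hg : g ∈ L) : Commute k g :=
  have _ := h
  (mem_centralizer_iff.1 hk g hg).symm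

theorem map_one : π 1 = 1 := h.cov.map_one

theorem map_inv {g : G} (hg : Commute g t) : π g⁻¹ = (π g)⁻¹ := by
  rw [eq_inv_iff_mul_eq_one, ← h.mul hg.inv_left hg, inv_mul_cancel, h.map_one]

theorem map_pow {g : G} (hg : Commute g t) (n : ℕ) : π (g ^ n) = π g ^ n := by
  induction n with
  | zero => simpa using h.map_one
  | succ n ih => rw [pow_succ, h.mul (hg.pow_left n) hg, ih, pow_succ]

theorem map_conj {g k : G} (hg : Commute g t) (hk : Commute k t) :
    π (g * k * g⁻¹) = π g * π k * (π g)⁻¹ := by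
  rw [h.mul (hg.mul_left hk) hg.inv_left, h.mul hg hk, h.map_inv hg]

theorem map_comm {g k : G} (hg : Commute g t) (hk : Commute k t) (e : Commute g k) :
    Commute (π g) (π k) := by
  rw [Commute, SemiconjBy, ← h.mul hg hk, e.eq, h.mul hk hg]

theorem eq_or {g k : G} (hg : g ∈ L) (hk : k ∈ L) (e : π g = π k) : g = k ∨ g = k * t :=
  (h.cov.eq_or (h.cL ⟨g, hg⟩) (h.cL ⟨k, hk⟩) e).imp (congrArg Subtype.val) (congrArg Subtype.val)

theorem exists_lift_odd {σ : Perm Ω} {m : ℕ} (hm : Odd m) (h1 : σ ^ m = 1) :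
    ∃ g ∈ L, π g = σ ∧ g ^ m = 1 := by
  obtain ⟨g, -, e1, e2⟩ := h.cov.exists_lift_odd hm h1
  exact ⟨g, g.2, e1, congrArg Subtype.val e2⟩

theorem conj_or {g k : G} (hg : Commute g t) (hk : k ∈ L) (e : Commute (π g) (π k)) :
    g * k * g⁻¹ = k ∨ g * k * g⁻¹ = k * t :=
  h.eq_or (h.norm hg hk) hk (by rw [h.map_conj hg (h.cen hk), e.eq]; group)

theorem comm_of_odd {g k : G} (hg : Commute g t) (hk : k ∈ L) (e : Commute (π g) (π k))
    {m : ℕ} (hm : Odd m) (h1 : k ^ m = 1) : Commute g k := by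
  rcases h.conj_or hg hk e with h2 | h2
  · exact mul_inv_eq_iff_eq_mul.1 h2
  · have h3 : (g * k * g⁻¹) ^ m = 1 := by rw [conj_pow, h1]; group
    obtain ⟨j, rfl⟩ := hm
    rw [h2, (h.cen hk).mul_pow, h1, one_mul, pow_succ, pow_mul, pow_two, h.sq, one_pow,
      one_mul] at h3
    exact absurd h3 h.ne

theorem comm_of_eq {g k k' : G} (hg : Commute g t) (hk : k ∈ L) (hk' : k' ∈ L)
    (e : π k = π k') (hc : Commute g k') : Commute g k := by
  rcases h.eq_or hk hk' e with rfl | rfl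
  · exact hc
  · exact hc.mul_right hg

theorem exists_c3 {a b c : Ω} (hab : a ≠ b) (hac : a ≠ c) (hbc : b ≠ c) :
    ∃ y ∈ L, π y = c3 a b c ∧ y ^ 3 = 1 :=
  h.exists_lift_odd (by decide) (by
    rw [← (isThreeCycle_c3 hab hac hbc).orderOf, pow_orderOf_eq_one])

theorem comm_dbl {g k : G} (hg : Commute g t) (hk : k ∈ L) {a b c d : Ω} (h1 : a ≠ b)
    (h2 : c ≠ d) (h3 : a ≠ c) (h5 : b ≠ c) (h6 : b ≠ d)
    (e : π k = swap a b * swap c d) (fa : π g a = a) (fb : π g b = b) (fc : π g c = c)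
    (fd : π g d = d) : Commute g k := by
  obtain ⟨y, y1, y2, y3⟩ := h.exists_c3 h1 h3 h5
  obtain ⟨z, z1, z2, z3⟩ := h.exists_c3 h5 h6 h2
  have cy : Commute g y := h.comm_of_odd hg y1 (by
    rw [y2]; exact mul_inv_eq_iff_eq_mul.1 (by rw [conj_c3, fa, fb, fc])) (by decide) y3
  have cz : Commute g z := h.comm_of_odd hg z1 (by
    rw [z2]; exact mul_inv_eq_iff_eq_mul.1 (by rw [conj_c3, fb, fc, fd])) (by decide) z3
  refine h.comm_of_eq hg hk (L.mul_mem y1 z1) ?_ (cy.mul_right cz)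
  rw [h.mul (h.cen y1) (h.cen z1), y2, z2, e, c3, c3, mul_assoc, swap_mul_self_mul]

theorem sq_tt {w : G} (hw : w ∈ L) {σ : Perm Ω} {a b c : Ω} (B : Blk3 σ a b c)
    (e : π w = tt σ a b) : w * w = t := by
  have := sq_apply B.sq a; have := sq_apply B.sq b
  obtain ⟨_, _, _, _, _, _, _, _, _, _⟩ := B
  exact h.dbl hw (by grind) (by grind) (by grind) (by grind) (by grind) (by grind) e

/-- the `SL₂(3)` over three 2-cycles of `π x` centralises `x` -/
theorem key {x : G} (hx : Commute x t) {a b c : Ω} (B : Blk3 (π x) a b c) :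
    ∃ y ∈ L, ∃ w ∈ L, y ^ 3 = 1 ∧ π y = rot (π x) a b c ∧ π w = tt (π x) a b ∧
      Commute x y ∧ Commute x w := by
  obtain ⟨y, y1, y2, y3⟩ := h.exists_lift_odd (m := 3) (by decide) B.rot_cube
  obtain ⟨z, z1, z2, z3⟩ := h.exists_lift_odd (m := 3) (by decide) B.rot_tt_cube
  have cy := h.comm_of_odd hx y1 (y2 ▸ B.rot_comm) (by decide) y3
  have cz := h.comm_of_odd hx z1 (z2 ▸ B.rot_comm.mul_right (tt_comm B.sq a b)) (by decide) z3
  refine ⟨y, y1, y⁻¹ * z, L.mul_mem (L.inv_mem y1) z1, y3, y2, ?_, cy, cy.inv_right.mul_right cz⟩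
  rw [h.mul (h.cen y1).inv_left (h.cen z1), h.map_inv (h.cen y1), y2, z2, inv_mul_cancel_left]

theorem conj (g : G) : SCov (g * t * g⁻¹) (L.map (MulAut.conj g).toMonoidHom)
    (fun k => π (g⁻¹ * k * g)) := by
  have mem : ∀ {k : G}, k ∈ L.map (MulAut.conj g).toMonoidHom ↔ g⁻¹ * k * g ∈ L := fun {k} => by
    rw [mem_map_equiv]; simp
  have cm : ∀ {k : G}, Commute k (g * t * g⁻¹) ↔ Commute (g⁻¹ * k * g) t := fun {k} => by
    constructor
    · intro e; show _ = _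
      calc _ = g⁻¹ * (k * (g * t * g⁻¹)) * g := by group
        _ = _ := by rw [e.eq]; group
    · intro e; show _ = _
      calc _ = g * (g⁻¹ * k * g * t) * g⁻¹ := by group
        _ = _ := by rw [e.eq]; group
  have mK : ∀ {k : G}, k ∈ centralizer (L.map (MulAut.conj g).toMonoidHom : Set G) ↔
      g⁻¹ * k * g ∈ centralizer (L : Set G) := fun {k} => by
    simp only [mem_centralizer_iff, SetLike.mem_coe]
    constructor
    · intro e l hl
      have := e (g * l * g⁻¹) (mem.2 (by simpa [mul_assoc] using hl))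
      calc _ = g⁻¹ * (g * l * g⁻¹ * k) * g := by group
        _ = _ := by rw [this]; group
    · intro e l hl
      have := e _ (mem.1 hl)
      calc _ = g * (g⁻¹ * l * g * (g⁻¹ * k * g)) * g⁻¹ := by group
        _ = _ := by rw [this]; group
  have mul' : ∀ {k l : G}, Commute k (g * t * g⁻¹) → Commute l (g * t * g⁻¹) →
      π (g⁻¹ * (k * l) * g) = π (g⁻¹ * k * g) * π (g⁻¹ * l * g) := fun {k l} hk hl => by
    rw [← h.mul (cm.1 hk) (cm.1 hl)]; congr 1; group
  have tt' : g⁻¹ * (g * t * g⁻¹) * g = t := by group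
  refine ⟨mem.2 (by rw [tt']; exact h.tL), fun hk => cm.2 (h.cen (mem.1 hk)), ⟨?_, ?_, ?_, ?_, ?_,
    ?_, ?_, ?_⟩, fun {k l} hk hl => mem.2 ?_, mul', fun hk => (h.kerK (cm.1 hk)).trans mK.symm,
    fun {r k} hr r2 hk => cm.2 (h.tight (mK.1 hr) ?_ ?_)⟩
  · apply Subtype.ext
    show g * t * g⁻¹ * (g * t * g⁻¹) = 1
    calc _ = g * (t * t) * g⁻¹ := by group
      _ = 1 := by rw [h.sq]; group
  · intro e
    have : g * t * g⁻¹ = 1 := congrArg Subtype.val e
    exact h.ne (by simpa using this)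
  · intro k l _ _
    exact mul' (cm.2 (h.cen (mem.1 k.2))) (cm.2 (h.cen (mem.1 l.2)))
  · intro k _; exact h.even (mem.1 k.2)
  · intro σ hσ
    obtain ⟨k, hk, e⟩ := h.surj hσ
    refine ⟨⟨g * k * g⁻¹, mem.2 (by simpa [mul_assoc] using hk)⟩,
      Subtype.ext (cm.2 (h.cen (by simpa [mul_assoc] using hk))).eq, ?_⟩
    simpa [mul_assoc] using e
  · intro k _ e
    rcases h.ker (mem.1 k.2) e with e1 | e1
    · left; apply Subtype.ext
      show (k : G) = 1
      rw [show (k : G) = g * (g⁻¹ * k * g) * g⁻¹ by group, e1]; group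
    · right; apply Subtype.ext; show _ = g * t * g⁻¹; rw [← e1]; group
  · show π (g⁻¹ * (g * t * g⁻¹) * g) = 1
    rw [tt', h.map_t]
  · intro k _ a b c d h1 h2 h3 h4 h5 h6 e
    apply Subtype.ext
    show (k : G) * k = g * t * g⁻¹
    rw [← h.dbl (mem.1 k.2) h1 h2 h3 h4 h5 h6 e]; group
  · have := h.norm (cm.1 hk) (mem.1 hl)
    convert this using 1; group
  · rw [← r2, show g⁻¹ * r * g = g⁻¹ * r * g⁻¹⁻¹ by group]
    exact (MulAut.conj g⁻¹).orderOf_eq r
  · convert mK.1 hk using 1; group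

end SCov

end Cfsg.Agent.LyMc
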