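import Cfsg.Agent.LyMc.Std1
import Cfsg.Agent.Transfer.ThompsonTransfer
import Cfsg.Agent.Block.ZStar

/-!
# Standard subgroups `2.A_n`, `8 ≤ n ≤ 11`: `C(t) = L`
-/

set_option autoImplicit false

namespace Cfsg.Agent.LyMc

open Equiv Equiv.Perm Subgroup Cfsg.Agent.KSG

theorem Blk3.swap {Ω : Type*} {σ : Perm Ω} {a b c : Ω} (h : Blk3 σ a b c) : Blk3 σ a c b :=
  ⟨h.sq, h.ha, h.hc, h.hb, h.ac, h.ab, h.bc.symm, h.ac', h.ab', fun e => h.bc' (by
    rw [← e, sq_apply h.sq])⟩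

theorem moved_of_comm {Ω : Type*} {σ ρ : Perm Ω} (h : Commute σ ρ) {z : Ω} (hz : σ z ≠ z) :
    σ (ρ z) ≠ ρ z := by
  rw [← Perm.mul_apply, h.eq, Perm.mul_apply]; exact ρ.injective.ne hz

/-- two commuting standard involutions -/
structure SPair {G Ω : Type*} [Group G] [Fintype Ω] [DecidableEq Ω] (t : G) (L : Subgroup G)
    (π : G → Perm Ω) (x : G) (L' : Subgroup G) (π' : G → Perm Ω) : Prop where
  h : SCov t L π
  h' : SCov x L' π'
  c : Commute x t
  ti : ∀ {r : G}, r ∈ centralizer (L : Set G) → r ∈ centralizer (L' : Set G) → r * r = 1 → r = 1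

namespace SPair
variable {G Ω : Type*} [Group G] [Fintype Ω] [DecidableEq Ω] {t x : G} {L L' : Subgroup G}
  {π π' : G → Perm Ω} (P : SPair t L π x L' π')
include P

theorem symm : SPair x L' π' t L π := ⟨P.h', P.h, P.c.symm, fun a b => P.ti b a⟩

theorem hx : π x ≠ 1 := fun e => P.h'.ne (P.ti ((P.h.kerK P.c).1 e) P.h'.tK P.h'.sq)

theorem ne : x ≠ t := fun e => P.hx (e ▸ P.h.map_t)

theorem sq : π x * π x = 1 := by rw [← P.h.mul P.c P.c, P.h'.sq, P.h.map_one]

theorem aux {y : G} (hy : y ∈ L) (y3 : y ^ 3 = 1) (cy : Commute x y)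
    (fy : ∀ z, π x z ≠ z → π y z = z) {p : Ω} (hp : π' t p ≠ p) : π' y p = p := by
  by_contra hη
  have B := blk3_of_cube P.symm.sq (P.h'.map_comm P.c.symm cy.symm (P.h.cen hy).symm)
    (by rw [← P.h'.map_pow cy.symm, y3, P.h'.map_one]) hp hη
  obtain ⟨-, -, w, hw, -, -, e, -, cw⟩ := P.h'.key P.c.symm B
  have hk : y * w * y⁻¹ * w⁻¹ ∈ L' := L'.mul_mem (P.h'.norm cy.symm hw) (L'.inv_mem hw)
  have wx := P.h'.cen hw
  have yt := P.h.cen hy
  have e2 := P.h'.sq_tt hk B.swap (by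
    rw [P.h'.mul ((cy.symm.mul_left wx).mul_left cy.symm.inv_left) wx.inv_left,
      P.h'.map_conj cy.symm wx, P.h'.map_inv wx, e,
      conj_tt (P.h'.map_comm cy.symm P.c.symm yt), B.tt_mul])
  have kt : Commute (y * w * y⁻¹ * w⁻¹) t :=
    ((yt.mul_left cw.symm).mul_left yt.inv_left).mul_left cw.symm.inv_left
  have cσ := P.h.map_comm P.c cw.symm wx.symm
  have fk : ∀ z, π x z ≠ z → π (y * w * y⁻¹ * w⁻¹) z = z := fun z hz => by
    rw [P.h.mul ((yt.mul_left cw.symm).mul_left yt.inv_left) cw.symm.inv_left,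
      P.h.map_conj yt cw.symm, P.h.map_inv cw.symm]
    have h1 := fy _ (moved_of_comm cσ.inv_right hz)
    rw [Perm.mul_apply, Perm.mul_apply, Perm.mul_apply, Perm.inv_eq_iff_eq.2 h1.symm,
      ← Perm.mul_apply _ _ z, mul_inv_cancel, Perm.one_apply, fy z hz]
  obtain ⟨z, hz⟩ : ∃ z, π x z ≠ z := by
    by_contra hc; push Not at hc; exact P.hx (Equiv.ext hc)
  apply hz
  rw [← e2, P.h.mul kt kt, Perm.mul_apply, fk z hz, fk z hz]

theorem few_fixed : Fintype.card Ω ≤ (π x).support.card + 3 := by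
  by_contra hc
  obtain ⟨a, b, c, d, fa, fb, fc, fd, h1, h2, h3, h4, h5, h6⟩ := exists_four_fixed (not_le.1 hc)
  obtain ⟨y, y1, y2, y3⟩ := P.h.exists_c3 h1 h2 h4
  obtain ⟨z, z1, z2, z3⟩ := P.h.exists_c3 h4 h5 h6
  have cy : Commute x y := P.h.comm_of_odd P.c y1 (by
    rw [y2]; exact mul_inv_eq_iff_eq_mul.1 (by rw [conj_c3, fa, fb, fc])) (by decide) y3
  have cz : Commute x z := P.h.comm_of_odd P.c z1 (by
    rw [z2]; exact mul_inv_eq_iff_eq_mul.1 (by rw [conj_c3, fb, fc, fd])) (by decide) z3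
  have e := P.h.dbl (L.mul_mem y1 z1) h1 h6 h2 h3 h4 h5 (by
    rw [P.h.mul (P.h.cen y1) (P.h.cen z1), y2, z2, c3, c3, mul_assoc, swap_mul_self_mul])
  have fy := fun p hp => P.aux y1 y3 cy (fun u hu => by
    rw [y2]; exact c3_apply_of_ne (by grind) (by grind) (by grind)) (p := p) hp
  have fz := fun p hp => P.aux z1 z3 cz (fun u hu => by
    rw [z2]; exact c3_apply_of_ne (by grind) (by grind) (by grind)) (p := p) hp
  obtain ⟨p, hp⟩ : ∃ p, π' t p ≠ p := by
    by_contra hc; push Not at hc; exact P.symm.hx (Equiv.ext hc)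
  apply hp
  have cyz := (cy.mul_right cz).symm
  conv_lhs => rw [← e, P.h'.mul cyz cyz, P.h'.mul cy.symm cz.symm]
  simp only [Perm.mul_apply, fy p hp, fz p hp]

theorem even (h8 : 8 ≤ Fintype.card Ω) : sign (π' t) = 1 := by
  have := P.few_fixed
  obtain ⟨a, b, c, B⟩ := exists_blk3'' P.sq (by omega)
  obtain ⟨-, -, w, hw, -, -, e, -, cw⟩ := P.h.key P.c B
  rw [← P.h.sq_tt hw B e, P.h'.mul cw.symm cw.symm, map_mul, Int.units_mul_self]

theorem inv_eq (h8 : 8 ≤ Fintype.card Ω) {r : G} (hr : r ∈ centralizer (L : Set G))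
    (cr : Commute r x) (r2 : r * r = 1) : r = 1 ∨ r = t := by
  have hτ := P.symm.few_fixed
  have main : ∀ {r : G}, r ∈ centralizer (L : Set G) → Commute r x → r * r = 1 → r ≠ 1 →
      (π' r * π' r = 1) ∧ (∀ η : Perm Ω, η ^ 3 = 1 → Commute (π' r) η → Commute (π' t) η) ∧
      Fintype.card Ω ≤ (π' r).support.card + 3 := by
    intro r hr cr r2 r1
    have h1 : ∀ η : Perm Ω, η ^ 3 = 1 → Commute (π' r) η → Commute (π' t) η := by
      intro η h3 hc
      obtain ⟨y, y1, rfl, y3⟩ := P.h'.exists_lift_odd (m := 3) (by decide) h3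
      have c1 := P.h'.comm_of_odd cr y1 hc (by decide) y3
      have c2 := P.h.tight (g := y) hr (orderOf_eq_prime (by rw [pow_two, r2]) r1)
        (by rw [← c1.eq, mul_inv_cancel_right]; exact hr)
      exact P.h'.map_comm P.c.symm (P.h'.cen y1) c2.symm
    refine ⟨by rw [← P.h'.mul cr cr, r2, P.h'.map_one], h1, ?_⟩
    by_contra hc
    obtain ⟨a, b, c, d, fa, fb, fc, fd, h1', h2, h3, h4, h5, h6⟩ := exists_four_fixed (not_le.1 hc)
    have h7 : ∀ a b c, π' r a = a → π' r b = b → π' r c = c → a ≠ b → a ≠ c → b ≠ c →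
        π' t a = a := fun a b c fa fb fc h1' h2 h4 =>
      fix_of_comm_c3 P.symm.sq h1' h2 h4 (h1 _ (by
        rw [← (isThreeCycle_c3 h1' h2 h4).orderOf, pow_orderOf_eq_one])
        (mul_inv_eq_iff_eq_mul.1 (by rw [conj_c3, fa, fb, fc])))
    have := card_lt_of_four_fixed (h7 a b c fa fb fc h1' h2 h4) (h7 b a c fb fa fc h1'.symm h4 h2)
      (h7 c a b fc fa fb h2.symm h4.symm h1') (h7 d a b fd fa fb h3.symm h5.symm h1')
      h1' h2 h3 h4 h5 h6
    omega
  by_contra hne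
  push Not at hne
  have rt := P.h.cenK hr
  obtain ⟨a1, a2, a3⟩ := main hr cr r2 hne.1
  obtain ⟨-, -, b3⟩ := main (r := r * t) (mul_mem hr P.h.tK) (cr.mul_left P.c.symm)
    (by rw [mul_assoc, ← mul_assoc t, ← rt.eq, mul_assoc, P.h.sq, mul_one, r2])
    (fun e => hne.2 (by rw [mul_eq_one_iff_eq_inv.1 e, P.h.inv_t]))
  rw [P.h'.mul cr P.c.symm] at b3
  have cρ := P.h'.map_comm cr P.c.symm rt
  set ρ := π' r
  set τ := π' t
  have six : ∀ {a b c : Ω} (B : Blk3 ρ a b c) {υ : Perm Ω}, Commute υ ρ → Commute υ (rot ρ a b c) →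
      υ a = a → υ.support.card + 3 < Fintype.card Ω := by
    intro a b c B υ c1 c2 fa
    have e1 : ∀ z, υ z = z → υ (ρ z) = ρ z := fun z hz => by
      rw [← Perm.mul_apply, c1.eq, Perm.mul_apply, hz]
    have e2 : ∀ z, υ z = z → υ (rot ρ a b c z) = rot ρ a b c z := fun z hz => by
      rw [← Perm.mul_apply, c2.eq, Perm.mul_apply, hz]
    have fb := e2 a fa
    rw [B.rot_apply.1] at fb
    have := sq_apply B.sq a; have := sq_apply B.sq b
    obtain ⟨_, _, _, _, _, _, _, _, _, _⟩ := B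
    exact card_lt_of_four_fixed fa fb (e1 a fa) (e1 b fb) (by grind) (by grind) (by grind)
      (by grind) (by grind) (by grind)
  obtain ⟨a, ha, -⟩ := exists_supp_notMem (σ := ρ) ∅ (by rw [Finset.card_empty]; omega)
  by_cases h1 : τ a = a
  · obtain ⟨b, c, B⟩ := exists_blk3' a1 (by omega) ha
    have := six B cρ.symm (a2 _ B.rot_cube B.rot_comm) h1
    omega
  by_cases h2 : τ a = ρ a
  · obtain ⟨b, c, B⟩ := exists_blk3' a1 (by omega) ha
    have := six B ((Commute.refl ρ).mul_left cρ.symm)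
      (B.rot_comm.mul_left (a2 _ B.rot_cube B.rot_comm))
      (by rw [Perm.mul_apply, h2, sq_apply a1])
    omega
  obtain ⟨c, B⟩ := exists_blk3 a1 (by omega) ha (moved_of_comm cρ ha) (Ne.symm h1) (Ne.symm h2)
  have := congrArg (fun f : Perm Ω => f a) (a2 _ B.rot_cube B.rot_comm).eq
  simp only [Perm.mul_apply, B.rot_apply.1, B.rot_apply.2.1] at this
  exact B.ac ((sq_apply P.symm.sq a).symm.trans this)

theorem no_four (h8 : 8 ≤ Fintype.card Ω) (h11 : Fintype.card Ω ≤ 11) {r : G}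
    (hr : r ∈ centralizer (L : Set G)) (cr : Commute r x) : r * r ≠ t := by
  intro r2
  have := P.few_fixed
  obtain ⟨a, b, c, B⟩ := exists_blk3'' P.sq (by omega)
  obtain ⟨y, hy, w, hw, y3, ey, e, cy, cw⟩ := P.h.key P.c B
  have yt := P.h.cen hy
  have wt := P.h.cen hw
  have hk : y * w * y⁻¹ * w⁻¹ ∈ L := L.mul_mem (P.h.norm yt hw) (L.inv_mem hw)
  have e2 := P.h.sq_tt hk B.swap (by
    rw [P.h.mul ((yt.mul_left wt).mul_left yt.inv_left) wt.inv_left,
      P.h.map_conj yt wt, P.h.map_inv wt, e, ey, conj_tt B.rot_comm.symm, B.rot_apply.1,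
      B.rot_apply.2.1, B.tt_mul])
  have kx : Commute (y * w * y⁻¹ * w⁻¹) x :=
    ((cy.symm.mul_left cw.symm).mul_left cy.symm.inv_left).mul_left cw.symm.inv_left
  have eτ : π' r * π' r = π' t := by rw [← P.h'.mul cr cr, r2]
  have fy : ∀ z, π' t z ≠ z → π' y z = z := fun z hz =>
    fix_of_comm_four h11 (ρ := π' r) (by rw [eτ, P.symm.sq])
      (by rw [← P.h'.map_pow cy.symm, y3, P.h'.map_one])
      (P.h'.map_comm cr cy.symm (P.h.commK hr hy)) (by rwa [eτ])
  have cτ := P.h'.map_comm P.c.symm cw.symm wt.symm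
  have fk : ∀ z, π' t z ≠ z → π' (y * w * y⁻¹ * w⁻¹) z = z := fun z hz => by
    rw [P.h'.mul ((cy.symm.mul_left cw.symm).mul_left cy.symm.inv_left) cw.symm.inv_left,
      P.h'.map_conj cy.symm cw.symm, P.h'.map_inv cw.symm]
    have h1 := fy _ (moved_of_comm cτ.inv_right hz)
    rw [Perm.mul_apply, Perm.mul_apply, Perm.mul_apply, Perm.inv_eq_iff_eq.2 h1.symm,
      ← Perm.mul_apply _ _ z, mul_inv_cancel, Perm.one_apply, fy z hz]
  obtain ⟨z, hz⟩ : ∃ z, π' t z ≠ z := by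
    by_contra hc; push Not at hc; exact P.symm.hx (Equiv.ext hc)
  apply hz
  rw [← e2, P.h'.mul kx kx, Perm.mul_apply, fk z hz, fk z hz]

theorem two_elt (h8 : 8 ≤ Fintype.card Ω) (h11 : Fintype.card Ω ≤ 11) (j : ℕ) :
    ∀ {r : G}, r ∈ centralizer (L : Set G) → Commute r x → r ^ 2 ^ j = 1 → r = 1 ∨ r = t := by
  induction j with
  | zero => intro r _ _ e; left; simpa using e
  | succ j ih =>
    intro r hr cr e
    rcases ih (mul_mem hr hr) (cr.mul_left cr) (by rw [← pow_two, ← pow_mul, ← pow_succ', e])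
      with h1 | h1
    · exact P.inv_eq h8 hr cr h1
    · exact absurd h1 (P.no_four h8 h11 hr cr)

theorem mem (h8 : 8 ≤ Fintype.card Ω) (h11 : Fintype.card Ω ≤ 11) : x ∈ L := by
  obtain ⟨l, hl, e⟩ := P.h.surj (P.symm.even h8)
  have lt := P.h.cen hl
  have hk : l⁻¹ * x ∈ centralizer (L : Set G) := (P.h.kerK (lt.inv_left.mul_left P.c)).1 (by
    rw [P.h.mul lt.inv_left P.c, P.h.map_inv lt, e, inv_mul_cancel])
  have c1 := P.h.commK hk hl
  have c2 : Commute l x := by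
    have := (Commute.refl l).mul_right c1.symm
    rwa [mul_inv_cancel_left] at this
  have h4 : l ^ 4 = 1 := by
    rcases P.h.ker (L.mul_mem hl hl) (by rw [P.h.mul lt lt, e, P.sq]) with h1 | h1
    · rw [show 4 = 2 * 2 from rfl, pow_mul, pow_two l, h1, one_pow]
    · rw [show 4 = 2 * 2 from rfl, pow_mul, pow_two l, h1, pow_two, P.h.sq]
  rcases P.two_elt h8 h11 2 hk (c2.inv_left.mul_left (Commute.refl x)) (by
    rw [c2.inv_left.mul_pow, inv_pow, show 2 ^ 2 = 4 from rfl, h4, show 4 = 2 * 2 from rfl, pow_mul,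
      pow_two x, P.h'.sq]; simp) with h1 | h1
  · rw [inv_mul_eq_one.1 h1] at hl; exact hl
  · rw [inv_mul_eq_iff_eq_mul.1 h1]; exact L.mul_mem hl P.h.tL

theorem twoK (h8 : 8 ≤ Fintype.card Ω) (h11 : Fintype.card Ω ≤ 11) {j : ℕ} {r : G}
    (hr : r ∈ centralizer (L : Set G)) (e : r ^ 2 ^ j = 1) : r = 1 ∨ r = t :=
  P.two_elt h8 h11 j hr (P.h.commK hr (P.mem h8 h11)) e

theorem mem_of_two (h8 : 8 ≤ Fintype.card Ω) (h11 : Fintype.card Ω ≤ 11) {j : ℕ} {d : G}
    (hd : Commute d t) (hs : sign (π d) = 1) (e : d ^ 2 ^ j = 1) : d ∈ L := by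
  obtain ⟨l, hl, el⟩ := P.h.surj hs
  have lt := P.h.cen hl
  have hk : l⁻¹ * d ∈ centralizer (L : Set G) := (P.h.kerK (lt.inv_left.mul_left hd)).1 (by
    rw [P.h.mul lt.inv_left hd, P.h.map_inv lt, el, inv_mul_cancel])
  have c1 := P.h.commK hk hl
  have c2 : Commute l d := by
    have := (Commute.refl l).mul_right c1.symm
    rwa [mul_inv_cancel_left] at this
  have h4 : l ^ 2 ^ (j + 1) = 1 := by
    rcases P.h.ker (L.pow_mem hl (2 ^ j)) (by
      rw [P.h.map_pow lt, el, ← P.h.map_pow hd, e, P.h.map_one]) with h1 | h1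
    · rw [pow_succ, pow_mul, h1, one_pow]
    · rw [pow_succ, pow_mul, h1, pow_two, P.h.sq]
  rcases P.twoK h8 h11 (j := j + 1) hk (by
    rw [c2.inv_left.mul_pow, inv_pow, h4, pow_succ, pow_mul, e]; simp) with h1 | h1
  · rw [inv_mul_eq_one.1 h1] at hl; exact hl
  · rw [inv_mul_eq_iff_eq_mul.1 h1]; exact L.mul_mem hl P.h.tL

end SPair

/-- swapping two 2-cycles of `π x` conjugates `x` to `x t` -/
theorem SCov.exists_swap {G Ω : Type*} [Group G] [Fintype Ω] [DecidableEq Ω] {t : G}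
    {L : Subgroup G} {π : G → Perm Ω} (h : SCov t L π) {x : G} (hx : x ∈ L) {a b c : Ω}
    (B : Blk3 (π x) a b c) :
    ∃ u ∈ L, π u = swap a b * swap (π x a) (π x b) ∧ u * x * u⁻¹ = x * t := by
  have s1 := sq_apply B.sq a; have s2 := sq_apply B.sq b
  obtain ⟨φ, e⟩ := B.exists_emb
  obtain ⟨-, -, w, hw, -, -, ew, -, -⟩ := h.key (h.cen hx) B
  have w2 := h.sq_tt hw B ew
  obtain ⟨sq, _, _, _, _, _, _, _, _, _⟩ := B
  obtain ⟨u, hu, eu⟩ := h.surj (σ := swap a b * swap (π x a) (π x b)) (by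
    rw [map_mul, sign_swap (by grind), sign_swap (by grind)]; decide)
  have u2 := h.dbl hu (by grind) (by grind) (by grind) (by grind) (by grind) (by grind) eu
  have uw := h.dbl (L.mul_mem hu hw) (a := a) (b := π x b) (c := b) (d := π x a)
    (by grind) (by grind) (by grind) (by grind) (by grind) (by grind) (by
      rw [h.mul (h.cen hu) (h.cen hw), eu, ew]
      have h1 : swap a b * swap (π x a) (π x b) * tt (π x) a b =
        φ (swap 0 2 * swap 1 3 * (swap 0 1 * swap 2 3)) := by simp [tt, e]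
      have h2 : swap a (π x b) * swap b (π x a) = φ (swap 0 3 * swap 2 1) := by simp [e]
      rw [h1, h2]; congr 1; decide)
  have xt := h.cen hx
  have wt := h.cen hw
  have f : ∀ z, tt (π x) a b z = π x z → π (x * w⁻¹) (π x z) = π x z := fun z hz => by
    rw [h.mul xt wt.inv_left, h.map_inv wt, ew, Perm.mul_apply, Perm.inv_eq_iff_eq.2 hz.symm]
  have c1 := h.comm_dbl (g := x * w⁻¹) (xt.mul_left wt.inv_left) hu (by grind) (by grind)
    (by grind) (by grind) (by grind) eu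
    (by have := f (π x a) (by simp only [tt, Perm.mul_apply, swap_apply_def]; grind); rwa [s1] at this)
    (by have := f (π x b) (by simp only [tt, Perm.mul_apply, swap_apply_def]; grind); rwa [s2] at this)
    (f a (by simp only [tt, Perm.mul_apply, swap_apply_def]; grind))
    (f b (by simp only [tt, Perm.mul_apply, swap_apply_def]; grind))
  refine ⟨u, hu, eu, ?_⟩
  have h3 : u * w * u⁻¹ = w * t := by
    calc u * w * u⁻¹ = (u * w * (u * w)) * w⁻¹ * (u * u)⁻¹ := by group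
      _ = t * w⁻¹ * t := by rw [uw, u2, h.inv_t]
      _ = w * t := by rw [← w2]; group
  calc u * x * u⁻¹ = u * (x * w⁻¹) * u⁻¹ * (u * w * u⁻¹) := by group
    _ = x * t := by rw [← c1.eq, h3]; group

end Cfsg.Agent.LyMc
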