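import Cfsg.Agent.LyMc.Std2
import Cfsg.Agent.S2119

/-!
# Standard subgroups `2.A_n`, `8 ≤ n ≤ 11`: the centraliser of the central involution is `L`
-/

set_option autoImplicit false

namespace Cfsg.Agent.LyMc

open Equiv Equiv.Perm Subgroup Cfsg.Agent.KSG

theorem Blk3.rotate {Ω : Type*} {σ : Perm Ω} {a b c : Ω} (h : Blk3 σ a b c) : Blk3 σ b c a :=
  ⟨h.sq, h.hb, h.hc, h.ha, h.bc, h.ab.symm, h.ac.symm, h.bc', fun e => h.ab' (by
    rw [← e, sq_apply h.sq]), fun e => h.ac' (by rw [← e, sq_apply h.sq])⟩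

theorem comm_swap_of_fix {Ω : Type*} [DecidableEq Ω] {g : Perm Ω} {a b : Ω} (ha : g a = a)
    (hb : g b = b) : Commute g (swap a b) :=
  mul_inv_eq_iff_eq_mul.1 (by rw [conj_swap, ha, hb])

theorem fix_of_odd {Ω : Type*} {η : Perm Ω} {m : ℕ} (hm : Odd m) (h : η ^ m = 1) {a : Ω}
    (h2 : η (η a) = a) : η a = a := by
  obtain ⟨k, rfl⟩ := hm
  have e : ∀ k : ℕ, (η ^ (2 * k)) (η a) = η a := fun k => by
    induction k with
    | zero => simp
    | succ k ih => rw [mul_add, pow_add, Perm.mul_apply, mul_one, pow_two, Perm.mul_apply, h2, ih]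
  rw [← e k, ← Perm.mul_apply, ← pow_succ, h, Perm.one_apply]

theorem mem_cent_conj {G : Type*} [Group G] {L : Subgroup G} {g k : G} :
    k ∈ centralizer (L.map (MulAut.conj g).toMonoidHom : Set G) ↔
      g⁻¹ * k * g ∈ centralizer (L : Set G) := by
  have mem : ∀ {k : G}, k ∈ L.map (MulAut.conj g).toMonoidHom ↔ g⁻¹ * k * g ∈ L := fun {k} => by
    rw [mem_map_equiv]; simp
  simp only [mem_centralizer_iff, SetLike.mem_coe]
  constructor
  · intro e l hl
    have := e (g * l * g⁻¹) (mem.2 (by simpa [mul_assoc] using hl))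
    calc _ = g⁻¹ * (g * l * g⁻¹ * k) * g := by group
      _ = _ := by rw [this]; group
  · intro e l hl
    have := e _ (mem.1 hl)
    calc _ = g * (g⁻¹ * l * g * (g⁻¹ * k * g)) * g⁻¹ := by group
      _ = _ := by rw [this]; group

theorem odd_index_of_fuse {G : Type*} [Group G] [Finite G] {t : G} (h2 : t * t = 1) (h1 : t ≠ 1)
    (h : ∀ y, IsConj t y → Commute y t → y ≠ t → IsConj t (y * t)) :
    Odd (centralizer ({t} : Set G)).index := by
  classical
  have hc : Nat.card (conjugatesOf t) = (Subgroup.centralizer {t}).index := by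
    have h1 : conjugatesOf t = MulAction.orbit (ConjAct G) t := by
      ext g; rw [ConjAct.mem_orbit_conjAct]; exact isConj_comm
    rw [h1, Nat.card_coe_set_eq, ← MulAction.index_stabilizer,
      Subgroup.centralizer_eq_comap_stabilizer]
    exact (Subgroup.index_comap_of_surjective (f := (ConjAct.toConjAct (G := G)).toMonoidHom) _
      ConjAct.toConjAct.surjective).symm
  have ti : t⁻¹ = t := inv_eq_of_mul_eq_one_right h2
  have := Fintype.ofFinite (conjugatesOf t)
  let f : Function.End (conjugatesOf t) := fun y =>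
    if hy : Commute (y : G) t then (if hy' : (y : G) = t then y else ⟨y * t, h y y.2 hy hy'⟩)
    else ⟨t * y * t⁻¹, y.2.trans (isConj_iff.2 ⟨t, rfl⟩)⟩
  have y1 : ∀ y : conjugatesOf t, (y : G) ≠ 1 := fun y e => h1 (by
    have := y.2; rw [e] at this; exact isConj_one_right.1 this.symm)
  have hf : f ^ 2 ^ 1 = 1 := by
    funext y
    apply Subtype.ext
    show (f (f y) : G) = y
    by_cases hy : Commute (y : G) t
    · by_cases hy' : (y : G) = t
      · simp [f, hy']
      · have e1 : Commute ((y : G) * t) t := hy.mul_left (Commute.refl t)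
        have e2 : (y : G) * t ≠ t := fun e => y1 y (by simpa using e)
        simp [f, hy, hy', e1, e2, mul_assoc, h2]
    · have e1 : ¬ Commute (t * (y : G) * t⁻¹) t := fun e => hy (by
        have := ((Commute.refl t).inv_left.mul_left e).mul_left (Commute.refl t)
        simpa [mul_assoc] using this)
      simp only [f, hy, e1, dite_false]
      rw [ti, ← mul_assoc, ← mul_assoc, h2, one_mul, mul_assoc, h2, mul_one]
  have hm := Equiv.Perm.card_fixedPoints_modEq (p := 2) hf
  have h3 : Fintype.card f.fixedPoints = 1 := by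
    rw [Fintype.card_eq_one_iff]
    refine ⟨⟨⟨t, IsConj.refl t⟩, by simp [Function.IsFixedPt, f]⟩, fun ⟨y, hy⟩ => ?_⟩
    apply Subtype.ext; apply Subtype.ext
    have hy := congrArg Subtype.val (Function.mem_fixedPoints_iff.1 hy)
    by_contra hy'
    by_cases hc : Commute (y : G) t
    · simp only [f, hc, hy', dite_true, dite_false] at hy
      exact h1 (by simpa using hy)
    · simp only [f, hc, dite_false] at hy
      exact hc (mul_inv_eq_iff_eq_mul.1 hy).symm
  rw [← hc, Nat.card_eq_fintype_card, Nat.odd_iff]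
  rw [h3] at hm
  exact hm

variable {G Ω : Type*} [Group G] [Fintype Ω] [DecidableEq Ω] {t x : G} {L L' : Subgroup G}
  {π π' : G → Perm Ω}

theorem SPair.oddK (P : SPair t L π x L' π') (h8 : 8 ≤ Fintype.card Ω)
    (h11 : Fintype.card Ω ≤ 11) (hev : ∀ g, Commute g t → sign (π g) = 1) {u : G}
    (hu : u ∈ centralizer (L : Set G)) {m : ℕ} (hm : Odd m) (um : u ^ m = 1) :
    u ∈ centralizer (L' : Set G) := by
  have ux := P.h.commK hu (P.mem h8 h11)
  have tL := P.symm.mem h8 h11
  have hτ := P.symm.few_fixed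
  have sτ := P.symm.sq
  have cm : ∀ d ∈ L', Commute d t → π' d * π' d = 1 → Commute (π' u) (π' d) := by
    intro d hd dt e
    have dx := P.h'.cen hd
    refine P.h'.map_comm ux dx (P.h.commK hu (P.mem_of_two h8 h11 (j := 2) dt (hev d dt) ?_))
    rw [show 2 ^ 2 = 2 * 2 from rfl, pow_mul, pow_two d]
    rcases P.h'.ker (L'.mul_mem hd hd) (by rw [P.h'.mul dx dx, e]) with h1 | h1
    · rw [h1, one_pow]
    · rw [h1, pow_two, P.h'.sq]
  have cτ := P.h'.map_comm P.c.symm ux (P.h.cenK hu).symm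
  have ηm : π' u ^ m = 1 := by rw [← P.h'.map_pow ux, um, P.h'.map_one]
  refine (P.h'.kerK ux).1 (Equiv.ext fun a => ?_)
  set η := π' u
  set τ := π' t
  by_contra hab
  rw [Perm.one_apply] at hab
  have eτ : ∀ z, τ (η z) = η (τ z) := fun z => by rw [← Perm.mul_apply, cτ.eq, Perm.mul_apply]
  have fin : ∀ ρ : Perm Ω, Commute η ρ → ρ a = a → ρ (η a) = η a := fun ρ c e => by
    rw [← Perm.mul_apply, ← c.eq, Perm.mul_apply, e]
  by_cases ha : τ a = a
  · obtain ⟨p, q, r, B⟩ := exists_blk3'' sτ (by omega)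
    obtain ⟨u', hu', e1, e2⟩ := P.h'.exists_swap tL B
    have hb : τ (η a) = η a := by rw [eτ, ha]
    have hc : τ (η (η a)) = η (η a) := by rw [eτ, hb]
    have hac : η (η a) ≠ a := fun e => hab (fix_of_odd hm ηm e)
    have hbc : η (η a) ≠ η a := η.injective.ne hab
    have s1 := sq_apply sτ p; have s2 := sq_apply sτ q; have s3 := sq_apply sτ r
    obtain ⟨-, _, _, _, _, _, _, _, _, _⟩ := B
    obtain ⟨v, hv, ev⟩ := P.h'.surj (σ := swap (η a) (η (η a)) * swap r (τ r)) (by
      rw [map_mul, sign_swap hbc.symm, sign_swap (by grind)]; decide)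
    have v2 : π' v * π' v = 1 := by
      rw [ev, ← pow_two, (comm_swap_of_fix (by rw [swap_apply_def]; grind)
        (by rw [swap_apply_def]; grind)).mul_pow, pow_two, pow_two, swap_mul_self, swap_mul_self,
        mul_one]
    have va : π' v a = a := by rw [ev]; simp only [Perm.mul_apply, swap_apply_def]; grind
    have vb : π' v (η a) = η (η a) := by rw [ev]; simp only [Perm.mul_apply, swap_apply_def]; grind
    rcases P.h'.conj_or (P.h'.cen hv) tL (by
      rw [ev]; exact ((comm_swap_of_fix hb hc).mul_right (swap_comm_sq sτ r)).symm) with h1 | h1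
    · exact hbc (vb.symm.trans (fin _ (cm v hv (mul_inv_eq_iff_eq_mul.1 h1) v2) va))
    · have fu : ∀ z, z ≠ p → z ≠ q → z ≠ τ p → z ≠ τ q → π' u' z = z := fun z _ _ _ _ => by
        rw [e1]; simp only [Perm.mul_apply, swap_apply_def]; grind
      have u2 : π' u' * π' u' = 1 := by
        rw [e1, ← pow_two, (comm_swap_of_fix (by rw [swap_apply_def]; grind)
          (by rw [swap_apply_def]; grind)).mul_pow, pow_two, pow_two, swap_mul_self, swap_mul_self,
          mul_one]
      have cuv : Commute (π' u') (π' v) := by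
        rw [ev]
        exact (comm_swap_of_fix (fu _ (by grind) (by grind) (by grind) (by grind))
          (fu _ (by grind) (by grind) (by grind) (by grind))).mul_right
          (comm_swap_of_fix (fu _ (by grind) (by grind) (by grind) (by grind))
          (fu _ (by grind) (by grind) (by grind) (by grind)))
      have e3 : π' (u'⁻¹ * v) = π' u' * π' v := by
        rw [P.h'.mul (P.h'.cen hu').inv_left (P.h'.cen hv), P.h'.map_inv (P.h'.cen hu'),
          inv_eq_of_mul_eq_one_right u2]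
      have := fin _ (cm _ (L'.mul_mem (L'.inv_mem hu') hv) (by
        show _ = _
        calc _ = u'⁻¹ * (v * t * v⁻¹) * v := by group
          _ = _ := by rw [h1, ← e2]; group) (by
        rw [e3, ← pow_two, cuv.mul_pow, pow_two, pow_two, u2, v2, mul_one])) (by
        rw [e3, Perm.mul_apply, va, fu _ (by grind) (by grind) (by grind) (by grind)])
      rw [e3, Perm.mul_apply, vb, fu _ (by grind) (by grind) (by grind) (by grind)] at this
      exact hbc this
  · obtain ⟨c, B⟩ := exists_blk3 sτ (by omega) ha (moved_of_comm cτ ha) (Ne.symm hab)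
      (fun e => hab (fix_of_odd hm ηm (by rw [← e, ← eτ, ← e, sq_apply sτ])))
    obtain ⟨-, -, w, hw, -, -, e, -, cw⟩ := P.h'.key P.c.symm B.rotate
    have s1 := sq_apply sτ a; have s2 := sq_apply sτ (η a); have s3 := sq_apply sτ c
    have w2 : π' w * π' w = 1 := by
      rw [← P.h'.mul (P.h'.cen hw) (P.h'.cen hw), P.h'.sq_tt hw B.rotate e, P.h'.map_t]
    obtain ⟨-, _, _, _, _, _, _, _, _, _⟩ := B
    have := fin _ (cm w hw cw.symm w2) (by
      rw [e]; simp only [tt, Perm.mul_apply, swap_apply_def]; grind)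
    rw [e] at this
    simp only [tt, Perm.mul_apply, swap_apply_def] at this
    grind

namespace SCov
variable (h : SCov t L π)
include h

theorem pair {g : G} (c : Commute (g * t * g⁻¹) t) (hne : g * t * g⁻¹ ≠ t) :
    SPair t L π (g * t * g⁻¹) (L.map (MulAut.conj g).toMonoidHom) (fun k => π (g⁻¹ * k * g)) := by
  refine ⟨h, h.conj g, c, fun {r} h1 h2 r2 => ?_⟩
  by_contra r1
  have := h.tight (g := g⁻¹) h1 (orderOf_eq_prime (by rw [pow_two, r2]) r1)
    (by simpa using mem_cent_conj.1 h2)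
  apply hne
  rw [(Commute.inv_left_iff.1 this).eq]; group

theorem fuse {s : G} (hs : s ∈ L) (s2 : s * s = 1) (s1 : s ≠ 1) (st : s ≠ t) :
    ∃ u ∈ L, u * s * u⁻¹ = s * t := by
  have h8 := (h.cov.eight_le (h.cL ⟨s, hs⟩) (Subtype.ext s2) (fun e => s1 (congrArg Subtype.val e))
    (fun e => st (congrArg Subtype.val e))).1
  obtain ⟨a, b, c, B⟩ := exists_blk3'' (σ := π s)
    (by rw [← h.mul (h.cen hs) (h.cen hs), s2, h.map_one]) (by simp only at h8; omega)
  obtain ⟨u, hu, -, e⟩ := h.exists_swap hs B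
  exact ⟨u, hu, e⟩

theorem conj_inv (h11 : Fintype.card Ω ≤ 11) {s : G} (hx : x ∈ L) (x2 : x * x = 1) (x1 : x ≠ 1)
    (xt : x ≠ t) (hs : s ∈ L) (s2 : s * s = 1) (s1 : s ≠ 1) (st : s ≠ t) :
    ∃ k ∈ L, k * x * k⁻¹ = s := by
  obtain ⟨k, -, e⟩ := h.cov.conj_inv h11 (h.cL ⟨x, hx⟩) (Subtype.ext x2)
    (fun e => x1 (congrArg Subtype.val e)) (fun e => xt (congrArg Subtype.val e)) (h.cL ⟨s, hs⟩)
    (Subtype.ext s2) (fun e => s1 (congrArg Subtype.val e)) (fun e => st (congrArg Subtype.val e))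
  rcases e with e | e
  · exact ⟨k, k.2, congrArg Subtype.val e⟩
  · obtain ⟨u, hu, e'⟩ := h.fuse hs s2 s1 st
    refine ⟨u⁻¹ * k, L.mul_mem (L.inv_mem hu) k.2, ?_⟩
    have e : (k : G) * x * (k : G)⁻¹ = s * t := congrArg Subtype.val e
    calc _ = u⁻¹ * ((k : G) * x * (k : G)⁻¹) * u := by group
      _ = s := by rw [e, ← e']; group

/-- the covering map -/
def hom : L →* alternatingGroup Ω where
  toFun k := ⟨π k, mem_alternatingGroup.2 (h.even k.2)⟩
  map_one' := Subtype.ext h.map_one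
  map_mul' k l := Subtype.ext (h.mul (h.cen k.2) (h.cen l.2))

theorem not_solvable (h5 : 5 ≤ Fintype.card Ω) : ¬ Group.IsSolvable L := by
  intro hs
  have hsurj : Function.Surjective h.hom := fun σ => by
    obtain ⟨g, hg, e⟩ := h.surj (mem_alternatingGroup.1 σ.2)
    exact ⟨⟨g, hg⟩, Subtype.ext e⟩
  have := Group.isSolvable_of_surjective hsurj
  have := alternatingGroup.isSimpleGroup (α := Ω) (by rwa [Nat.card_eq_fintype_card])
  have hc := (IsSimpleGroup.comm_iff_isSolvable (G := alternatingGroup Ω)).2 inferInstance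
  obtain ⟨f⟩ : Nonempty (Fin 4 ↪ Ω) := Function.Embedding.nonempty_of_card_le (by simp; omega)
  have n : ∀ {i j : Fin 4}, i ≠ j → f i ≠ f j := fun e => f.injective.ne e
  have h1 := hc ⟨_, c3_mem_alternatingGroup (n (i := 0) (j := 1) (by decide))
    (n (i := 1) (j := 2) (by decide))⟩ ⟨_, c3_mem_alternatingGroup (n (i := 0) (j := 1) (by decide))
    (n (i := 1) (j := 3) (by decide))⟩
  have h2 := congrArg (fun σ : alternatingGroup Ω => (σ : Perm Ω) (f 0)) h1
  simp only [Subgroup.coe_mul, Perm.mul_apply] at h2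
  rw [c3_apply_fst (n (by decide)) (n (by decide)), c3_apply_fst (n (by decide)) (n (by decide)),
    c3_apply_snd (n (by decide)) (n (by decide)), c3_apply_snd (n (by decide)) (n (by decide))] at h2
  exact n (by decide) h2

variable [Finite G]

theorem odd_index (h8 : 8 ≤ Fintype.card Ω) (h11 : Fintype.card Ω ≤ 11) :
    Odd (centralizer ({t} : Set G)).index := by
  refine odd_index_of_fuse h.sq h.ne fun y hy c ne => ?_
  obtain ⟨g, rfl⟩ := isConj_iff.1 hy
  have P := h.pair c ne
  obtain ⟨u, -, e⟩ := h.fuse (P.mem h8 h11) P.h'.sq P.h'.ne ne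
  exact hy.trans (isConj_iff.2 ⟨u, e⟩)

theorem all_even (h8 : 8 ≤ Fintype.card Ω) (h11 : Fintype.card Ω ≤ 11)
    (h2 : ∀ M : Subgroup G, M.Normal → M.index ≠ 2) {g : G} (c : Commute (g * t * g⁻¹) t)
    (hne : g * t * g⁻¹ ≠ t) (s₀ : G) (hs₀ : Commute s₀ t) : sign (π s₀) = 1 := by
  by_contra hodd
  have hodd := (Int.units_eq_one_or _).resolve_left hodd
  have P := h.pair c hne
  obtain ⟨s, st, s2, hs⟩ : ∃ s, Commute s t ∧ s * s = 1 ∧ sign (π s) = -1 := by
    obtain ⟨f⟩ : Nonempty (Fin 6 ↪ Ω) := Function.Embedding.nonempty_of_card_le (by simp; omega)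
    have n : ∀ {i j : Fin 6}, i ≠ j → f i ≠ f j := fun e => f.injective.ne e
    obtain ⟨l, hl, e⟩ := h.surj (σ := swap (f 0) (f 1) * (π s₀)⁻¹) (by
      rw [map_mul, sign_swap (n (by decide)), sign_inv, hodd]; decide)
    have c1 := (h.cen hl).mul_left hs₀
    obtain ⟨j, m, hm, e1⟩ := Nat.exists_eq_two_pow_mul_odd (orderOf_pos (l * s₀)).ne'
    have c2 := c1.pow_left m
    have e2 : π ((l * s₀) ^ m) = swap (f 0) (f 1) := by
      obtain ⟨k, rfl⟩ := hm
      rw [h.map_pow c1, h.mul (h.cen hl) hs₀, e, inv_mul_cancel_right, pow_succ, pow_mul, pow_two,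
        swap_mul_self, one_pow, one_mul]
    have e3 : ((l * s₀) ^ m) ^ 2 ^ j = 1 := by rw [← pow_mul, mul_comm m, ← e1, pow_orderOf_eq_one]
    set s₁ := (l * s₀) ^ m
    rcases P.twoK h8 h11 (j := j) (r := s₁ * s₁) ((h.kerK (c2.mul_left c2)).1 (by
      rw [h.mul c2 c2, e2, swap_mul_self])) (by rw [(Commute.refl s₁).mul_pow, e3, one_mul])
      with h1 | h1
    · exact ⟨s₁, c2, h1, by rw [e2, sign_swap (n (by decide))]⟩
    · obtain ⟨w, hw, ew⟩ := h.surj (σ := swap (f 2) (f 3) * swap (f 4) (f 5)) (by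
        rw [map_mul, sign_swap (n (by decide)), sign_swap (n (by decide))]; decide)
      have w2 := h.dbl hw (n (by decide)) (n (by decide)) (n (by decide)) (n (by decide))
        (n (by decide)) (n (by decide)) ew
      have fx : ∀ i : Fin 6, i ≠ 0 → i ≠ 1 → π s₁ (f i) = f i := fun i h0 h1 => by
        rw [e2, swap_apply_of_ne_of_ne (n h0) (n h1)]
      have cw := h.comm_dbl c2 hw (n (by decide)) (n (by decide)) (n (by decide)) (n (by decide))
        (n (by decide)) ew (fx _ (by decide) (by decide)) (fx _ (by decide) (by decide))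
        (fx _ (by decide) (by decide)) (fx _ (by decide) (by decide))
      refine ⟨s₁ * w, c2.mul_left (h.cen hw), ?_, ?_⟩
      · rw [← pow_two, cw.mul_pow, pow_two, pow_two, h1, w2, h.sq]
      · rw [h.mul c2 (h.cen hw), map_mul, h.even hw, e2, sign_swap (n (by decide)), mul_one]
  have s1 : s ≠ 1 := by rintro rfl; rw [h.map_one] at hs; simp at hs
  have st' : s ≠ t := by rintro rfl; rw [h.map_t] at hs; simp at hs
  let Q : Subgroup G :=
    { carrier := {k | Commute k t ∧ sign (π k) = 1}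
      mul_mem' := fun a b => ⟨a.1.mul_left b.1, by rw [h.mul a.1 b.1, map_mul, a.2, b.2, mul_one]⟩
      one_mem' := ⟨Commute.one_left t, by rw [h.map_one, _root_.map_one]⟩
      inv_mem' := fun a => ⟨a.1.inv_left, by rw [h.map_inv a.1, sign_inv, a.2]⟩ }
  have hQ : Q.relIndex (centralizer ({t} : Set G)) = 2 := by
    rw [Subgroup.relIndex, index_eq_two_iff]
    refine ⟨⟨s, mem_centralizer_singleton_iff.2 st⟩, fun b => ?_⟩
    have bt : Commute (b : G) t := mem_centralizer_singleton_iff.1 b.2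
    have e1 : (b * ⟨s, mem_centralizer_singleton_iff.2 st⟩ ∈ Q.subgroupOf _) ↔
        sign (π b) = -1 := by
      rw [mem_subgroupOf]
      show (Commute ((b : G) * s) t ∧ sign (π ((b : G) * s)) = 1) ↔ _
      rw [h.mul bt st, map_mul, hs]
      rcases Int.units_eq_one_or (sign (π b)) with e | e <;> simp [e, bt.mul_left st]
    have e2 : (b ∈ Q.subgroupOf _) ↔ sign (π b) = 1 := by
      rw [mem_subgroupOf]; exact and_iff_right bt
    rw [e1, e2]
    rcases Int.units_eq_one_or (sign (π b)) with e | e <;> simp [e]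
  rcases Transfer.thompson_transfer (h.odd_index h8 h11) hQ
    (orderOf_eq_prime (by rw [pow_two, s2]) s1) with ⟨M, h3, h4, -⟩ | ⟨k, k1, k2⟩
  · exact h2 M h3 h4
  have k3 : k * s * k⁻¹ * (k * s * k⁻¹) = 1 := by
    calc _ = k * (s * s) * k⁻¹ := by group
      _ = 1 := by rw [s2]; group
  have k4 := P.mem_of_two h8 h11 (j := 1) k1 k2 (by rw [pow_one, pow_two, k3])
  obtain ⟨g', e⟩ : ∃ g', g' * t * g'⁻¹ = s := by
    by_cases k5 : k * s * k⁻¹ = t
    · exact ⟨k⁻¹, by rw [← k5]; group⟩
    · obtain ⟨l, -, e⟩ := h.conj_inv h11 (P.mem h8 h11) P.h'.sq P.h'.ne hne k4 k3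
        (fun e => s1 (by simpa using e)) k5
      exact ⟨k⁻¹ * l * g, by
        calc _ = k⁻¹ * (l * (g * t * g⁻¹) * l⁻¹) * k := by group
          _ = s := by rw [e]; group⟩
  subst e
  rw [(h.pair st st').symm.even h8] at hs
  simp at hs

theorem centralizer_eq [IsSimpleGroup G] (hG : ¬ IsMulCommutative G) (h8 : 8 ≤ Fintype.card Ω)
    (h11 : Fintype.card Ω ≤ 11) : centralizer ({t} : Set G) = L := by
  have ncen : ¬ ∀ g, Commute g t := fun hc => by
    rcases (inferInstance : (center G).Normal).eq_bot_or_eq_top with e | e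
    · have : t ∈ center G := mem_center_iff.2 fun g => (hc g).eq
      rw [e] at this; exact h.ne this
    · exact hG ⟨⟨fun a b => (mem_center_iff.1 (e ▸ mem_top b : b ∈ center G) a)⟩⟩
  have h2 : ∀ M : Subgroup G, M.Normal → M.index ≠ 2 := fun M hM hi => by
    rcases hM.eq_bot_or_eq_top with rfl | rfl
    · rw [index_bot] at hi
      have := isCyclic_of_prime_card (p := 2) hi
      exact hG inferInstance
    · simp at hi
  obtain ⟨g, c, hne⟩ : ∃ g, Commute (g * t * g⁻¹) t ∧ g * t * g⁻¹ ≠ t := by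
    by_contra hc
    push Not at hc
    have hz := Block.zstar (u := t) ⟨h.orderOf_t, fun g e => hc g e.symm⟩
    rcases (inferInstance : (pPrimeCore 2 G).Normal).eq_bot_or_eq_top with e | e
    · refine ncen fun g => ?_
      have := hz g
      rw [e, mem_bot, mul_inv_eq_one, mul_inv_eq_iff_eq_mul] at this
      exact this.symm
    · have := Nat.coprime_two_right.1
        (Grp.orderOf_coprime_of_mem_pPrimeCore (e ▸ mem_top t : t ∈ pPrimeCore 2 G))
      rw [h.orderOf_t] at this
      exact absurd this (by decide)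
  have P := h.pair c hne
  have hev := h.all_even h8 h11 h2 c hne
  have hev' : ∀ k, Commute k (g * t * g⁻¹) → sign (π (g⁻¹ * k * g)) = 1 := fun k e => hev _ (by
    show _ = _
    calc _ = g⁻¹ * (k * (g * t * g⁻¹)) * g := by group
      _ = _ := by rw [e.eq]; group)
  let U : Set G := {u | u ∈ centralizer (L : Set G) ∧ Odd (orderOf u)}
  have oc : ∀ k u : G, orderOf (k * u * k⁻¹) = orderOf u := fun k u => (MulAut.conj k).orderOf_eq u
  have cK : ∀ k u : G, Commute k t → u ∈ centralizer (L : Set G) →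
      k * u * k⁻¹ ∈ centralizer (L : Set G) := fun k u hk hu =>
    (h.kerK ((hk.mul_left (h.cenK hu)).mul_left hk.inv_left)).1 (by
      rw [h.map_conj hk (h.cenK hu), (h.kerK (h.cenK hu)).2 hu]; group)
  have hC : ∀ k, Commute k t → k ∈ normalizer U := fun k hk => by
    rw [mem_set_normalizer_iff]
    refine fun u => ⟨fun hu => ⟨cK k u hk hu.1, (oc k u).symm ▸ hu.2⟩, fun hu => ⟨?_, oc k u ▸ hu.2⟩⟩
    have := cK k⁻¹ _ hk.inv_left hu.1
    simpa [mul_assoc] using this
  have hg : g ∈ normalizer U := by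
    rw [mem_set_normalizer_iff]
    refine fun u => ⟨fun hu => ⟨?_, (oc g u).symm ▸ hu.2⟩, fun hu => ⟨?_, oc g u ▸ hu.2⟩⟩
    · exact P.symm.oddK h8 h11 hev' (mem_cent_conj.2 (by simpa [mul_assoc] using hu.1)) hu.2
        (by rw [conj_pow, pow_orderOf_eq_one]; group)
    · have := mem_cent_conj.1 (P.oddK h8 h11 hev hu.1 hu.2 (pow_orderOf_eq_one _))
      simpa [mul_assoc] using this
  have hM : normalizer U = ⊤ := by
    refine eq_top_of_one_class h.orderOf_t hC (fun s hs s2 => ?_) c P.h'.orderOf_t hne fun hs => ?_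
    · have s2' : s * s = 1 := by rw [← pow_two, ← s2, pow_orderOf_eq_one]
      by_cases st : s = t
      · exact ⟨1, one_mem _, by simp [st]⟩
      obtain ⟨l, hl, e⟩ := h.conj_inv h11 (P.mem h8 h11) P.h'.sq P.h'.ne hne
        (P.mem_of_two h8 h11 (j := 1) hs (hev s hs) (by rw [pow_one, pow_two, s2'])) s2'
        (fun e => by simp [e] at s2) st
      exact ⟨l * g, mul_mem (hC l (h.cen hl)) hg, by rw [← e]; group⟩
    · exact h.not_solvable (by omega) (Group.isSolvable_of_isSolvable_injective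
        (inclusion_injective (show L ≤ normalizer U from fun l hl => hC l (h.cen hl))))
  have hU : ∀ u ∈ U, u = 1 := by
    have hle : normalClosure U ≤ centralizer (L : Set G) := by
      rw [normalClosure, closure_le]
      intro y hy
      obtain ⟨u, hu, e⟩ := Group.mem_conjugatesOfSet_iff.1 hy
      obtain ⟨k, rfl⟩ := isConj_iff.1 e
      exact ((mem_set_normalizer_iff.1 (hM ▸ mem_top k : k ∈ normalizer U) u).1 hu).1
    rcases (inferInstance : (normalClosure U).Normal).eq_bot_or_eq_top with e | e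
    · intro u hu
      have := subset_normalClosure hu
      rwa [e] at this
    · exact absurd (fun g => h.cenK (hle (e ▸ mem_top g))) ncen
  refine le_antisymm (fun k hk => ?_) fun k hk => mem_centralizer_singleton_iff.2 (h.cen hk)
  have kt : Commute k t := mem_centralizer_singleton_iff.1 hk
  obtain ⟨l, hl, e⟩ := h.surj (hev k kt)
  have lt := h.cen hl
  have hK : l⁻¹ * k ∈ centralizer (L : Set G) := (h.kerK (lt.inv_left.mul_left kt)).1 (by
    rw [h.mul lt.inv_left kt, h.map_inv lt, e, inv_mul_cancel])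
  obtain ⟨j, m, hm, e1⟩ := Nat.exists_eq_two_pow_mul_odd (orderOf_pos (l⁻¹ * k)).ne'
  rcases P.twoK h8 h11 (j := j) hK (hU _ ⟨pow_mem hK _, hm.of_dvd_nat (orderOf_dvd_of_pow_eq_one
    (by rw [← pow_mul, ← e1, pow_orderOf_eq_one]))⟩) with h1 | h1
  · rw [inv_mul_eq_one.1 h1] at hl; exact hl
  · rw [inv_mul_eq_iff_eq_mul.1 h1]; exact L.mul_mem hl h.tL

end SCov

/-- a standard subgroup `2.A_n` gives an `SCov` -/
theorem exists_scov {G : Type*} [Group G] [Finite G] {L : Subgroup G} {n : ℕ} (hn : 7 ≤ n)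
    (hL : Cfsg.IsStandardSubgroup L)
    (hcov : Cfsg.IsNonsplitDoubleCover L (alternatingGroup (Fin n))) :
    ∃ (t : G) (π : G → Perm (Fin n)), SCov t L π := by
  classical
  obtain ⟨-, ⟨-, hT⟩, -, hN⟩ := hL
  obtain ⟨T, hT1, hT2⟩ := (Nat.card_eq_two_iff' (1 : center L)).1 hcov.1
  have o2 : orderOf (T : L) = 2 := by
    refine orderOf_eq_prime ?_ fun e => hT1 (Subtype.ext e)
    have := pow_card_eq_one' (x := T)
    rw [hcov.1] at this
    exact congrArg Subtype.val this
  have cT : ∀ g : L, Commute g (T : L) := fun g => mem_center_iff.1 T.2 g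
  have htop : centralizer ({(T : L)} : Set L) = ⊤ :=
    eq_top_iff.2 fun g _ => mem_centralizer_singleton_iff.2 (cT g)
  obtain ⟨π₀, c₀⟩ := exists_cov (Ω := Fin n) o2 (by
    rw [htop]
    obtain ⟨h1, ⟨e⟩, h3⟩ := hcov
    have hm : (center (⊤ : Subgroup L)).map (topEquiv (G := L) : _ →* L) = center L := by
      ext z
      constructor
      · rintro ⟨w, hw, rfl⟩
        exact mem_center_iff.2 fun g => congrArg Subtype.val (mem_center_iff.1 hw ⟨g, mem_top g⟩)
      · intro hz
        exact ⟨⟨z, mem_top z⟩, mem_center_iff.2 fun g => Subtype.ext (mem_center_iff.1 hz g), rfl⟩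
    refine ⟨?_, ⟨(QuotientGroup.congr _ _ topEquiv hm).trans e⟩, fun M hM => h3 (M.map (topEquiv (G := L) : _ →* L)) ?_⟩
    · rw [← h1, ← hm]; exact (Subgroup.card_map_of_injective topEquiv.injective).symm
    · rw [← hm]
      refine isComplement'_of_disjoint_and_mul_eq_univ
        (disjoint_map topEquiv.injective hM.disjoint) ?_
      rw [Set.eq_univ_iff_forall]
      intro g
      obtain ⟨⟨a, b⟩, e⟩ := hM.2 ⟨g, mem_top g⟩
      exact ⟨_, ⟨a, a.2, rfl⟩, _, ⟨b, b.2, rfl⟩, congrArg Subtype.val e⟩)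
  set t : G := ((T : L) : G) with ht
  have cen : ∀ {g : G}, g ∈ L → Commute g t := fun {g} hg => congrArg Subtype.val (cT ⟨g, hg⟩).eq
  have tK : t ∈ centralizer (L : Set G) := mem_centralizer_iff.2 fun _ hg => (cen hg).eq
  have o2' : orderOf t = 2 := by rw [ht, Subgroup.orderOf_coe, o2]
  have tg : ∀ {r g : G}, r ∈ centralizer (L : Set G) → orderOf r = 2 →
      g * r * g⁻¹ ∈ centralizer (L : Set G) → g ∈ normalizer (L : Set G) := by
    intro r g hr r2 hg
    rw [hN]
    by_contra hn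
    have h1 := (hT g hn).of_dvd_nat (Subgroup.orderOf_dvd_natCard _
      (show g * r * g⁻¹ ∈ _ ⊓ _ from ⟨hg, r, hr, rfl⟩))
    rw [show orderOf (g * r * g⁻¹) = orderOf r from (MulAut.conj g).orderOf_eq r, r2] at h1
    exact absurd h1 (by decide)
  have norm : ∀ {g k : G}, Commute g t → k ∈ L → g * k * g⁻¹ ∈ L := fun {g k} hg hk =>
    (mem_normalizer_iff.1 (tg tK o2' (by rw [hg.eq, mul_inv_cancel_right]; exact tK)) k).1 hk
  have nt : ∀ {g : G}, g ∈ normalizer (L : Set G) → Commute g t := fun {g} hg => by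
    have h1 : g * t * g⁻¹ ∈ L := (mem_normalizer_iff.1 hg t).1 (T : L).2
    have h2 : (⟨_, h1⟩ : L) ∈ center L := mem_center_iff.2 fun k => Subtype.ext (by
      have := cen ((mem_normalizer_iff.1 (inv_mem hg) k).1 k.2)
      show k * (g * t * g⁻¹) = g * t * g⁻¹ * k
      calc _ = g * (g⁻¹ * k * g⁻¹⁻¹ * t) * g⁻¹ := by group
        _ = _ := by rw [this.eq]; group)
    have h3 := hT2 ⟨_, h2⟩ fun e => by
      have e1 : g * t * g⁻¹ = 1 := congrArg (fun z : center L => ((z : L) : G)) e
      have : t = 1 := by simpa using e1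
      rw [this] at o2'; simp at o2'
    exact mul_inv_eq_iff_eq_mul.1 (congrArg (fun z : center L => ((z : L) : G)) h3)
  let p : L →* alternatingGroup (Fin n) :=
    { toFun := fun k => ⟨π₀ k, mem_alternatingGroup.2 (c₀.even (cT k))⟩
      map_one' := Subtype.ext c₀.map_one
      map_mul' := fun k l => Subtype.ext (c₀.mul (cT k) (cT l)) }
  have ps : Function.Surjective p := fun σ => by
    obtain ⟨g, -, e⟩ := c₀.surj σ (mem_alternatingGroup.1 σ.2)
    exact ⟨g, Subtype.ext e⟩
  have uniq : ∀ ρ : Perm (Fin n), (∀ k : L, ρ * π₀ k * ρ⁻¹ = π₀ k) → ρ = 1 := fun ρ h =>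
    eq_one_of_commute_threeCycles (by simp; omega) fun σ hσ => by
      obtain ⟨k, -, rfl⟩ := c₀.surj σ hσ.sign
      exact mul_inv_eq_iff_eq_mul.1 (h k)
  have ex : ∀ g, ∃ ρ : Perm (Fin n), ∀ (hg : Commute g t) (k : L),
      π₀ ⟨g * k * g⁻¹, norm hg k.2⟩ = ρ * π₀ k * ρ⁻¹ := fun g => by
    by_cases hg : Commute g t
    swap
    · exact ⟨1, fun h => absurd h hg⟩
    let α : L →* L :=
      { toFun := fun k => ⟨g * k * g⁻¹, norm hg k.2⟩
        map_one' := Subtype.ext (by simp)
        map_mul' := fun k l => Subtype.ext (by simp) }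
    have hker : ∀ k, p (α k) = 1 ↔ p k = 1 := fun k => by
      have e1 : ∀ k, p k = 1 ↔ k = 1 ∨ k = T := fun k =>
        ⟨fun e => c₀.ker (cT k) (congrArg Subtype.val e), fun e => by
          rcases e with rfl | rfl
          · exact p.map_one
          · exact Subtype.ext c₀.map_t⟩
      rw [e1, e1]
      simp only [Subtype.ext_iff]
      show (g * k * g⁻¹ = 1 ∨ g * k * g⁻¹ = t) ↔ ((k : G) = 1 ∨ (k : G) = t)
      rw [mul_inv_eq_iff_eq_mul, mul_inv_eq_iff_eq_mul, one_mul, ← hg.eq]
      simp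
    let ψ := p.liftOfSurjective ps ⟨p.comp α, fun k hk => (hker k).2 hk⟩
    have hψ : ∀ k, ψ (p k) = p (α k) := fun k => MonoidHom.liftOfRightInverse_comp_apply _ _ _ _ _
    have hi : Function.Injective ψ := by
      rw [injective_iff_map_eq_one]
      intro σ e
      obtain ⟨k, rfl⟩ := ps σ
      exact (hker k).1 ((hψ k).symm.trans e)
    obtain ⟨ρ, e⟩ := (S2119.result n (by omega) (by omega)).2
      (MulEquiv.ofBijective ψ (Finite.injective_iff_bijective.1 hi))
    refine ⟨ρ, fun _ k => ?_⟩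
    have := congrArg (fun f : MulAut (alternatingGroup (Fin n)) => (f (p k) : Perm (Fin n))) e
    simp only [MulAut.conjNormal_apply, MulEquiv.ofBijective_apply, hψ] at this
    exact this.symm
  choose π hπ using ex
  have eqπ : ∀ {g : G} (hg : Commute g t) (ρ : Perm (Fin n)),
      (∀ k : L, π₀ ⟨g * k * g⁻¹, norm hg k.2⟩ = ρ * π₀ k * ρ⁻¹) → π g = ρ := fun {g} hg ρ h => by
    refine (inv_mul_eq_one.1 (uniq (ρ⁻¹ * π g) fun k => ?_)).symm
    calc _ = ρ⁻¹ * (π g * π₀ k * (π g)⁻¹) * ρ := by group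
      _ = _ := by rw [← hπ g hg, h]; group
  have πL : (fun g : L => π g) = π₀ := funext fun g =>
    eqπ (cen g.2) _ fun k => c₀.map_conj (cT g) (cT k)
  refine ⟨t, π, (T : L).2, cen, πL ▸ c₀, norm, fun {g k} hg hk => eqπ (hg.mul_left hk) _ fun l => ?_,
    fun {g} hg => ⟨fun e => ?_, fun e => eqπ hg _ fun k => ?_⟩, fun hr r2 hg => nt (tg hr r2 hg)⟩
  · have := hπ g hg ⟨_, norm hk l.2⟩
    rw [hπ k hk] at this
    refine Eq.trans (congrArg π₀ (Subtype.ext ?_)) (this.trans (by group))
    show g * k * l * (g * k)⁻¹ = g * (k * l * k⁻¹) * g⁻¹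
    group
  · let C : Subgroup (Perm (Fin n)) :=
      { carrier := {σ | ∃ k : L, π₀ k = σ ∧ Commute g k}
        mul_mem' := by
          rintro _ _ ⟨k, rfl, k1⟩ ⟨l, rfl, l1⟩
          exact ⟨k * l, c₀.mul (cT k) (cT l), k1.mul_right l1⟩
        one_mem' := ⟨1, c₀.map_one, Commute.one_right g⟩
        inv_mem' := by
          rintro _ ⟨k, rfl, k1⟩
          exact ⟨k⁻¹, c₀.map_inv (cT k), k1.inv_right⟩ }
    have hC : alternatingGroup (Fin n) ≤ C := by
      rw [← closure_three_cycles_eq_alternating, closure_le]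
      intro σ hσ
      obtain ⟨k, -, e1, e2⟩ := c₀.exists_lift_odd (σ := σ) (m := 3) (by decide)
        (by rw [← IsThreeCycle.orderOf hσ, pow_orderOf_eq_one])
      refine ⟨k, e1, mul_inv_eq_iff_eq_mul.1 (congrArg Subtype.val
        (c₀.eq_of_odd (cT ⟨_, norm hg k.2⟩) (cT k) (by rw [hπ g hg, e]; simp) (m := 3) (by decide)
          (Subtype.ext ?_) e2))⟩
      have : (k : G) ^ 3 = 1 := congrArg Subtype.val e2
      show (g * k * g⁻¹) ^ 3 = 1
      rw [conj_pow, this]; group
    refine mem_centralizer_iff.2 fun l hl => ?_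
    obtain ⟨k, e1, e2⟩ := hC (mem_alternatingGroup.2 (c₀.even (cT ⟨l, hl⟩)))
    rcases c₀.eq_or (cT ⟨l, hl⟩) (cT k) e1.symm with e3 | e3
    · rw [show l = k from congrArg Subtype.val e3]; exact e2.symm
    · rw [show l = k * t from congrArg Subtype.val e3]; exact (e2.mul_right hg).symm
  · rw [one_mul, inv_one, mul_one]
    congr 1
    apply Subtype.ext
    show g * k * g⁻¹ = k
    rw [← mem_centralizer_iff.1 e k k.2]; group

/-- in a simple group a standard subgroup `2.A_n`, `8 ≤ n ≤ 11`, is an involution centraliser -/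
theorem exists_centralizer_eq {G : Type*} [Group G] [Finite G] [IsSimpleGroup G]
    (hG : ¬ IsMulCommutative G) {L : Subgroup G} {n : ℕ} (h8 : 8 ≤ n) (h11 : n ≤ 11)
    (hL : Cfsg.IsStandardSubgroup L)
    (hcov : Cfsg.IsNonsplitDoubleCover L (alternatingGroup (Fin n))) :
    ∃ t : G, orderOf t = 2 ∧ centralizer ({t} : Set G) = L := by
  obtain ⟨t, π, h⟩ := exists_scov (by omega) hL hcov
  exact ⟨t, h.orderOf_t, h.centralizer_eq hG (by simpa) (by simpa)⟩

end Cfsg.Agent.LyMc
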